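import Groth.Agent.Lib.CohDelta.Open

/-!
# Restriction along an open embedding commutes with restriction of classes
-/

set_option linter.style.haveILetI false

universe u

open CategoryTheory CategoryTheory.Limits TopologicalSpace Opposite CategoryTheory.Abelian
open Groth.Agent.Lib.ZarCoh.Basic Groth.Agent.Lib.ZarCoh.Compare Groth.Agent.Lib.CohDelta.Open

namespace Groth.Agent.Lib.CohDelta.Bridge

variable {T X : TopCat.{u}} {e : T ⟶ X} (he : Topology.IsOpenEmbedding e)

theorem openGen_natural {V' V : Opens T} (i : V' ⟶ V) :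
    Zs.map i ≫ openGen he V = openGen he V' ≫ (rst he).map (Zs.map (he.functor.map i)) := by
  apply (homEquiv V' _).injective
  rw [homEquiv_res, homEquiv_comp, openGen, openGen]
  refine ((congrArg _ ((homEquiv V _).apply_symm_apply _)).trans ?_).trans
    (congrArg _ ((homEquiv V' _).apply_symm_apply _)).symm
  exact (map_gen (he.functor.map i)).symm

/-- `restrMap` commutes with restriction of classes. -/
theorem restrMap_rs (G : CohTop.Ab X) (n : ℕ) {V' V : Opens T} (h : V' ≤ V)
    (h' : he.functor.obj V' ≤ he.functor.obj V) (x : Ext.{u} (Zs.obj (he.functor.obj V)) G n) :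
    restrMap he V' n G (rs G n h' x) = rs ((rst he).obj G) n h (restrMap he V n G x) := by
  rw [restrMap, restrMap, rs_apply, rs_apply, cmp_apply, cmp_apply, Ext.mapExactFunctor_comp,
    Ext.mapExactFunctor_mk₀, Ext.mk₀_comp_mk₀_assoc, Ext.mk₀_comp_mk₀_assoc, openGen_natural]
  rfl

/-- `Hⁿ(V, G|_T) = Hⁿ(W, G)` for `W = e(V)`. -/
noncomputable def alpha (G : CohTop.Ab X) (n : ℕ) {V : Opens T} {W : Opens X}
    (hW : he.functor.obj V = W) :
    Ext.{u} (Zs.obj V) ((rst he).obj G) n ≃+ Ext.{u} (Zs.obj W) G n :=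
  (restrEquiv he V n G).symm.trans (rsEquiv G n hW)

theorem alpha_apply (G : CohTop.Ab X) (n : ℕ) {V : Opens T} {W : Opens X}
    (hW : he.functor.obj V = W) (y : Ext.{u} (Zs.obj V) ((rst he).obj G) n) :
    alpha he G n hW y = rs G n hW.ge ((restrEquiv he V n G).symm y) := rfl

theorem alpha_comp {G G' : CohTop.Ab X} {n m p : ℕ} {V : Opens T} {W : Opens X}
    (hW : he.functor.obj V = W) (y : Ext.{u} (Zs.obj V) ((rst he).obj G) n)
    (z : Ext.{u} G G' m) (hp : n + m = p) :
    alpha he G' p hW (y.comp (z.mapExactFunctor (rst he)) hp) = (alpha he G n hW y).comp z hp := by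
  rw [alpha_apply, alpha_apply]
  refine Eq.trans (congrArg (rs G' p _) ?_) (rs_comp n hp _ _ z)
  refine (AddEquiv.symm_apply_eq _).2 ?_
  show _ = restrMap he V p G' _
  rw [restrMap, cmp_comp]
  congr 1
  exact ((restrEquiv he V n G).apply_symm_apply _).symm

theorem alpha_rs (G : CohTop.Ab X) (n : ℕ) {V' V : Opens T} (h : V' ≤ V) {W' W : Opens X}
    (hW : he.functor.obj V = W) (hW' : he.functor.obj V' = W') (hle : W' ≤ W)
    (y : Ext.{u} (Zs.obj V) ((rst he).obj G) n) :
    alpha he G n hW' (rs _ n h y) = rs G n hle (alpha he G n hW y) := by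
  subst hW hW'
  rw [alpha_apply, alpha_apply]
  obtain ⟨x, rfl⟩ := (restrEquiv he V n G).surjective y
  rw [AddEquiv.symm_apply_apply]
  have e1 : rs ((rst he).obj G) n h (restrEquiv he V n G x) =
      restrEquiv he V' n G (rs G n hle x) := (restrMap_rs he G n h hle x).symm
  rw [e1, AddEquiv.symm_apply_apply]
  rw [rs_apply, rs_apply, rs_apply, rs_apply, Ext.mk₀_comp_mk₀_assoc, Ext.mk₀_comp_mk₀_assoc,
    ← Functor.map_comp, ← Functor.map_comp]
  rfl

theorem alpha_mk₀ (G : CohTop.Ab X) {V : Opens T} {W : Opens X} (hW : he.functor.obj V = W)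
    (s : G.obj.obj (op W)) :
    alpha he G 0 hW (Ext.mk₀ ((homEquiv V ((rst he).obj G)).symm (G.obj.map (eqToHom hW).op s))) =
      Ext.mk₀ ((homEquiv W G).symm s) := by
  subst hW
  rw [alpha_apply]
  have h1 : restrMap he V 0 G (Ext.mk₀ ((homEquiv (he.functor.obj V) G).symm s)) =
      Ext.mk₀ ((homEquiv V ((rst he).obj G)).symm
        (G.obj.map (eqToHom (rfl : he.functor.obj V = _)).op s)) := by
    rw [restrMap, cmp_mk₀]
    congr 1
    apply (homEquiv V _).injective
    rw [homEquiv_comp, openGen]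
    refine (congrArg _ (Equiv.apply_symm_apply _ _)).trans ?_
    refine (homEquiv_apply _).symm.trans ((Equiv.apply_symm_apply _ _).trans ?_)
    refine Eq.trans ?_ ((homEquiv V ((rst he).obj G)).apply_symm_apply _).symm
    simp
  rw [((restrEquiv he V 0 G).symm_apply_eq).2 h1.symm, rs_apply, Ext.mk₀_comp_mk₀,
    Subsingleton.elim (homOfLE (le_refl (he.functor.obj V))) (𝟙 _), CategoryTheory.Functor.map_id,
    Category.id_comp]

end Groth.Agent.Lib.CohDelta.Bridge
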