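import Groth.Agent.Lib.CohDelta.Loc

/-!
# A locally bijective comparison out of qcqs cohomology is bijective over an affine base

`Cmp f M p G`: maps `Hᵖ(f⁻¹W, M) → G(W)`, natural in `W`, locally surjective and locally injective.
For `f` qcqs, `M` quasi-coherent and `S` affine, the map is bijective on `S` (and injective on every
basic open).
-/

set_option linter.style.haveILetI false
set_option maxHeartbeats 1000000

universe u

open CategoryTheory CategoryTheory.Limits AlgebraicGeometry TopologicalSpace Opposite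
open CategoryTheory.Abelian
open Groth.Agent.Lib.ZarCoh.Basic

namespace Groth.Agent.Lib.CohDelta.Glue

variable {X S : Scheme.{u}}

/-- A locally bijective comparison. -/
structure Cmp (f : X ⟶ S) (M : X.Modules) (p : ℕ) (G : CohTop.Ab S.toPresheafedSpace.carrier) where
  /-- the comparison -/
  e (W : S.Opens) : Ext.{u} (Zs.obj (f ⁻¹ᵁ W)) (Coh.toAb M) p →+ G.obj.obj (op W)
  nat {V W : S.Opens} (h : W ≤ V) (x : Ext.{u} (Zs.obj (f ⁻¹ᵁ V)) (Coh.toAb M) p) :
    e W (rs (Coh.toAb M) p (f.preimage_mono h) x) = G.obj.map (homOfLE h).op (e V x)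
  surj (V : S.Opens) (t : G.obj.obj (op V)) (y : S) (hy : y ∈ V) :
    ∃ (W : S.Opens) (h : W ≤ V), y ∈ W ∧ ∃ x, e W x = G.obj.map (homOfLE h).op t
  inj (V : S.Opens) (x : Ext.{u} (Zs.obj (f ⁻¹ᵁ V)) (Coh.toAb M) p) (hx : e V x = 0) (y : S)
    (hy : y ∈ V) :
    ∃ (W : S.Opens) (h : W ≤ V), y ∈ W ∧ rs (Coh.toAb M) p (f.preimage_mono h) x = 0

variable (f : X ⟶ S) (M : X.Modules) [M.IsQuasicoherent] {p : ℕ}
  {G : CohTop.Ab S.toPresheafedSpace.carrier}

/-- The action of a function on the base. -/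
noncomputable def pb (h : Γ(S, ⊤)) : Coh.Γtop X := f.appTop h

theorem gOpen_pb (h : Γ(S, ⊤)) : Loc.gOpen (pb f h) = f ⁻¹ᵁ S.basicOpen h :=
  (Scheme.preimage_basicOpen f h).symm

theorem pb_mul (a b : Γ(S, ⊤)) : pb f (a * b) = pb f a * pb f b := map_mul f.appTop.hom a b

theorem pb_pow (a : Γ(S, ⊤)) (n : ℕ) : pb f (a ^ n) = pb f a ^ n := map_pow f.appTop.hom a n

theorem pb_add (a b : Γ(S, ⊤)) : pb f (a + b) = pb f a + pb f b := map_add f.appTop.hom a b

theorem pb_zero : pb f 0 = 0 := map_zero f.appTop.hom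

theorem pb_one : pb f 1 = 1 := map_one f.appTop.hom

variable [IsAffine S] [QuasiCompact f] [QuasiSeparated f]

omit [M.IsQuasicoherent] [QuasiCompact f] [QuasiSeparated f] in
/-- `h` is in the radical of an ideal containing powers of functions whose basic opens cover
`D(h)`. -/
theorem exists_pow_mem (I : Ideal Γ(S, ⊤)) (h : Γ(S, ⊤))
    (H : ∀ y : S, y ∈ S.basicOpen h → ∃ (k : Γ(S, ⊤)) (n : ℕ), y ∈ S.basicOpen k ∧ k ^ n ∈ I) :
    ∃ n : ℕ, h ^ n ∈ I := by
  suffices h ∈ I.radical from Ideal.mem_radical_iff.1 this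
  rw [Ideal.radical_eq_sInf, Ideal.mem_sInf]
  rintro P ⟨hIP, hP⟩
  by_contra hh
  have hmem : ∀ k : Γ(S, ⊤),
      (isAffineOpen_top S).fromSpec.base ⟨P, hP⟩ ∈ S.basicOpen k ↔ k ∉ P := fun k ↦ by
    have e := SetLike.ext_iff.1 ((isAffineOpen_top S).fromSpec_preimage_basicOpen k) ⟨P, hP⟩
    exact e
  obtain ⟨k, n, hk, hkI⟩ := H _ ((hmem h).2 hh)
  exact (hmem k).1 hk (hP.mem_of_pow_mem n (hIP hkI))

omit [M.IsQuasicoherent] [QuasiCompact f] [QuasiSeparated f] in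
theorem exists_basicOpen (V : S.Opens) {y : S} (hy : y ∈ V) :
    ∃ k : Γ(S, ⊤), S.basicOpen k ≤ V ∧ y ∈ S.basicOpen k :=
  (isAffineOpen_top S).exists_basicOpen_le ⟨y, hy⟩ trivial

theorem qc_preimage (V : S.Opens) (hV : IsAffineOpen V) :
    IsCompact ((f ⁻¹ᵁ V : X.Opens) : Set X) :=
  f.isCompact_preimage hV.isCompact

theorem loc (h k : Γ(S, ⊤)) :
    Loc.Sep M (pb f k) (f ⁻¹ᵁ S.basicOpen h) (f ⁻¹ᵁ S.basicOpen (h * k)) p ∧
      Loc.Extn M (pb f k) (f ⁻¹ᵁ S.basicOpen h) (f ⁻¹ᵁ S.basicOpen (h * k)) p := by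
  have hqs : IsQuasiSeparated ((⊤ : X.Opens) : Set X) :=
    f.isQuasiSeparated_preimage (isAffineOpen_top S).isQuasiSeparated
  have he : f ⁻¹ᵁ S.basicOpen (h * k) = f ⁻¹ᵁ S.basicOpen h ⊓ Loc.gOpen (pb f k) := by
    rw [Scheme.basicOpen_mul, gOpen_pb]
    rfl
  rw [he]
  exact Loc.localization M hqs (pb f k) le_top
    (qc_preimage f _ ((isAffineOpen_top S).basicOpen h)) p

variable (E : Cmp f M p G)

/-- Injectivity on basic opens. -/
theorem injective (h : Γ(S, ⊤)) : Function.Injective (E.e (S.basicOpen h)) := by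
  refine (injective_iff_map_eq_zero _).2 fun x hx ↦ ?_
  have h1 : S.basicOpen (1 * h) = S.basicOpen h := by rw [one_mul]
  have htop : S.basicOpen (1 : Γ(S, ⊤)) = ⊤ := Scheme.basicOpen_of_isUnit S isUnit_one
  have hle : S.basicOpen h ≤ S.basicOpen (1 : Γ(S, ⊤)) := le_top.trans htop.ge
  have hl := loc f M (p := p) 1 h
  rw [h1] at hl
  obtain ⟨n, y, hy⟩ := hl.2 (f.preimage_mono hle) x
  let I : Ideal Γ(S, ⊤) :=
    { carrier := {r | Loc.mulA M (pb f r) _ p y = 0}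
      zero_mem' := by simp only [Set.mem_setOf_eq, pb_zero, Loc.mulA_zero]
      add_mem' := fun {a b} ha hb ↦ by
        simp only [Set.mem_setOf_eq] at ha hb ⊢
        rw [pb_add, Loc.mulA_add, ha, hb, add_zero]
      smul_mem' := fun c a ha ↦ by
        simp only [Set.mem_setOf_eq] at ha ⊢
        rw [smul_eq_mul, pb_mul, ← Loc.mulA_mul, ha, map_zero] }
  obtain ⟨N, hN⟩ := exists_pow_mem I h fun z hz ↦ by
    obtain ⟨W, hW, hzW, hW0⟩ := E.inj _ x hx z hz
    obtain ⟨k, hkW, hzk⟩ := exists_basicOpen W hzW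
    have hk1 : S.basicOpen k ≤ S.basicOpen (1 : Γ(S, ⊤)) := le_top.trans htop.ge
    have e1 : S.basicOpen (1 * k) = S.basicOpen k := by rw [one_mul]
    have hlk := (loc f M (p := p) 1 k).1
    rw [e1] at hlk
    obtain ⟨m, hm⟩ := hlk (f.preimage_mono hk1) y (by
      rw [← Loc.rs_rs M (f.preimage_mono hle) (f.preimage_mono (hkW.trans hW)), hy,
        ← Loc.mulA_rs, ← Loc.rs_rs M (f.preimage_mono hW) (f.preimage_mono hkW), hW0, map_zero,
        map_zero])
    exact ⟨k, m, hzk, show Loc.mulA M (pb f (k ^ m)) _ p y = 0 by rw [pb_pow]; exact hm⟩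
  have hN' : Loc.mulA M (pb f h ^ N) _ p y = 0 := by rw [← pb_pow]; exact hN
  have h0 := congrArg (rs (Coh.toAb M) p (f.preimage_mono hle)) hN'
  rw [← Loc.mulA_rs, hy, Loc.mulA_pow, map_zero] at h0
  have hu : ∀ n : ℕ, f ⁻¹ᵁ S.basicOpen h ≤ Loc.gOpen (pb f h ^ n) := fun n ↦ by
    rw [← pb_pow, gOpen_pb]
    refine f.preimage_mono ?_
    cases n with
    | zero => rw [pow_zero]; exact hle
    | succ n => rw [Scheme.basicOpen_pow _ _ n.succ_pos]
  exact (Loc.mulA_bijective M _ (hu (N + n)) p).1 (h0.trans (map_zero _).symm)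

/-- Bijectivity on the whole base. -/
theorem bijective_one : Function.Bijective (E.e (S.basicOpen (1 : Γ(S, ⊤)))) := by
  classical
  refine ⟨injective f M E 1, fun t ↦ ?_⟩
  have htop : S.basicOpen (1 : Γ(S, ⊤)) = ⊤ := Scheme.basicOpen_of_isUnit S isUnit_one
  have hloc : ∀ z : S, ∃ (k : Γ(S, ⊤)) (hk : S.basicOpen k ≤ S.basicOpen (1 : Γ(S, ⊤)))
      (x : Ext.{u} (Zs.obj (f ⁻¹ᵁ S.basicOpen k)) (Coh.toAb M) p), z ∈ S.basicOpen k ∧
        E.e (S.basicOpen k) x = G.obj.map (homOfLE hk).op t := fun z ↦ by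
    obtain ⟨W, hW, hzW, x, hx⟩ := E.surj _ t z (htop.ge trivial)
    obtain ⟨k, hkW, hzk⟩ := exists_basicOpen W hzW
    refine ⟨k, hkW.trans hW, rs _ p (f.preimage_mono hkW) x, hzk, ?_⟩
    rw [E.nat hkW, hx, ← ConcreteCategory.comp_apply, ← Functor.map_comp]
    rfl
  choose k hk x hzk hx using hloc
  obtain ⟨s, hs⟩ := (isAffineOpen_top S).isCompact.elim_finite_subcover
    (fun z ↦ ((S.basicOpen (k z) : S.Opens) : Set S)) (fun z ↦ (S.basicOpen (k z)).isOpen)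
    (fun z _ ↦ Set.mem_iUnion.2 ⟨z, hzk z⟩)
  let J : Ideal Γ(S, ⊤) :=
    { carrier := {r | ∃ y : Ext.{u} (Zs.obj (f ⁻¹ᵁ S.basicOpen (1 : Γ(S, ⊤)))) (Coh.toAb M) p,
        ∀ z ∈ s, rs (Coh.toAb M) p (f.preimage_mono (hk z)) y = Loc.mulA M (pb f r) _ p (x z)}
      zero_mem' := ⟨0, fun z _ ↦ by rw [map_zero, pb_zero, Loc.mulA_zero]⟩
      add_mem' := by
        rintro a b ⟨ya, hya⟩ ⟨yb, hyb⟩
        exact ⟨ya + yb, fun z hz ↦ by rw [map_add, hya z hz, hyb z hz, pb_add, Loc.mulA_add]⟩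
      smul_mem' := by
        rintro c a ⟨ya, hya⟩
        exact ⟨Loc.mulA M (pb f c) _ p ya, fun z hz ↦ by
          rw [← Loc.mulA_rs, hya z hz, Loc.mulA_mul, smul_eq_mul, pb_mul]⟩ }
  obtain ⟨N, hN⟩ := exists_pow_mem J 1 fun w _ ↦ by
    obtain ⟨z, hz, hwz⟩ := Set.mem_iUnion₂.1 (hs (Set.mem_univ w))
    have e1 : S.basicOpen (1 * k z) = S.basicOpen (k z) := by rw [one_mul]
    have hl := (loc f M (p := p) 1 (k z)).2
    rw [e1] at hl
    obtain ⟨n, y, hy⟩ := hl (f.preimage_mono (hk z)) (x z)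
    have hdiff : ∀ z', ∃ m : ℕ, Loc.mulA M (pb f (k z) ^ m) _ p
        (rs (Coh.toAb M) p (f.preimage_mono (hk z')) y - Loc.mulA M (pb f (k z) ^ n) _ p (x z'))
          = 0 := fun z' ↦ by
      have hle1 : S.basicOpen (k z' * k z) ≤ S.basicOpen (k z') := by
        rw [Scheme.basicOpen_mul]; exact inf_le_left
      have hle2 : S.basicOpen (k z' * k z) ≤ S.basicOpen (k z) := by
        rw [Scheme.basicOpen_mul]; exact inf_le_right
      refine (loc f M (p := p) (k z') (k z)).1 (f.preimage_mono hle1) _ ?_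
      have hxx : rs (Coh.toAb M) p (f.preimage_mono hle1) (x z') =
          rs (Coh.toAb M) p (f.preimage_mono hle2) (x z) := by
        apply injective f M E (k z' * k z)
        rw [E.nat hle1, E.nat hle2, hx, hx, ← ConcreteCategory.comp_apply, ← Functor.map_comp,
          ← ConcreteCategory.comp_apply, ← Functor.map_comp]
        rfl
      rw [map_sub, Loc.rs_rs, ← Loc.rs_rs M (f.preimage_mono (hk z)) (f.preimage_mono hle2), hy,
        ← Loc.mulA_rs, ← Loc.mulA_rs, hxx, sub_self]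
    choose m hm using hdiff
    refine ⟨k z, s.sup m + n, hwz, Loc.mulA M (pb f (k z) ^ s.sup m) _ p y, fun z' hz' ↦ ?_⟩
    rw [pb_pow, ← Loc.mulA_pow, ← Loc.mulA_rs, ← sub_eq_zero, ← map_sub]
    exact Loc.mulA_pow_le M (Finset.le_sup hz') (hm z')
  obtain ⟨y, hy⟩ := hN
  refine ⟨y, TopCat.Sheaf.eq_of_locally_eq' G (fun z : s ↦ S.basicOpen (k z.1))
    (S.basicOpen (1 : Γ(S, ⊤))) (fun z ↦ homOfLE (hk z.1)) ?_ _ _ fun z ↦ ?_⟩
  · intro w _
    obtain ⟨z, hz, hwz⟩ := Set.mem_iUnion₂.1 (hs (Set.mem_univ w))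
    exact Opens.mem_iSup.2 ⟨⟨z, hz⟩, hwz⟩
  · refine (E.nat (hk z.1) y).symm.trans ?_
    rw [hy z.1 z.2, one_pow, pb_one, Loc.mulA_one]
    exact hx z.1

/-- Bijectivity on the whole base, at `⊤`. -/
theorem bijective_top : Function.Bijective (E.e ⊤) := by
  have := bijective_one f M E
  rwa [Scheme.basicOpen_of_isUnit S isUnit_one] at this

end Groth.Agent.Lib.CohDelta.Glue
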