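import Groth.Agent.Lib.DerivedOX.FlatGen
import Groth.Agent.Lib.ZarCoh.Compare
import Mathlib.Algebra.Category.ModuleCat.EpiMono
import Mathlib.Algebra.Category.ModuleCat.Presheaf.EpiMono
import Mathlib.Algebra.Category.ModuleCat.Sheaf.Abelian
import Mathlib.CategoryTheory.Preadditive.Injective.Basic
import Mathlib.CategoryTheory.Functor.EpiMono

/-!
# Injective `O_X`-modules are flasque
-/

universe u

open CategoryTheory CategoryTheory.Limits AlgebraicGeometry TopologicalSpace Opposite

namespace Groth.Agent.Lib.CohDelta.Flasque

open Groth.Agent.Lib.DerivedOX.FlatGen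

variable {X : Scheme.{u}}

/-- The map of generators attached to an inclusion of opens. -/
noncomputable def genMap {U V : X.Opens} (h : V ≤ U) : gen V ⟶ gen U :=
  DCoh.shP.map ((PresheafOfModules.free _).map (yoneda.map (homOfLE h)))

instance mono_genMap {U V : X.Opens} (h : V ≤ U) : Mono (genMap h) := by
  have : Mono ((PresheafOfModules.free (X.sheaf.obj ⋙ forget₂ CommRingCat RingCat.{u})).map
      (yoneda.map (homOfLE h))) := by
    apply PresheafOfModules.mono_of_injective
    intro W
    exact Finsupp.mapDomain_injective fun (a b : W.unop ⟶ V) _ => Subsingleton.elim a b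
  have : PreservesFiniteLimits (DCoh.shP (X := X)) :=
    inferInstanceAs (PreservesFiniteLimits
      (PresheafOfModules.sheafification.{u, u, u, u} (R := X.ringCatSheaf) (𝟙 X.ringCatSheaf.obj)))
  exact (DCoh.shP (X := X)).map_mono _

/-- An injective module has surjective restriction maps. -/
theorem surjective_res (I : X.Modules) [Injective I] {U V : X.Opens} (h : V ≤ U) :
    Function.Surjective (I.presheaf.map (homOfLE h).op) := by
  intro s
  let e := ((genHomEquiv V I).symm s)
  let t := Injective.factorThru e (genMap h)
  refine ⟨genHomEquiv U I t, ?_⟩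
  have ht : genMap h ≫ t = e := Injective.comp_factorThru e (genMap h)
  have : genHomEquiv V I (genMap h ≫ t) =
      (DCoh.toP.obj I).map (homOfLE h).op (genHomEquiv U I t) := by
    have key : ∀ (M : CohB1.PMod X) (m : (PresheafOfModules.free _).obj (yoneda.obj U) ⟶ M),
        PresheafOfModules.freeYonedaEquiv
          ((PresheafOfModules.free _).map (yoneda.map (homOfLE h)) ≫ m) =
        M.map (homOfLE h).op (PresheafOfModules.freeYonedaEquiv m) := by
      intro M m
      change m.app (op V) _ = M.map (homOfLE h).op (m.app (op U) _)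
      refine Eq.trans ?_ (PresheafOfModules.naturality_apply m (homOfLE h).op _)
      congr 1
      simp [PresheafOfModules.free, PresheafOfModules.freeObj]
      erw [ModuleCat.freeDesc_apply, ModuleCat.free_map_apply]
      exact congrArg ModuleCat.freeMk (Subsingleton.elim (α := V ⟶ U) _ _)
    refine Eq.trans ?_ (key _ (((TensorMod.Basic.adj X).homEquiv _ I) t))
    exact congrArg PresheafOfModules.freeYonedaEquiv
      ((TensorMod.Basic.adj X).homEquiv_naturality_left _ t)
  rw [ht] at this
  exact (((genHomEquiv V I).apply_symm_apply s).symm.trans this).symm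

/-- An injective module has flasque underlying abelian sheaf. -/
theorem isFlasque_toAb (I : X.Modules) [Injective I] : TopCat.Sheaf.IsFlasque (Coh.toAb I) where
  epi {U V} i := (AddCommGrpCat.epi_iff_surjective _).mpr fun s =>
    surjective_res I (leOfHom i.unop) s

/-- The restriction of an injective module to an open has flasque underlying abelian sheaf. -/
theorem isFlasque_toAb_restrict (I : X.Modules) [Injective I] (W : X.Opens) :
    TopCat.Sheaf.IsFlasque (Coh.toAb (I.restrict W.ι)) where
  epi {U V} i := (AddCommGrpCat.epi_iff_surjective _).mpr fun s =>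
    surjective_res I (leOfHom (W.ι.opensFunctor.map i.unop)) s

/-- `Hⁿ⁺¹(W, I|_W) = 0` for injective `I`. -/
theorem subsingleton_HHon (I : X.Modules) [Injective I] (W : X.Opens) (n : ℕ) :
    Subsingleton (Coh.HHon X I W (n + 1)) := by
  have := isFlasque_toAb_restrict I W
  exact Groth.Agent.Lib.ZarCoh.Basic.H_flasque _ n

/-- `Hⁿ⁺¹(W, I) = 0` for injective `I`, `HU` form. -/
theorem subsingleton_HU (I : X.Modules) [Injective I] (W : X.Opens) (n : ℕ) :
    Subsingleton (CohTop.HU (Coh.toAb I) (n + 1) W) := by
  have := isFlasque_toAb I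
  exact Groth.Agent.Lib.ZarCoh.Basic.HU_flasque _ W n

end Groth.Agent.Lib.CohDelta.Flasque
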