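import Groth.Agent.Lib.CohDelta.Basic
import Groth.Agent.Lib.CohDelta.Flasque

/-!
# The comparison `Hᵖ(f⁻¹V, F) → Γ(V, Rᵖf_*F)`

For pinned comparison data `E : CohCmp.SectCmp f Δ`: the comparison in the `HU` model, its
naturality in `V`, bijectivity in degree zero, local surjectivity and local injectivity.
-/

set_option linter.style.haveILetI false
set_option maxHeartbeats 1000000

universe u

open CategoryTheory CategoryTheory.Limits AlgebraicGeometry AlgebraicGeometry.Scheme.Modules
  TopologicalSpace Opposite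
open CategoryTheory.Abelian
open Groth.Agent.Lib.ZarCoh.Basic Groth.Agent.Lib.CohDelta.Basic Groth.Agent.Lib.CohDelta.Flasque

namespace Groth.Agent.Lib.CohDelta.Sect

section Sheaf

variable {X : TopCat.{u}}

/-- An epimorphism of sheaves is locally surjective on sections. -/
theorem exists_preimage_of_epi {A B : CohTop.Ab X} (g : A ⟶ B) [Epi g] {V : Opens X}
    (s : B.obj.obj (op V)) {x : X} (hx : x ∈ V) :
    ∃ (W : Opens X) (h : W ≤ V) (a : A.obj.obj (op W)),
      x ∈ W ∧ g.hom.app (op W) a = B.obj.map (homOfLE h).op s := by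
  obtain ⟨W, h, ⟨a, ha⟩, hW⟩ := (TopCat.Presheaf.isLocallySurjective_iff g.hom).1
    ((TopCat.Sheaf.isLocallySurjective_iff_epi g).2 ‹Epi g›) V s x hx
  exact ⟨W, h, a, hW, ha⟩

/-- An exact sequence of sheaves is locally exact on sections. -/
theorem exists_preimage_of_exact {S : ShortComplex (CohTop.Ab X)} (hS : S.Exact) {V : Opens X}
    (s : S.X₂.obj.obj (op V)) (hs : S.g.hom.app (op V) s = 0) {x : X} (hx : x ∈ V) :
    ∃ (W : Opens X) (h : W ≤ V) (a : S.X₁.obj.obj (op W)),
      x ∈ W ∧ S.f.hom.app (op W) a = S.X₂.obj.map (homOfLE h).op s := by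
  have h0 : (homEquiv V S.X₂).symm s ≫ S.g = 0 := by
    apply (homEquiv V S.X₃).injective
    rw [homEquiv_comp, Equiv.apply_symm_apply, hs, homEquiv_apply]
    rfl
  obtain ⟨A, π, hπ, x₁, hx₁⟩ := S.exact_iff_exact_up_to_refinements.1 hS _ h0
  obtain ⟨W, h, a, hW, ha⟩ := exists_preimage_of_epi π (gen V) hx
  refine ⟨W, h, x₁.hom.app (op W) a, hW, ?_⟩
  have h2 := congrArg (fun t ↦ t.hom.app (op W) a) hx₁
  refine h2.symm.trans ?_
  show ((homEquiv V S.X₂).symm s).hom.app (op W) (π.hom.app (op W) a) = _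
  rw [ha]
  refine (((homEquiv V S.X₂).symm s).hom.naturality_apply (homOfLE h).op (gen V)).trans ?_
  rw [← homEquiv_apply, Equiv.apply_symm_apply]

end Sheaf

variable {X Y : Scheme.{u}} {f : X ⟶ Y} [HasInjectiveResolutions X.Modules]
  {Δ : RDer.DerivedLES (pushforward f)} (E : CohCmp.SectCmp f Δ)

/-- Injective resolutions give enough injectives. -/
theorem enoughInjectives : EnoughInjectives X.Modules where
  presentation F :=
    ⟨{ J := (injectiveResolution F).cocomplex.X 0
       injective := (injectiveResolution F).injective 0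
       f := (injectiveResolution F).ι.f 0
       mono := CategoryTheory.InjectiveResolution.instMonoFNatι (injectiveResolution F) 0 }⟩

/-- `0 → F → I → Q → 0` with `I` an injective O-module. -/
noncomputable def inj (F : X.Modules) : ShortComplex X.Modules :=
  haveI := enoughInjectives (X := X)
  ShortComplex.mk (Injective.ι F) (cokernel.π _) (cokernel.condition _)

theorem inj_shortExact (F : X.Modules) : (inj F).ShortExact := by
  haveI := enoughInjectives (X := X)
  exact { exact := ShortComplex.exact_cokernel _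
          mono_f := inferInstanceAs (Mono (Injective.ι F))
          epi_g := coequalizer.π_epi }

theorem inj_injective (F : X.Modules) : Injective (inj F).X₂ := by
  haveI := enoughInjectives (X := X)
  exact inferInstanceAs (Injective (Injective.under F))

/-- The comparison in the `HU` model. -/
noncomputable def eps (V : Y.Opens) (F : X.Modules) (p : ℕ) :
    Ext.{u} (Zs.obj (f ⁻¹ᵁ V)) (Coh.toAb F) p →+ ((Coh.Rpush f p).obj F).presheaf.obj (op V) :=
  (E.ε V F p).comp (hU F (f ⁻¹ᵁ V) p).symm.toAddMonoidHom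

theorem eps_hU (V : Y.Opens) (F : X.Modules) (p : ℕ) (x : Coh.HHon X F (f ⁻¹ᵁ V) p) :
    eps E V F p (hU F (f ⁻¹ᵁ V) p x) = E.ε V F p x :=
  congrArg (E.ε V F p) ((hU F (f ⁻¹ᵁ V) p).symm_apply_apply x)

theorem eps_zero (V : Y.Opens) (F : X.Modules) (g : Zs.obj (f ⁻¹ᵁ V) ⟶ Coh.toAb F) :
    eps E V F 0 (Ext.mk₀ g) =
      ((pushforward f).toRightDerivedZero.app F).app V (homEquiv (f ⁻¹ᵁ V) (Coh.toAb F) g) := by
  have h := hU_sectH0 F (f ⁻¹ᵁ V) (homEquiv (f ⁻¹ᵁ V) (Coh.toAb F) g)
  rw [Equiv.symm_apply_apply] at h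
  exact (congrArg (eps E V F 0) h).symm.trans ((eps_hU E V F 0 _).trans (E.zero V F _))

theorem eps_natural (V : Y.Opens) {F G : X.Modules} (ψ : F ⟶ G) (p : ℕ)
    (y : Ext.{u} (Zs.obj (f ⁻¹ᵁ V)) (Coh.toAb F) p) :
    eps E V G p (y.comp (Ext.mk₀ (abMap ψ)) (add_zero p)) =
      ((Coh.Rpush f p).map ψ).app V (eps E V F p y) := by
  obtain ⟨x, rfl⟩ := (hU F (f ⁻¹ᵁ V) p).surjective y
  exact ((congrArg (eps E V G p) (hU_mapH ψ (f ⁻¹ᵁ V) p x)).symm.trans (eps_hU E V G p _)).trans
    ((E.natural V ψ p x).trans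
      (congrArg (((Coh.Rpush f p).map ψ).app V) (eps_hU E V F p x).symm))

theorem eps_delta (V : Y.Opens) {S : ShortComplex X.Modules} (hS : S.ShortExact) (p : ℕ)
    (y : Ext.{u} (Zs.obj (f ⁻¹ᵁ V)) (abS S).X₃ p) :
    eps E V S.X₁ (p + 1) (y.comp (abS_shortExact hS).extClass rfl) =
      (Δ.δ S hS p (p + 1) rfl).app V (eps E V S.X₃ p y) := by
  obtain ⟨x, rfl⟩ := (hU S.X₃ (f ⁻¹ᵁ V) p).surjective y
  exact ((congrArg (eps E V S.X₁ (p + 1))
    (hU_extδ hS (f ⁻¹ᵁ V) p x (toAbOn_shortExact hS _))).symm.trans (eps_hU E V S.X₁ _ _)).trans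
    ((E.delta V S hS (toAbOn_shortExact hS _) p x).trans
      (congrArg ((Δ.δ S hS p (p + 1) rfl).app V) (eps_hU E V S.X₃ p x).symm))

theorem exists_comp_extClass (F : X.Modules) (p : ℕ) (W : X.Opens)
    (y : Ext.{u} (Zs.obj W) (abS (inj F)).X₁ (p + 1)) :
    ∃ z : Ext.{u} (Zs.obj W) (abS (inj F)).X₃ p,
      z.comp (abS_shortExact (inj_shortExact F)).extClass rfl = y :=
  haveI := inj_injective F
  Ext.covariant_sequence_exact₁.{u} (Zs.obj W) (abS_shortExact (inj_shortExact F)) y
    ((subsingleton_HU (inj F).X₂ W p).elim _ _) rfl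

/-- Naturality of the comparison in the open. -/
theorem eps_res (p : ℕ) : ∀ (F : X.Modules) {V W : Y.Opens} (h : W ≤ V)
    (y : Ext.{u} (Zs.obj (f ⁻¹ᵁ V)) (Coh.toAb F) p),
    eps E W F p (rs (Coh.toAb F) p (f.preimage_mono h) y) =
      ((Coh.Rpush f p).obj F).presheaf.map (homOfLE h).op (eps E V F p y) := by
  induction p with
  | zero =>
    intro F V W h y
    obtain ⟨g, rfl⟩ := (Ext.mk₀_bijective _ _).2 y
    rw [rs_mk₀, eps_zero, eps_zero, homEquiv_res]
    exact ((pushforward f).toRightDerivedZero.app F).mapPresheaf.naturality_apply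
      (homOfLE h).op _
  | succ p ih =>
    intro F V W h y
    obtain ⟨z, rfl⟩ := exists_comp_extClass F p (f ⁻¹ᵁ V) y
    refine (congrArg (eps E W (inj F).X₁ (p + 1))
      (rs_comp p rfl (f.preimage_mono h) z (abS_shortExact (inj_shortExact F)).extClass)).trans ?_
    refine (eps_delta E W (inj_shortExact F) p _).trans ?_
    refine (congrArg ((Δ.δ (inj F) (inj_shortExact F) p (p + 1) rfl).app W) (ih _ h z)).trans ?_
    refine ((Δ.δ (inj F) (inj_shortExact F) p (p + 1) rfl).mapPresheaf.naturality_apply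
      (homOfLE h).op _).trans ?_
    exact congrArg _ (eps_delta E V (inj_shortExact F) p z).symm

theorem eps_zero_bijective (V : Y.Opens) (F : X.Modules) :
    Function.Bijective (eps E V F 0) := by
  haveI : (pushforward f).IsRightAdjoint := (pullbackPushforwardAdjunction f).isRightAdjoint
  haveI : PreservesLimitsOfSize.{0, 0} (pushforward f) :=
    (pullbackPushforwardAdjunction f).rightAdjoint_preservesLimits
  haveI : PreservesFiniteLimits (pushforward f) :=
    PreservesLimitsOfSize.preservesFiniteLimits (pushforward f)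
  have hb : Function.Bijective (((pushforward f).toRightDerivedZero.app F).app V) :=
    ConcreteCategory.bijective_of_isIso _
  have : eps E V F 0 ∘ Ext.mk₀ = ((pushforward f).toRightDerivedZero.app F).app V ∘
      homEquiv (f ⁻¹ᵁ V) (Coh.toAb F) := funext (eps_zero E V F)
  refine (Function.Bijective.of_comp_iff _ (Ext.mk₀_bijective _ _)).1 ?_
  rw [this]
  exact hb.comp (Equiv.bijective _)

theorem isZero_Rpush_injective (I : X.Modules) [Injective I] (p : ℕ) :
    IsZero ((Coh.Rpush f (p + 1)).obj I) :=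
  Functor.isZero_rightDerived_obj_injective_succ _ p I

/-- The comparison is locally surjective. -/
theorem eps_locally_surjective (p : ℕ) : ∀ (F : X.Modules) (V : Y.Opens)
    (t : ((Coh.Rpush f p).obj F).presheaf.obj (op V)) (y : Y), y ∈ V →
    ∃ (W : Y.Opens) (h : W ≤ V), y ∈ W ∧ ∃ x : Ext.{u} (Zs.obj (f ⁻¹ᵁ W)) (Coh.toAb F) p,
      eps E W F p x = ((Coh.Rpush f p).obj F).presheaf.map (homOfLE h).op t := by
  induction p with
  | zero =>
    intro F V t y hy
    obtain ⟨x, hx⟩ := (eps_zero_bijective E V F).2 t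
    exact ⟨V, le_rfl, hy, x, hx.trans (by simp)⟩
  | succ p ih =>
    intro F V t y hy
    haveI := inj_injective F
    haveI : Epi (Δ.δ (inj F) (inj_shortExact F) p (p + 1) rfl) :=
      (Δ.exact₁ (inj F) (inj_shortExact F) p (p + 1) rfl).epi_f
        ((isZero_Rpush_injective (inj F).X₂ p).eq_of_tgt _ _)
    haveI : Epi (abMap (Δ.δ (inj F) (inj_shortExact F) p (p + 1) rfl)) :=
      (abF Y).map_epi _
    obtain ⟨W, h, t', hW, ht⟩ := exists_preimage_of_epi
      (abMap (Δ.δ (inj F) (inj_shortExact F) p (p + 1) rfl)) t hy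
    obtain ⟨W', h', hW', x, hx⟩ := ih (inj F).X₃ W t' y hW
    refine ⟨W', h'.trans h, hW', x.comp (abS_shortExact (inj_shortExact F)).extClass rfl, ?_⟩
    refine (eps_delta E W' (inj_shortExact F) p x).trans ?_
    refine (congrArg ((Δ.δ (inj F) (inj_shortExact F) p (p + 1) rfl).app W') hx).trans ?_
    refine ((Δ.δ (inj F) (inj_shortExact F) p (p + 1) rfl).mapPresheaf.naturality_apply
      (homOfLE h').op _).trans ?_
    refine (congrArg _ ht).trans ?_
    exact (ConcreteCategory.comp_apply _ _ _).symm.trans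
      (ConcreteCategory.congr_hom ((((Coh.Rpush f (p + 1)).obj F).presheaf).map_comp _ _).symm t)

/-- The comparison is locally injective. -/
theorem eps_locally_zero (p : ℕ) : ∀ (F : X.Modules) (V : Y.Opens)
    (x : Ext.{u} (Zs.obj (f ⁻¹ᵁ V)) (Coh.toAb F) p), eps E V F p x = 0 → ∀ y : Y, y ∈ V →
    ∃ (W : Y.Opens) (h : W ≤ V), y ∈ W ∧ rs (Coh.toAb F) p (f.preimage_mono h) x = 0 := by
  induction p with
  | zero =>
    intro F V x hx y hy
    refine ⟨V, le_rfl, hy, ?_⟩
    rw [show x = 0 from (eps_zero_bijective E V F).1 (hx.trans (map_zero _).symm), map_zero]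
  | succ p ih =>
    intro F V x hx y hy
    obtain ⟨z, rfl⟩ := exists_comp_extClass F p (f ⁻¹ᵁ V) x
    have h0 : (Δ.δ (inj F) (inj_shortExact F) p (p + 1) rfl).app V (eps E V (inj F).X₃ p z) = 0 :=
      (eps_delta E V (inj_shortExact F) p z).symm.trans hx
    obtain ⟨W, h, s, hW, hs⟩ := exists_preimage_of_exact
      ((Δ.exact₃ (inj F) (inj_shortExact F) p (p + 1) rfl).map (abF Y)) (eps E V (inj F).X₃ p z) h0 hy
    obtain ⟨W', h', hW', i, hi⟩ := eps_locally_surjective E p (inj F).X₂ W s y hW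
    have hd : eps E W' (inj F).X₃ p (rs (Coh.toAb (inj F).X₃) p (f.preimage_mono (h'.trans h)) z -
        (i.comp (Ext.mk₀ (abMap (inj F).g)) (add_zero p) :
          Ext.{u} (Zs.obj (f ⁻¹ᵁ W')) (Coh.toAb (inj F).X₃) p)) = 0 := by
      rw [map_sub, eps_res E p (inj F).X₃ (h'.trans h) z, show eps E W' (inj F).X₃ p (i.comp (Ext.mk₀ (abMap (inj F).g)) (add_zero p)) = _ from eps_natural E W' (inj F).g p i, hi,
        sub_eq_zero]
      refine Eq.trans ?_ (((Coh.Rpush f p).map (inj F).g).mapPresheaf.naturality_apply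
        (homOfLE h').op s).symm
      refine Eq.trans ?_ (congrArg _ hs).symm
      exact ((ConcreteCategory.comp_apply _ _ _).symm.trans
        (ConcreteCategory.congr_hom ((((Coh.Rpush f p).obj (inj F).X₃).presheaf).map_comp _ _).symm
          (eps E V (inj F).X₃ p z))).symm
    obtain ⟨W'', h'', hW'', hz⟩ := ih (inj F).X₃ W' _ hd y hW'
    refine ⟨W'', h''.trans (h'.trans h), hW'', ?_⟩
    refine (rs_comp p rfl (f.preimage_mono (h''.trans (h'.trans h))) z
      (abS_shortExact (inj_shortExact F)).extClass).trans ?_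
    rw [map_sub, sub_eq_zero] at hz
    have hrr : rs (abS (inj F)).X₃ p (f.preimage_mono (h''.trans (h'.trans h))) z =
        rs (abS (inj F)).X₃ p (f.preimage_mono h'')
          (rs (abS (inj F)).X₃ p (f.preimage_mono (h'.trans h)) z) :=
      ((Ext.mk₀_comp_mk₀_assoc _ _ z).trans (congrArg (fun t ↦ (Ext.mk₀ t).comp z (zero_add p))
        ((Zs.map_comp _ _).symm.trans (congrArg Zs.map (Subsingleton.elim _ _))))).symm
    refine (congrArg (fun t ↦ Ext.comp t (abS_shortExact (inj_shortExact F)).extClass rfl)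
      ((hrr.trans hz).trans
        (rs_comp p (add_zero p) (f.preimage_mono h'') i (Ext.mk₀ (abMap (inj F).g))))).trans ?_
    refine (Ext.comp_assoc_of_second_deg_zero _ _ _ _).trans ?_
    refine (congrArg (Ext.comp _ · rfl) (abS_shortExact (inj_shortExact F)).comp_extClass).trans ?_
    exact Ext.comp_zero (C := CohTop.Ab X.toPresheafedSpace.carrier) (X := Zs.obj _) _ _ _ _ _

end Groth.Agent.Lib.CohDelta.Sect
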