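import Groth.Prelude.Def_CohPull
import Mathlib.CategoryTheory.Adjunction.Mates

/-!
# Sections under inverse images of O-modules

`eta g M W : Γ(W, M) → Γ(g⁻¹W, g^*M)` and its compatibility with the canonical isomorphisms
(composition, identity, equality, restriction to opens).
-/

universe u

open CategoryTheory AlgebraicGeometry AlgebraicGeometry.Scheme.Modules TopologicalSpace Opposite

namespace Groth.Agent.Lib.CohDelta.Units

variable {X Y Z : Scheme.{u}}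

/-- The pullback of a section. -/
noncomputable def eta (g : X ⟶ Y) (M : Y.Modules) (W : Y.Opens) (s : Γ(M, W)) :
    Γ((pullback g).obj M, g ⁻¹ᵁ W) :=
  ((pullbackPushforwardAdjunction g).unit.app M).app W s

theorem eta_map (g : X ⟶ Y) {M N : Y.Modules} (φ : M ⟶ N) (W : Y.Opens) (s : Γ(M, W)) :
    ((pullback g).map φ).app (g ⁻¹ᵁ W) (eta g M W s) = eta g N W (φ.app W s) :=
  (congr(($((pullbackPushforwardAdjunction g).unit.naturality φ)).app W s)).symm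

theorem eta_comp (f : X ⟶ Y) (g : Y ⟶ Z) (M : Z.Modules) (W : Z.Opens) (s : Γ(M, W)) :
    eta f ((pullback g).obj M) (g ⁻¹ᵁ W) (eta g M W s) =
      ((pullbackComp f g).inv.app M).app ((f ≫ g) ⁻¹ᵁ W) (eta (f ≫ g) M W s) := by
  have key := unit_conjugateEquiv
    ((pullbackPushforwardAdjunction g).comp (pullbackPushforwardAdjunction f))
    (pullbackPushforwardAdjunction (f ≫ g)) (pullbackComp f g).inv M
  rw [conjugateEquiv_pullbackComp_inv] at key
  exact congr(($key).app W s)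

theorem eta_id (M : X.Modules) (W : X.Opens) (s : Γ(M, W)) :
    ((pullbackId X).hom.app M).app ((𝟙 X : X ⟶ X) ⁻¹ᵁ W) (eta (𝟙 X) M W s) = s := by
  have key := unit_conjugateEquiv Adjunction.id (pullbackPushforwardAdjunction (𝟙 X))
    (pullbackId X).hom M
  rw [conjugateEquiv_pullbackId_hom] at key
  exact (congr(($key).app W s)).symm

theorem eta_congr {g g' : X ⟶ Y} (e : g = g') (M : Y.Modules) (W : Y.Opens) (s : Γ(M, W))
    (h : g' ⁻¹ᵁ W = g ⁻¹ᵁ W) :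
    ((pullbackCongr e).hom.app M).app (g ⁻¹ᵁ W) (eta g M W s) =
      ((pullback g').obj M).presheaf.map (eqToHom h.symm).op (eta g' M W s) := by
  subst e
  simp [pullbackCongr]

theorem eta_restrict (f : X ⟶ Y) [IsOpenImmersion f] (M : Y.Modules) (W : Y.Opens) (s : Γ(M, W)) :
    ((restrictFunctorIsoPullback f).hom.app M).app (f ⁻¹ᵁ W)
        (M.presheaf.map (homOfLE (f.image_preimage_le W)).op s) = eta f M W s := by
  have key := Adjunction.unit_leftAdjointUniq_hom_app (restrictAdjunction f)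
    (pullbackPushforwardAdjunction f) M
  exact congr(($key).app W s)

theorem eta_restrict_inv (f : X ⟶ Y) [IsOpenImmersion f] (M : Y.Modules) (W : Y.Opens)
    (s : Γ(M, W)) :
    ((restrictFunctorIsoPullback f).inv.app M).app (f ⁻¹ᵁ W) (eta f M W s) =
      M.presheaf.map (homOfLE (f.image_preimage_le W)).op s := by
  rw [← eta_restrict]
  exact congr(($((restrictFunctorIsoPullback f).hom_inv_id_app M)).app (f ⁻¹ᵁ W)
    (M.presheaf.map (homOfLE (f.image_preimage_le W)).op s))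

theorem comp_eta (f : X ⟶ Y) (g : Y ⟶ Z) (M : Z.Modules) (W : Z.Opens) (s : Γ(M, W)) :
    ((pullbackComp f g).hom.app M).app ((f ≫ g) ⁻¹ᵁ W)
        (eta f ((pullback g).obj M) (g ⁻¹ᵁ W) (eta g M W s)) = eta (f ≫ g) M W s := by
  rw [eta_comp]
  exact congr(($((pullbackComp f g).inv_hom_id_app M)).app ((f ≫ g) ⁻¹ᵁ W) (eta (f ≫ g) M W s))

end Groth.Agent.Lib.CohDelta.Units

namespace Groth.Agent.Lib.CohDelta.Units

theorem map_map {X : Scheme.{u}} (P : X.Opensᵒᵖ ⥤ AddCommGrpCat.{u}) {A B C : X.Opensᵒᵖ}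
    (a : A ⟶ B) (b : B ⟶ C) (c : A ⟶ C) (z : P.obj A) : P.map b (P.map a z) = P.map c z := by
  rw [Subsingleton.elim c (a ≫ b), P.map_comp, ConcreteCategory.comp_apply]

section Opens

variable {X Y : Scheme.{u}} (g : X ⟶ Y) {U : Y.Opens} {U' : X.Opens}
  (j : (U' : Scheme.{u}) ⟶ (U : Scheme.{u})) (e : j ≫ U.ι = U'.ι ≫ g)

/-- `j^*(F|_U) ⟶ (g^*F)|_{U'}`, natural in `F`. -/
noncomputable def pon :
    restrictFunctor U.ι ⋙ pullback j ⟶ pullback g ⋙ restrictFunctor U'.ι :=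
  Functor.whiskerRight (restrictFunctorIsoPullback U.ι).hom (pullback j) ≫
    (pullbackComp j U.ι).hom ≫ (pullbackCongr e).hom ≫ (pullbackComp U'.ι g).inv ≫
      Functor.whiskerLeft (pullback g) (restrictFunctorIsoPullback U'.ι).inv

theorem pon_app (F : Y.Modules) :
    (pon g j e).app F = (pullback j).map ((restrictFunctorIsoPullback U.ι).hom.app F) ≫
      (pullbackComp j U.ι).hom.app F ≫ (pullbackCongr e).hom.app F ≫
      (pullbackComp U'.ι g).inv.app F ≫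
      (restrictFunctorIsoPullback U'.ι).inv.app ((pullback g).obj F) := rfl

theorem pon_eta (F : Y.Modules) (W : Y.Opens) (s : Γ(F, W))
    (hle : U'.ι ''ᵁ (j ⁻¹ᵁ (U.ι ⁻¹ᵁ W)) ≤ g ⁻¹ᵁ W) :
    ((pon g j e).app F).app (j ⁻¹ᵁ (U.ι ⁻¹ᵁ W))
        (eta j (F.restrict U.ι) (U.ι ⁻¹ᵁ W)
          (F.presheaf.map (homOfLE (U.ι.image_preimage_le W)).op s)) =
      ((pullback g).obj F).presheaf.map (homOfLE hle).op (eta g F W s) := by
  have hp : ((U'.ι ≫ g) ⁻¹ᵁ W : (U' : Scheme.{u}).Opens) = (j ≫ U.ι) ⁻¹ᵁ W := by rw [e]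
  rw [pon_app]
  have h1 : ((pullback j).map ((restrictFunctorIsoPullback U.ι).hom.app F)).app (j ⁻¹ᵁ (U.ι ⁻¹ᵁ W))
      (eta j (F.restrict U.ι) (U.ι ⁻¹ᵁ W)
          (F.presheaf.map (homOfLE (U.ι.image_preimage_le W)).op s)) =
      eta j ((pullback U.ι).obj F) (U.ι ⁻¹ᵁ W) (eta U.ι F W s) :=
    (eta_map j _ _ _).trans (congrArg _ (eta_restrict U.ι F W s))
  have h2 := comp_eta j U.ι F W s
  have h3 := eta_congr e F W s hp
  have h4 := ((pullbackComp U'.ι g).inv.app F).mapPresheaf.naturality_apply (eqToHom hp.symm).op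
    (eta (U'.ι ≫ g) F W s)
  have h5 := (eta_comp U'.ι g F W s).symm
  have h6 := ((restrictFunctorIsoPullback U'.ι).inv.app
    ((pullback g).obj F)).mapPresheaf.naturality_apply (eqToHom hp.symm).op
    (eta U'.ι ((pullback g).obj F) (g ⁻¹ᵁ W) (eta g F W s))
  have h7 := eta_restrict_inv U'.ι ((pullback g).obj F) (g ⁻¹ᵁ W) (eta g F W s)
  simp only [Hom.comp_app, ConcreteCategory.comp_apply]
  refine (congrArg _ (congrArg _ (congrArg _ ((congrArg _ h1).trans h2)))).trans ?_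
  refine (congrArg _ ((congrArg _ h3).trans (h4.trans (congrArg _ h5)))).trans ?_
  refine h6.trans ((congrArg _ h7).trans ?_)
  exact map_map ((pullback g).obj F).presheaf (homOfLE (U'.ι.image_preimage_le (g ⁻¹ᵁ W))).op
    (U'.ι.opensFunctor.map (eqToHom hp.symm)).op (homOfLE hle).op (eta g F W s)

end Opens

section Res

variable {X : Scheme.{u}} {U U' : X.Opens}

/-- The natural transformation underlying `CohPull.resLE`. -/
noncomputable def resNat (h : U' ≤ (𝟙 X : X ⟶ X) ⁻¹ᵁ U) :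
    restrictFunctor U.ι ⋙ pullback ((𝟙 X : X ⟶ X).resLE U U' h) ⟶
      𝟭 X.Modules ⋙ restrictFunctor U'.ι :=
  pon (𝟙 X) ((𝟙 X : X ⟶ X).resLE U U' h) (Scheme.Hom.resLE_comp_ι (𝟙 X) h) ≫
    Functor.whiskerRight (pullbackId X).hom (restrictFunctor U'.ι)

theorem resNat_app (h : U' ≤ (𝟙 X : X ⟶ X) ⁻¹ᵁ U) (F : X.Modules) :
    (resNat h).app F = (CohPull.pullOnIso (𝟙 X) U U' h F).hom ≫
      (restrictFunctor U'.ι).map ((pullbackId X).hom.app F) := rfl

theorem resNat_eta (h : U' ≤ (𝟙 X : X ⟶ X) ⁻¹ᵁ U) (F : X.Modules) (W : X.Opens) (s : Γ(F, W))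
    (hle : U'.ι ''ᵁ (((𝟙 X : X ⟶ X).resLE U U' h) ⁻¹ᵁ (U.ι ⁻¹ᵁ W)) ≤ W) :
    ((resNat h).app F).app (((𝟙 X : X ⟶ X).resLE U U' h) ⁻¹ᵁ (U.ι ⁻¹ᵁ W))
        (eta ((𝟙 X : X ⟶ X).resLE U U' h) (F.restrict U.ι) (U.ι ⁻¹ᵁ W)
          (F.presheaf.map (homOfLE (U.ι.image_preimage_le W)).op s)) =
      F.presheaf.map (homOfLE hle).op s := by
  have hle' : U'.ι ''ᵁ (((𝟙 X : X ⟶ X).resLE U U' h) ⁻¹ᵁ (U.ι ⁻¹ᵁ W)) ≤ (𝟙 X : X ⟶ X) ⁻¹ᵁ W := by
    rwa [Scheme.Hom.id_preimage]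
  refine (congrArg (((restrictFunctor U'.ι).map ((pullbackId X).hom.app F)).app
    (((𝟙 X : X ⟶ X).resLE U U' h) ⁻¹ᵁ (U.ι ⁻¹ᵁ W)))
    (pon_eta (𝟙 X) ((𝟙 X : X ⟶ X).resLE U U' h) (Scheme.Hom.resLE_comp_ι (𝟙 X) h) F W s hle')).trans ?_
  refine (((pullbackId X).hom.app F).mapPresheaf.naturality_apply (homOfLE hle').op
    (eta (𝟙 X) F W s)).trans ?_
  exact congrArg _ (eta_id F W s)

/-- `resNat_eta` at an open equal to a preimage. -/
theorem resNat_eta' (h : U' ≤ (𝟙 X : X ⟶ X) ⁻¹ᵁ U) (F : X.Modules) (W : X.Opens) (s : Γ(F, W))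
    (O : (U : Scheme.{u}).Opens) (hO : O = U.ι ⁻¹ᵁ W) (i : U.ι ''ᵁ O ⟶ W)
    (k : U'.ι ''ᵁ (((𝟙 X : X ⟶ X).resLE U U' h) ⁻¹ᵁ O) ⟶ W) :
    ((resNat h).app F).app (((𝟙 X : X ⟶ X).resLE U U' h) ⁻¹ᵁ O)
        (eta ((𝟙 X : X ⟶ X).resLE U U' h) (F.restrict U.ι) O (F.presheaf.map i.op s)) =
      F.presheaf.map k.op s := by
  subst hO
  exact resNat_eta h F W s (leOfHom k)

end Res

end Groth.Agent.Lib.CohDelta.Units
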