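import Groth.Agent.Lib.CohDelta.Syzygy
import Groth.Agent.Lib.CohDelta.Bridge
import Groth.Agent.Lib.CohDelta.Glue
import Groth.Agent.Lib.CohDelta.Units
import Groth.Agent.Lib.CohDelta.Sect
import Groth.Agent.Lib.QCoh.Localizing

/-!
# Quasi-coherence of higher direct images along qcqs morphisms
-/

set_option linter.style.haveILetI false
set_option maxHeartbeats 1000000

universe u

open CategoryTheory CategoryTheory.Limits AlgebraicGeometry TopologicalSpace Opposite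
open CategoryTheory.Abelian
open Groth.Agent.Lib.ZarCoh.Basic Groth.Agent.Lib.ZarCoh.Compare
open Groth.Agent.Lib.CohDelta.Basic Groth.Agent.Lib.CohDelta.Syzygy

namespace Groth.Agent.Lib.CohDelta.QCohR

variable {X S : Scheme.{u}} (f : X ⟶ S) {M : X.Modules} (I : InjectiveResolution M) (p : ℕ)

/-- The projection to the cokernel on sections. -/
noncomputable def proj (W : S.Opens) : Γ(Z I (p + 1), f ⁻¹ᵁ W) →+ Γ(R I f p, W) :=
  ((cokernel.π ((Scheme.Modules.pushforward f).map (t I p))).app W).hom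

theorem proj_ker (W : S.Opens) : (c I (f ⁻¹ᵁ W) (p + 1)).ker ≤ (proj f I p W).ker := by
  intro s hs
  obtain ⟨i, rfl⟩ := (c_eq_zero_iff I _ p s).1 hs
  exact congr(($(cokernel.condition ((Scheme.Modules.pushforward f).map (t I p)))).app W i)

/-- The comparison. -/
noncomputable def e (W : S.Opens) :
    Ext.{u} (Zs.obj (f ⁻¹ᵁ W)) (Coh.toAb (Z I 0)) (p + 1) →+ Γ(R I f p, W) :=
  AddMonoidHom.liftOfSurjective (c I (f ⁻¹ᵁ W) (p + 1)) (c_surjective I _ _)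
    ⟨proj f I p W, proj_ker f I p W⟩

theorem e_c (W : S.Opens) (s : Γ(Z I (p + 1), f ⁻¹ᵁ W)) :
    e f I p W (c I (f ⁻¹ᵁ W) (p + 1) s) = proj f I p W s :=
  AddMonoidHom.liftOfRightInverse_comp_apply (c I (f ⁻¹ᵁ W) (p + 1)) _
    (Function.rightInverse_surjInv (c_surjective I (f ⁻¹ᵁ W) (p + 1)))
    ⟨proj f I p W, proj_ker f I p W⟩ s

theorem e_nat {V W : S.Opens} (h : W ≤ V)
    (x : Ext.{u} (Zs.obj (f ⁻¹ᵁ V)) (Coh.toAb (Z I 0)) (p + 1)) :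
    e f I p W (rs (Coh.toAb (Z I 0)) (p + 1) (f.preimage_mono h) x) =
      (R I f p).presheaf.map (homOfLE h).op (e f I p V x) := by
  obtain ⟨s, rfl⟩ := c_surjective I (f ⁻¹ᵁ V) (p + 1) x
  rw [c_rs, e_c, e_c]
  exact (cokernel.π ((Scheme.Modules.pushforward f).map (t I p))).mapPresheaf.naturality_apply
    (homOfLE h).op s

theorem e_surj (V : S.Opens) (x : Γ(R I f p, V)) (y : S) (hy : y ∈ V) :
    ∃ (W : S.Opens) (h : W ≤ V), y ∈ W ∧
      ∃ z, e f I p W z = (R I f p).presheaf.map (homOfLE h).op x := by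
  let π := cokernel.π ((Scheme.Modules.pushforward f).map (t I p))
  haveI : Epi π := coequalizer.π_epi
  haveI : Epi (abMap π) := (abF S).map_epi π
  obtain ⟨W, h, a, hW, ha⟩ := Sect.exists_preimage_of_epi (abMap π) x hy
  exact ⟨W, h, hW, c I (f ⁻¹ᵁ W) (p + 1) a, (e_c f I p W a).trans ha⟩

theorem e_inj (V : S.Opens) (x : Ext.{u} (Zs.obj (f ⁻¹ᵁ V)) (Coh.toAb (Z I 0)) (p + 1))
    (hx : e f I p V x = 0) (y : S) (hy : y ∈ V) :
    ∃ (W : S.Opens) (h : W ≤ V), y ∈ W ∧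
      rs (Coh.toAb (Z I 0)) (p + 1) (f.preimage_mono h) x = 0 := by
  obtain ⟨s, rfl⟩ := c_surjective I (f ⁻¹ᵁ V) (p + 1) x
  rw [e_c] at hx
  obtain ⟨W, h, a, hW, ha⟩ := Sect.exists_preimage_of_exact
    ((ShortComplex.exact_cokernel ((Scheme.Modules.pushforward f).map (t I p))).map (abF S))
    s hx hy
  refine ⟨W, h, hW, ?_⟩
  rw [c_rs, c_eq_zero_iff]
  exact ⟨a, ha⟩

/-- The comparison as locally bijective data. -/
noncomputable def cmp₀ : Glue.Cmp f (Z I 0) (p + 1) (Coh.toAb (R I f p)) where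
  e := e f I p
  nat h x := e_nat f I p h x
  surj := e_surj f I p
  inj := e_inj f I p

section Restrict

variable (V : S.Opens)

/-- The restriction functor on abelian sheaves of an open. -/
noncomputable abbrev rV (Y : Scheme.{u}) (U : Y.Opens) :=
  rst (X := (U : Scheme.{u}).toPresheafedSpace.carrier) U.ι.isOpenEmbedding

/-- The underlying space of `f⁻¹V`. -/
noncomputable abbrev TT : TopCat.{u} :=
  ((f ⁻¹ᵁ V : X.Opens) : Scheme.{u}).toPresheafedSpace.carrier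

theorem emb : Topology.IsOpenEmbedding ((f ⁻¹ᵁ V).ι.base : TT f V ⟶ X.toPresheafedSpace.carrier) :=
  (f ⁻¹ᵁ V).ι.isOpenEmbedding

/-- The identification over `V`. -/
noncomputable def al (G : CohTop.Ab X.toPresheafedSpace.carrier) (n : ℕ) (W : (V : Scheme.{u}).Opens) :
    Ext.{u} (Zs.obj ((f ∣_ V) ⁻¹ᵁ W)) ((rV X (f ⁻¹ᵁ V)).obj G) n ≃+
      Ext.{u} (Zs.obj (f ⁻¹ᵁ (V.ι ''ᵁ W))) G n :=
  Bridge.alpha (T := TT f V) (emb f V) G n (image_morphismRestrict_preimage f V W)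

/-- The comparison over `V`. -/
noncomputable def cmpV : Glue.Cmp (f ∣_ V) ((Z I 0).restrict (f ⁻¹ᵁ V).ι) (p + 1)
    ((rV S V).obj (Coh.toAb (R I f p))) where
  e W := (e f I p (V.ι ''ᵁ W)).comp (al f V (Coh.toAb (Z I 0)) (p + 1) W).toAddMonoidHom
  nat {W W'} h x := by
    refine (congrArg (e f I p (V.ι ''ᵁ W')) (Bridge.alpha_rs (T := TT f V) (emb f V) (Coh.toAb (Z I 0)) (p + 1) ((f ∣_ V).preimage_mono h)
      (image_morphismRestrict_preimage f V W) (image_morphismRestrict_preimage f V W')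
      (f.preimage_mono (V.ι.image_mono h)) x)).trans ?_
    exact e_nat f I p (V.ι.image_mono h) _
  surj W t y hy := by
    obtain ⟨W₁, h₁, hy₁, z, hz⟩ := e_surj f I p (V.ι ''ᵁ W) t (V.ι y) ⟨y, hy, rfl⟩
    have h₂ : V.ι ⁻¹ᵁ W₁ ≤ W :=
      (V.ι.preimage_mono h₁).trans (le_of_eq (V.ι.preimage_image_eq W))
    have h₃ : V.ι ''ᵁ (V.ι ⁻¹ᵁ W₁) ≤ W₁ := V.ι.image_preimage_le W₁
    refine ⟨V.ι ⁻¹ᵁ W₁, h₂, hy₁, (al f V (Coh.toAb (Z I 0)) (p + 1) (V.ι ⁻¹ᵁ W₁)).symm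
      (rs (Coh.toAb (Z I 0)) (p + 1) (f.preimage_mono h₃) z), ?_⟩
    refine (congrArg (e f I p (V.ι ''ᵁ (V.ι ⁻¹ᵁ W₁))) (AddEquiv.apply_symm_apply _ _)).trans ?_
    refine (e_nat f I p h₃ z).trans ((congrArg _ hz).trans ?_)
    exact Groth.Agent.Lib.CohDelta.Units.map_map (R I f p).presheaf (homOfLE h₁).op (homOfLE h₃).op
      (V.ι.opensFunctor.map (homOfLE h₂)).op t
  inj W x hx y hy := by
    obtain ⟨W₁, h₁, hy₁, hz⟩ := e_inj f I p (V.ι ''ᵁ W) _ hx (V.ι y) ⟨y, hy, rfl⟩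
    have h₂ : V.ι ⁻¹ᵁ W₁ ≤ W :=
      (V.ι.preimage_mono h₁).trans (le_of_eq (V.ι.preimage_image_eq W))
    have h₃ : V.ι ''ᵁ (V.ι ⁻¹ᵁ W₁) ≤ W₁ := V.ι.image_preimage_le W₁
    refine ⟨V.ι ⁻¹ᵁ W₁, h₂, hy₁, (al f V (Coh.toAb (Z I 0)) (p + 1) (V.ι ⁻¹ᵁ W₁)).injective ?_⟩
    refine (Bridge.alpha_rs (T := TT f V) (emb f V) (Coh.toAb (Z I 0)) (p + 1) ((f ∣_ V).preimage_mono h₂)
      (image_morphismRestrict_preimage f V W) (image_morphismRestrict_preimage f V _)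
      (f.preimage_mono (V.ι.image_mono h₂)) x).trans ?_
    refine Eq.trans ?_ ((congrArg (rs _ (p + 1) (f.preimage_mono h₃)) hz).trans
      ((map_zero _).trans (map_zero _).symm))
    exact (Loc.rs_rs (Z I 0) (f.preimage_mono h₁) (f.preimage_mono h₃) _).symm

theorem cmpV_e (W : (V : Scheme.{u}).Opens)
    (x : Ext.{u} (Zs.obj ((f ∣_ V) ⁻¹ᵁ W)) ((rV X (f ⁻¹ᵁ V)).obj (Coh.toAb (Z I 0))) (p + 1)) :
    (cmpV f I p V).e W x = e f I p (V.ι ''ᵁ W) (al f V (Coh.toAb (Z I 0)) (p + 1) W x) := rfl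

theorem comp_commute {C : Type (u + 1)} [Category.{u} C] [Abelian C] [HasExt.{u} C] {A B D : C}
    {p : ℕ} (E : Ext.{u} A B 1) (J : Ext.{u} B D p) (a : A ⟶ A) (b : B ⟶ B) (d : D ⟶ D)
    (hE : E.comp (Ext.mk₀ b) (add_zero 1) = (Ext.mk₀ a).comp E (zero_add 1))
    (hJ : J.comp (Ext.mk₀ d) (add_zero p) = (Ext.mk₀ b).comp J (zero_add p))
    (h : 1 + p = p + 1) :
    (E.comp J h).comp (Ext.mk₀ d) (add_zero (p + 1)) =
      (Ext.mk₀ a).comp (E.comp J h) (zero_add (p + 1)) := by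
  rw [Ext.comp_assoc E J (Ext.mk₀ d) h (add_zero p) (by omega), hJ,
    ← Ext.comp_assoc E (Ext.mk₀ b) J (add_zero 1) (zero_add p) (by omega), hE,
    Ext.comp_assoc (Ext.mk₀ a) E J (zero_add 1) h (by omega)]

theorem smul_natural (g : Coh.Γtop ((f ⁻¹ᵁ V : X.Opens) : Scheme.{u})) {A B : X.Modules}
    (φ : A ⟶ B) :
    (rV X (f ⁻¹ᵁ V)).map (abMap φ) ≫ Coh.smulAb (B.restrict (f ⁻¹ᵁ V).ι) g =
      Coh.smulAb (A.restrict (f ⁻¹ᵁ V).ι) g ≫ (rV X (f ⁻¹ᵁ V)).map (abMap φ) := by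
  ext O m
  exact (((Scheme.Modules.restrictFunctor (f ⁻¹ᵁ V).ι).map φ).app_smul _ _).symm

theorem cls_smul (g : Coh.Γtop ((f ⁻¹ᵁ V : X.Opens) : Scheme.{u})) (p : ℕ) :
    ((cls I p).mapExactFunctor (rV X (f ⁻¹ᵁ V))).comp
        (Ext.mk₀ (Coh.smulAb ((Z I p).restrict (f ⁻¹ᵁ V).ι) g)) (add_zero 1) =
      (Ext.mk₀ (Coh.smulAb ((Z I (p + 1)).restrict (f ⁻¹ᵁ V).ι) g)).comp
        ((cls I p).mapExactFunctor (rV X (f ⁻¹ᵁ V))) (zero_add 1) := by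
  have hT : ((seq I p).map (abF X)).ShortExact := abS_shortExact (seq_shortExact I p)
  have hA := hT.map_of_exact (rV X (f ⁻¹ᵁ V))
  let φ : ((seq I p).map (abF X)).map (rV X (f ⁻¹ᵁ V)) ⟶
      ((seq I p).map (abF X)).map (rV X (f ⁻¹ᵁ V)) :=
    { τ₁ := Coh.smulAb ((seq I p).X₁.restrict (f ⁻¹ᵁ V).ι) g
      τ₂ := Coh.smulAb ((seq I p).X₂.restrict (f ⁻¹ᵁ V).ι) g
      τ₃ := Coh.smulAb ((seq I p).X₃.restrict (f ⁻¹ᵁ V).ι) g
      comm₁₂ := (smul_natural f V g (seq I p).f).symm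
      comm₂₃ := (smul_natural f V g (seq I p).g).symm }
  have key : hA.extClass.comp (Ext.mk₀ φ.τ₁) (add_zero 1) =
      (Ext.mk₀ φ.τ₃).comp hA.extClass (zero_add 1) :=
    ShortComplex.ShortExact.extClass_naturality hA hA φ
  have hcls : (cls I p).mapExactFunctor (rV X (f ⁻¹ᵁ V)) = hA.extClass :=
    Ext.mapExactFunctor_extClass _ hT
  exact (congrArg (fun k ↦ Ext.comp k _ (add_zero 1)) hcls).trans
    (key.trans (congrArg (fun k ↦ Ext.comp _ k (zero_add 1)) hcls).symm)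

/-- Multiplication by a function on `f⁻¹V` commutes with the iterated extension class. -/
theorem iter_smul (g : Coh.Γtop ((f ⁻¹ᵁ V : X.Opens) : Scheme.{u})) : ∀ p : ℕ,
    ((iter I p).mapExactFunctor (rV X (f ⁻¹ᵁ V))).comp
        (Ext.mk₀ (Coh.smulAb ((Z I 0).restrict (f ⁻¹ᵁ V).ι) g)) (add_zero p) =
      (Ext.mk₀ (Coh.smulAb ((Z I p).restrict (f ⁻¹ᵁ V).ι) g)).comp
        ((iter I p).mapExactFunctor (rV X (f ⁻¹ᵁ V))) (zero_add p)
  | 0 => by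
    rw [show iter I 0 = Ext.mk₀ (𝟙 (Coh.toAb (Z I 0))) from rfl, Ext.mapExactFunctor_mk₀,
      CategoryTheory.Functor.map_id]
    exact (Ext.mk₀_id_comp _).trans (Ext.comp_mk₀_id _).symm
  | p + 1 => by
    rw [iter_succ, Ext.mapExactFunctor_comp]
    exact comp_commute _ _ _ _ _ (cls_smul f I V g p) (iter_smul g p) _

theorem appLE_restrict {U U' : S.Opens} {A A' : X.Opens} (e : A ≤ f ⁻¹ᵁ U) (i : A' ⟶ A)
    (h : U' ≤ U) (e' : A' = f ⁻¹ᵁ U') (r : Γ(S, U)) :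
    X.presheaf.map i.op (f.appLE U A e r) =
      X.presheaf.map (eqToHom e').op (f.app U' (S.presheaf.map (homOfLE h).op r)) := by
  simp only [← ConcreteCategory.comp_apply, Category.assoc, Scheme.Hom.app_eq_appLE,
    Scheme.Hom.appLE_map, Scheme.Hom.map_appLE]

/-- Linearity of the comparison over `V`. -/
theorem cmpV_smul (r : Γ(S, V.ι ''ᵁ ⊤)) (W : (V : Scheme.{u}).Opens)
    (x : Ext.{u} (Zs.obj ((f ∣_ V) ⁻¹ᵁ W)) ((rV X (f ⁻¹ᵁ V)).obj (Coh.toAb (Z I 0))) (p + 1)) :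
    (cmpV f I p V).e W (Loc.mulA ((Z I 0).restrict (f ⁻¹ᵁ V).ι) (Glue.pb (f ∣_ V) r) _ (p + 1) x) =
      (S.presheaf.map (homOfLE (V.ι.image_mono le_top : V.ι ''ᵁ W ≤ V.ι ''ᵁ ⊤)).op r) •
        (show Γ(R I f p, V.ι ''ᵁ W) from (cmpV f I p V).e W x) := by
  obtain ⟨y, rfl⟩ := (al f V (Coh.toAb (Z I 0)) (p + 1) W).symm.surjective x
  obtain ⟨s, rfl⟩ := c_surjective I (f ⁻¹ᵁ (V.ι ''ᵁ W)) (p + 1) y
  let g := Glue.pb (f ∣_ V) r
  let he := image_morphismRestrict_preimage f V W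
  let s' : Γ((Z I (p + 1)).restrict (f ⁻¹ᵁ V).ι, (f ∣_ V) ⁻¹ᵁ W) :=
    (Z I (p + 1)).presheaf.map (eqToHom he).op s
  let B := (iter I (p + 1)).mapExactFunctor (rV X (f ⁻¹ᵁ V))
  have hx : ∀ u : Γ(Z I (p + 1), f ⁻¹ᵁ (V.ι ''ᵁ W)),
      (al f V (Coh.toAb (Z I 0)) (p + 1) W).symm (c I _ (p + 1) u) =
        (Ext.mk₀ ((homEquiv ((f ∣_ V) ⁻¹ᵁ W) ((rV X (f ⁻¹ᵁ V)).obj (Coh.toAb (Z I (p + 1))))).symm
          ((Z I (p + 1)).presheaf.map (eqToHom he).op u))).comp B (zero_add _) := by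
    intro u
    rw [AddEquiv.symm_apply_eq]
    refine Eq.trans ?_ (Bridge.alpha_comp (T := TT f V) (emb f V) he _ (iter I (p + 1)) (zero_add (p + 1))).symm
    exact congrArg (fun k ↦ Ext.comp k (iter I (p + 1)) (zero_add (p + 1)))
      (Bridge.alpha_mk₀ (T := TT f V) (emb f V) (Coh.toAb (Z I (p + 1))) he u).symm
  let a := f.app (V.ι ''ᵁ W)
    (S.presheaf.map (homOfLE (V.ι.image_mono le_top : V.ι ''ᵁ W ≤ V.ι ''ᵁ ⊤)).op r)
  have hm : Loc.mulA ((Z I 0).restrict (f ⁻¹ᵁ V).ι) g _ (p + 1)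
        ((al f V (Coh.toAb (Z I 0)) (p + 1) W).symm (c I _ (p + 1) s)) =
      (al f V (Coh.toAb (Z I 0)) (p + 1) W).symm (c I _ (p + 1) (a • s)) := by
    refine (congrArg (Loc.mulA ((Z I 0).restrict (f ⁻¹ᵁ V).ι) g _ (p + 1)) (hx s)).trans
      (Eq.trans ?_ (hx (a • s)).symm)
    refine (Ext.comp_assoc _ B _ (zero_add (p + 1)) (add_zero (p + 1)) (by omega)).trans ?_
    refine (congrArg (fun k ↦ Ext.comp _ k (zero_add (p + 1))) (iter_smul f I V g (p + 1))).trans ?_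
    refine (Ext.mk₀_comp_mk₀_assoc _ _ _).trans (congrArg (fun k ↦ (Ext.mk₀ k).comp B (zero_add _)) ?_)
    apply (homEquiv ((f ∣_ V) ⁻¹ᵁ W) ((rV X (f ⁻¹ᵁ V)).obj (Coh.toAb (Z I (p + 1))))).injective
    refine (homEquiv_comp _ _).trans ?_
    refine (congrArg _ (Equiv.apply_symm_apply _ _)).trans (Eq.trans ?_ (Equiv.apply_symm_apply _ _).symm)
    refine (Coh.smulAb_app _ g _ _).trans ?_
    refine Eq.trans ?_ ((Z I (p + 1)).map_smul (eqToHom he) a s).symm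
    refine congrArg (fun k : Γ(X, (f ⁻¹ᵁ V).ι ''ᵁ ((f ∣_ V) ⁻¹ᵁ W)) ↦
      k • (show Γ(Z I (p + 1), (f ⁻¹ᵁ V).ι ''ᵁ ((f ∣_ V) ⁻¹ᵁ W)) from
        (Z I (p + 1)).presheaf.map (eqToHom he).op s)) ?_
    show ((f ⁻¹ᵁ V).ι.appIso ((f ∣_ V) ⁻¹ᵁ W)).inv
        ((((f ⁻¹ᵁ V : X.Opens) : Scheme.{u}).presheaf.map (homOfLE le_top).op) ((f ∣_ V).app ⊤ r)) =
      X.presheaf.map (eqToHom he).op
        (f.app (V.ι ''ᵁ W) (S.presheaf.map
          (homOfLE (V.ι.image_mono le_top : V.ι ''ᵁ W ≤ V.ι ''ᵁ ⊤)).op r))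
    rw [Scheme.Opens.ι_appIso, Scheme.Opens.toScheme_presheaf_map, morphismRestrict_app']
    exact appLE_restrict f _ _ _ he r
  refine (congrArg ((cmpV f I p V).e W) hm).trans ?_
  refine (congrArg (e f I p (V.ι ''ᵁ W)) (AddEquiv.apply_symm_apply _ _)).trans ?_
  refine (e_c f I p _ (a • s)).trans ?_
  refine Eq.trans ?_ (congrArg (fun k : Γ(R I f p, V.ι ''ᵁ W) ↦ _ • k)
    ((congrArg (e f I p (V.ι ''ᵁ W)) (AddEquiv.apply_symm_apply _ _)).trans (e_c f I p _ s))).symm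
  exact ((cokernel.π ((Scheme.Modules.pushforward f).map (t I p))).app_smul
    (S.presheaf.map (homOfLE (V.ι.image_mono le_top : V.ι ''ᵁ W ≤ V.ι ''ᵁ ⊤)).op r)
    (show Γ((Scheme.Modules.pushforward f).obj (Z I (p + 1)), V.ι ''ᵁ W) from s))

/-- Over an affine open the comparison is bijective. -/
theorem e_bijective [QuasiCompact f] [QuasiSeparated f] [(Z I 0).IsQuasicoherent] {W : S.Opens}
    (hW : IsAffineOpen W) : Function.Bijective (e f I p W) := by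
  haveI : IsAffine (W : Scheme.{u}) := hW
  have h := Glue.bijective_top (f ∣_ W) ((Z I 0).restrict (f ⁻¹ᵁ W).ι) (cmpV f I p W)
  have h2 : Function.Bijective (e f I p (W.ι ''ᵁ ⊤)) :=
    (Function.Bijective.of_comp_iff _
      (al f W (Coh.toAb (Z I 0)) (p + 1) ⊤).bijective).1 h
  rwa [W.ι_image_top] at h2

open Groth.Agent.Lib.QCoh.Localizing in
/-- `Rᵖ⁺¹ f_*` of a quasi-coherent module is quasi-coherent. -/
theorem isQCoh_R [QuasiCompact f] [QuasiSeparated f] (hM : M.IsQuasicoherent) :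
    (R I f p).IsQuasicoherent := by
  haveI : (Z I 0).IsQuasicoherent :=
    ObjectProperty.prop_of_iso (SheafOfModules.isQuasicoherent (R := X.ringCatSheaf)) (augIso I) hM
  refine isQCoh_of_forall_exists_localizes fun y ↦ ?_
  obtain ⟨V, hV, hyV, -⟩ := exists_isAffineOpen_mem_and_subset (U := ⊤) (x := y) trivial
  haveI : IsAffine (V : Scheme.{u}) := hV
  refine ⟨V.ι ''ᵁ ⊤, V.ι_image_top.symm ▸ hV, V.ι_image_top.symm ▸ hyV, fun r ↦ ?_⟩
  let M' := (Z I 0).restrict (f ⁻¹ᵁ V).ι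
  let E := cmpV f I p V
  let g := Glue.pb (f ∣_ V) r
  let r' : Γ((V : Scheme.{u}), ⊤) := r
  let D : (V : Scheme.{u}).Opens := (V : Scheme.{u}).basicOpen r'
  have hD : V.ι ''ᵁ D = S.basicOpen r := by
    refine (Scheme.image_basicOpen V.ι r').trans (congrArg S.basicOpen ?_)
    simp [r']
    rfl
  have hbT : Function.Bijective (E.e ⊤) := Glue.bijective_top (f ∣_ V) M' E
  have hbD : Function.Injective (E.e D) := Glue.injective (f ∣_ V) M' E r'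
  have hloc := Glue.loc (f ∣_ V) M' (p := p + 1) 1 r'
  rw [one_mul, Scheme.basicOpen_of_isUnit _ isUnit_one] at hloc
  have hDt : D ≤ ⊤ := le_top
  have hdle : V.ι ''ᵁ D ≤ V.ι ''ᵁ ⊤ := V.ι.image_mono hDt
  have hres : ∀ x, E.e D (rs _ (p + 1) ((f ∣_ V).preimage_mono hDt) x) =
      res (R I f p) hdle (E.e ⊤ x) := fun x ↦ E.nat hDt x
  constructor
  · suffices ∀ s : Γ(R I f p, V.ι ''ᵁ D), ∃ (n : ℕ) (u : Γ(R I f p, V.ι ''ᵁ ⊤)),
        res (R I f p) hdle u = resR hdle r ^ n • s by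
      suffices ∀ (D' : S.Opens) (hD' : D' = V.ι ''ᵁ D) (h : D' ≤ V.ι ''ᵁ ⊤) (s : Γ(R I f p, D')),
          ∃ (n : ℕ) (u : Γ(R I f p, V.ι ''ᵁ ⊤)), res (R I f p) h u = resR h r ^ n • s from
        fun s ↦ this _ hD.symm _ s
      rintro _ rfl _ s
      exact this s
    intro s
    have hDa : IsAffineOpen (V.ι ''ᵁ D) :=
      ((isAffineOpen_top _).basicOpen r').image_of_isOpenImmersion V.ι
    obtain ⟨y, rfl⟩ : ∃ y, E.e D y = s :=
      ((e_bijective f I p hDa).comp (al f V (Coh.toAb (Z I 0)) (p + 1) D).bijective).2 s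
    obtain ⟨n, x, hx⟩ := hloc.2 ((f ∣_ V).preimage_mono hDt) y
    refine ⟨n, E.e ⊤ x, ((hres x).symm.trans (congrArg (E.e D) hx)).trans ?_⟩
    rw [← Glue.pb_pow]
    refine (cmpV_smul f I p V (r' ^ n) D y).trans ?_
    exact congrArg (fun k : Γ(S, V.ι ''ᵁ D) ↦ k • (show Γ(R I f p, V.ι ''ᵁ D) from E.e D y))
      (map_pow _ _ _)
  · suffices ∀ u : Γ(R I f p, V.ι ''ᵁ ⊤), res (R I f p) hdle u = 0 → ∃ n : ℕ, r ^ n • u = 0 by
      suffices ∀ (D' : S.Opens) (hD' : D' = V.ι ''ᵁ D) (h : D' ≤ V.ι ''ᵁ ⊤)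
          (u : Γ(R I f p, V.ι ''ᵁ ⊤)), res (R I f p) h u = 0 → ∃ n : ℕ, r ^ n • u = 0 from
        fun u ↦ this _ hD.symm _ u
      rintro _ rfl _ u
      exact this u
    intro u hu
    obtain ⟨x, rfl⟩ := hbT.2 u
    have h0 : rs _ (p + 1) ((f ∣_ V).preimage_mono hDt) x = 0 :=
      hbD (((hres x).trans hu).trans (map_zero _).symm)
    obtain ⟨n, hn⟩ := hloc.1 ((f ∣_ V).preimage_mono hDt) x h0
    refine ⟨n, ?_⟩
    rw [← Glue.pb_pow] at hn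
    have := (cmpV_smul f I p V (r' ^ n) ⊤ x).symm.trans ((congrArg (E.e ⊤) hn).trans (map_zero _))
    refine Eq.trans ?_ this
    exact congrArg (fun k : Γ(S, V.ι ''ᵁ ⊤) ↦ k • (show Γ(R I f p, V.ι ''ᵁ ⊤) from E.e ⊤ x))
      (resR_self le_rfl (r ^ n)).symm

end Restrict

end Groth.Agent.Lib.CohDelta.QCohR
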