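import Groth.Agent.Lib.RDer.Connecting
import Mathlib.CategoryTheory.Abelian.RightDerived

/-!
# Right derived functors from a chain with acyclic middle terms

For `0 → Z k → X k → Z (k+1) → 0` with `RⁱF(X k) = 0`, `i > 0`, and `F` left exact:
`Rᵖ⁺¹F(Z 0) = coker(F(X p) → F(Z (p+1)))`.
-/

set_option autoImplicit false

universe v v' u u'

open CategoryTheory CategoryTheory.Limits

namespace Groth.Agent.Lib.CohDelta.RAcyc

variable {C : Type u} [Category.{v} C] [Abelian C] [EnoughInjectives C]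
  {D : Type u'} [Category.{v'} D] [Abelian D] (F : C ⥤ D) [F.Additive] [PreservesFiniteLimits F]

theorem nonempty_shift_iso {S : ShortComplex C} (hS : S.ShortExact)
    (h : ∀ q, IsZero ((F.rightDerived (q + 1)).obj S.X₂)) (n : ℕ) :
    Nonempty ((F.rightDerived (n + 1)).obj S.X₃ ≅ (F.rightDerived (n + 1 + 1)).obj S.X₁) := by
  obtain ⟨Δ⟩ := Groth.Agent.Lib.RDer.Connecting.nonempty_derivedLES F
  haveI : Mono (Δ.δ S hS (n + 1) (n + 1 + 1) rfl) :=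
    (Δ.exact₃ S hS (n + 1) (n + 1 + 1) rfl).mono_g ((h n).eq_of_src _ _)
  haveI : Epi (Δ.δ S hS (n + 1) (n + 1 + 1) rfl) :=
    (Δ.exact₁ S hS (n + 1) (n + 1 + 1) rfl).epi_f ((h (n + 1)).eq_of_tgt _ _)
  haveI : IsIso (Δ.δ S hS (n + 1) (n + 1 + 1) rfl) := isIso_of_mono_of_epi _
  exact ⟨asIso (Δ.δ S hS (n + 1) (n + 1 + 1) rfl)⟩

theorem nonempty_one_iso {S : ShortComplex C} (hS : S.ShortExact)
    (h : IsZero ((F.rightDerived 1).obj S.X₂)) :
    Nonempty ((F.rightDerived 1).obj S.X₁ ≅ cokernel (F.map S.g)) := by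
  obtain ⟨Δ⟩ := Groth.Agent.Lib.RDer.Connecting.nonempty_derivedLES F
  haveI : Epi (Δ.δ S hS 0 1 rfl) :=
    (Δ.exact₁ S hS 0 1 rfl).epi_f (h.eq_of_tgt _ _)
  let hc := (Δ.exact₃ S hS 0 1 rfl).gIsCokernel
  refine ⟨(hc.coconePointUniqueUpToIso (colimit.isColimit _)) ≪≫ ?_⟩
  exact cokernel.mapIso _ _ (F.rightDerivedZeroIsoSelf.app S.X₂)
    (F.rightDerivedZeroIsoSelf.app S.X₃) (F.rightDerivedZeroIsoSelf.hom.naturality S.g)

theorem nonempty_chain_iso (S : ℕ → ShortComplex C) (hS : ∀ k, (S k).ShortExact)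
    (e : ∀ k, (S k).X₃ ≅ (S (k + 1)).X₁)
    (h : ∀ k q, IsZero ((F.rightDerived (q + 1)).obj (S k).X₂)) :
    ∀ p n : ℕ, Nonempty ((F.rightDerived (p + n + 1)).obj (S 0).X₁ ≅
      (F.rightDerived (n + 1)).obj (S p).X₁)
  | 0, n => ⟨eqToIso (by rw [zero_add])⟩
  | p + 1, n => by
    obtain ⟨i⟩ := nonempty_chain_iso S hS e h p (n + 1)
    obtain ⟨j⟩ := nonempty_shift_iso F (hS p) (h p) n
    exact ⟨eqToIso (by rw [show p + 1 + n + 1 = p + (n + 1) + 1 from by omega]) ≪≫ i ≪≫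
      j.symm ≪≫ (F.rightDerived (n + 1)).mapIso (e p)⟩

theorem nonempty_coker_iso (S : ℕ → ShortComplex C) (hS : ∀ k, (S k).ShortExact)
    (e : ∀ k, (S k).X₃ ≅ (S (k + 1)).X₁)
    (h : ∀ k q, IsZero ((F.rightDerived (q + 1)).obj (S k).X₂)) (p : ℕ) :
    Nonempty ((F.rightDerived (p + 1)).obj (S 0).X₁ ≅ cokernel (F.map (S p).g)) := by
  obtain ⟨i⟩ := nonempty_chain_iso F S hS e h p 0
  obtain ⟨j⟩ := nonempty_one_iso F (hS p) (h p 0)
  exact ⟨i ≪≫ j⟩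

end Groth.Agent.Lib.CohDelta.RAcyc
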