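import Groth.Agent.Lib.CohDelta.QCohR
import Groth.Agent.Lib.CohDelta.RAcyc
import Groth.Agent.Lib.ZarCoh.RpushVanish

/-!
# Higher direct images of modules and of their underlying abelian sheaves
-/

set_option linter.style.haveILetI false
set_option maxHeartbeats 1000000

universe u

open CategoryTheory CategoryTheory.Limits AlgebraicGeometry TopologicalSpace Opposite
open CategoryTheory.Abelian
open Groth.Agent.Lib.ZarCoh.Basic Groth.Agent.Lib.CohDelta.Basic Groth.Agent.Lib.CohDelta.Syzygy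

namespace Groth.Agent.Lib.CohDelta.AbR

variable {X Y : Scheme.{u}} (f : X ⟶ Y)

theorem isZero_rpushAb_injective (I : X.Modules) [Injective I] (q : ℕ) :
    IsZero ((Coh.RpushAb f (q + 1)).obj (Coh.toAb I)) :=
  Groth.Agent.Lib.ZarCoh.RpushVanish.isZero_RpushAb f.base (B := Set.univ)
    (Opens.isBasis_iff_nbhd.2 fun {U _} hx ↦ ⟨U, Set.mem_univ _, hx, le_rfl⟩) q (fun W _ ↦ Flasque.subsingleton_HU I _ q)

variable {M : X.Modules} (I : InjectiveResolution M)

/-- `toAb (R I f p) = Rᵖ⁺¹f_*` of the underlying abelian sheaf. -/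
theorem nonempty_rpushAb_iso (p : ℕ) :
    Nonempty ((Coh.RpushAb f (p + 1)).obj (Coh.toAb M) ≅ Coh.toAb (R I f p)) := by
  haveI : PreservesLimitsOfSize.{0, 0} (Coh.pushAb f) :=
    (TopCat.Sheaf.pullbackPushforwardAdjunction AddCommGrpCat.{u} f.base).rightAdjoint_preservesLimits
  haveI : PreservesFiniteLimits (Coh.pushAb f) :=
    PreservesLimitsOfSize.preservesFiniteLimits _
  haveI : (Coh.pushAb f).Additive := Functor.additive_of_preserves_binary_products _
  obtain ⟨i⟩ := RAcyc.nonempty_coker_iso (Coh.pushAb f) (fun k ↦ abS (seq I k))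
    (fun k ↦ abS_shortExact (seq_shortExact I k)) (fun k ↦ Iso.refl _)
    (fun k q ↦ haveI := I.injective k; isZero_rpushAb_injective f (I.cocomplex.X k) q) p
  exact ⟨(Coh.RpushAb f (p + 1)).mapIso ((abF X).mapIso (augIso I)) ≪≫ i ≪≫
    (PreservesCokernel.iso (abF Y) ((Scheme.Modules.pushforward f).map (t I p))).symm⟩

include I in
open Groth.Agent.Lib.ZarCoh.Compare in
/-- `Hᵖ⁺¹(X, M) = Γ(S, Rᵖ⁺¹f_*M)` for `f` qcqs over affine `S`. -/
theorem nonempty_sections_equiv [QuasiCompact f] [QuasiSeparated f] [IsAffine Y] (p : ℕ)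
    (hM : M.IsQuasicoherent) :
    Nonempty (Coh.HH X M (p + 1) ≃+
      ↑(((Coh.RpushAb f (p + 1)).obj (Coh.toAb M)).obj.obj (op ⊤))) := by
  haveI : (Z I 0).IsQuasicoherent :=
    ObjectProperty.prop_of_iso (SheafOfModules.isQuasicoherent (R := X.ringCatSheaf)) (augIso I) hM
  obtain ⟨i⟩ := nonempty_rpushAb_iso f I p
  let E : Ext.{u} (Zs.obj (⊤ : X.Opens)) (Coh.toAb (Z I 0)) (p + 1) ≃+ Γ(R I f p, ⊤) :=
    AddEquiv.ofBijective (QCohR.e f I p ⊤) (QCohR.e_bijective f I p (isAffineOpen_top Y))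
  let T : Ext.{u} (Zs.obj (⊤ : X.Opens)) (Coh.toAb M) (p + 1) ≃+
      Ext.{u} (Zs.obj (⊤ : X.Opens)) (Coh.toAb (Z I 0)) (p + 1) :=
    { (Ext.mk₀ (abMap (augIso I).hom)).postcomp _ (add_zero (p + 1)) with
      invFun := (Ext.mk₀ (abMap (augIso I).inv)).postcomp _ (add_zero (p + 1))
      left_inv := fun x ↦ by
        show Ext.comp (Ext.comp x _ (add_zero _)) _ (add_zero _) = x
        rw [Ext.comp_assoc_of_second_deg_zero, Ext.mk₀_comp_mk₀, abMap, abMap,
          ← Functor.map_comp, Iso.hom_inv_id, CategoryTheory.Functor.map_id, Ext.comp_mk₀_id]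
      right_inv := fun x ↦ by
        show Ext.comp (Ext.comp x _ (add_zero _)) _ (add_zero _) = x
        rw [Ext.comp_assoc_of_second_deg_zero, Ext.mk₀_comp_mk₀, abMap, abMap,
          ← Functor.map_comp, Iso.inv_hom_id, CategoryTheory.Functor.map_id, Ext.comp_mk₀_id] }
  exact ⟨(hTop (Coh.toAb M) (p + 1)).trans (T.trans (E.trans
    (((sheafToPresheaf _ _).mapIso i.symm).app (op ⊤)).addCommGroupIsoToAddEquiv))⟩

end Groth.Agent.Lib.CohDelta.AbR
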