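import Groth.Agent.Lib.CohDelta.SerreRad
import Groth.Agent.Lib.CohDelta.QCohR
import Groth.Agent.Lib.DerivedOX.Grothendieck
import Groth.Agent.H75.RedSub
import Groth.Agent.S11319

/-!
# Affine morphisms from vanishing of `R¹f_*` on ideals
-/

set_option linter.style.haveILetI false
set_option autoImplicit false

universe u

open CategoryTheory CategoryTheory.Limits AlgebraicGeometry TopologicalSpace Opposite
  CategoryTheory.Abelian
open Groth.Agent.Lib Groth.Agent.Lib.ZarCoh.Basic Groth.Agent.Lib.CohDelta.Basic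

namespace Groth.Agent.Lib.CohDelta.SerreRel

variable {X Y : Scheme.{u}}

theorem app_surjective_of_h1 {S : ShortComplex X.Modules} (hS : S.ShortExact) (U : X.Opens)
    (h₁ : Subsingleton (Ext.{u} (Zs.obj U) (Coh.toAb S.X₁) 1)) :
    Function.Surjective (S.g.app U) := by
  intro s
  have hS' := Groth.Agent.H34.HOne.shortExact_toAb hS
  let T := S.map (Groth.Agent.H34.HOne.ab X)
  let y := (homEquiv U T.X₃).symm (show T.X₃.obj.obj (op U) from s)
  obtain ⟨x, hx⟩ := Ext.covariant_sequence_exact₃ _ hS' (Ext.mk₀ y) (zero_add 1) (h₁.elim _ _)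
  obtain ⟨x, rfl⟩ := (Ext.mk₀_bijective _ _).2 x
  rw [Ext.mk₀_comp_mk₀] at hx
  have := (Ext.mk₀_bijective _ _).1 hx
  refine ⟨homEquiv U T.X₂ x, ?_⟩
  have h2 := homEquiv_comp x T.g
  rw [this, Equiv.apply_symm_apply] at h2
  exact h2.symm

theorem hn_eq_zero (f : X ⟶ Y) [QuasiCompact f] [QuasiSeparated f] (J : X.Modules)
    (hJ : J.IsQuasicoherent) (p : ℕ) (h : IsZero ((Coh.RpushAb f (p + 1)).obj (Coh.toAb J)))
    {V : Y.Opens} (hV : IsAffineOpen V) :
    Subsingleton (Ext.{u} (Zs.obj (f ⁻¹ᵁ V)) (Coh.toAb J) (p + 1)) := by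
  let I : InjectiveResolution J := injectiveResolution J
  haveI : (Syzygy.Z I 0).IsQuasicoherent :=
    ObjectProperty.prop_of_iso (SheafOfModules.isQuasicoherent (R := X.ringCatSheaf))
      (Syzygy.augIso I) hJ
  obtain ⟨k⟩ := Groth.Agent.S11319.result f J (p + 1)
  have h0 : IsZero ((Coh.Rpush f (p + 1)).obj J) := by
    have h' := h.of_iso k
    rw [IsZero.iff_id_eq_zero] at h' ⊢
    apply (SheafOfModules.toSheaf Y.ringCatSheaf).map_injective
    exact ((SheafOfModules.toSheaf Y.ringCatSheaf).map_id _).trans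
      (h'.trans ((SheafOfModules.toSheaf Y.ringCatSheaf).map_zero _ _).symm)
  obtain ⟨i⟩ := Syzygy.nonempty_rightDerived_iso I f p
  haveI : Subsingleton Γ(Syzygy.R I f p, V) :=
    subsingleton_of_forall_eq 0 fun x ↦ congr(($((h0.of_iso i.symm).eq_of_src (𝟙 _) 0)).app V x)
  have hZ : Subsingleton (Ext.{u} (Zs.obj (f ⁻¹ᵁ V)) (Coh.toAb (Syzygy.Z I 0)) (p + 1)) :=
    (QCohR.e_bijective f I p hV).1.subsingleton
  exact Groth.Agent.H34.HOne.ext_of_iso _ (p + 1) ((abF X).mapIso (Syzygy.augIso I)).symm hZ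

theorem h1_eq_zero (f : X ⟶ Y) [QuasiCompact f] [QuasiSeparated f] (J : X.Modules)
    (hJ : J.IsQuasicoherent) (h : IsZero ((Coh.RpushAb f 1).obj (Coh.toAb J))) {V : Y.Opens}
    (hV : IsAffineOpen V) : Subsingleton (Ext.{u} (Zs.obj (f ⁻¹ᵁ V)) (Coh.toAb J) 1) :=
  hn_eq_zero f J hJ 0 h hV

theorem isAffineOpen_preimage (f : X ⟶ Y) [IsSeparated f] [QuasiCompact f]
    (h : ∀ (J : X.Modules) (i : J ⟶ Coh.structureModule X), Mono i → Coh.IsQCoh J →
      IsZero ((Coh.RpushAb f 1).obj (Coh.toAb J))) {V : Y.Opens} (hV : IsAffineOpen V) :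
    IsAffineOpen (f ⁻¹ᵁ V) := by
  let U := f ⁻¹ᵁ V
  haveI : CompactSpace (U : Scheme.{u}) :=
    isCompact_iff_compactSpace.mp (f.isCompact_preimage hV.isCompact)
  haveI : IsAffine (V : Scheme.{u}) := hV
  haveI : QuasiSeparatedSpace (U : Scheme.{u}) :=
    quasiSeparatedSpace_of_quasiSeparated (f ∣_ V)
  refine SerreRad.isAffine (X := (U : Scheme.{u})) fun Z₀ ↦ ?_
  let Zc : Closeds X := ⟨closure (⇑U.ι '' (Z₀ : Set (U : Scheme.{u}))), isClosed_closure⟩
  let K : X.IdealSheafData := Scheme.IdealSheafData.vanishingIdeal Zc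
  haveI : AlgebraicGeometry.IsReduced K.subscheme := Groth.Agent.H75.RedSub.isReduced_vanishingIdeal _
  let ι := K.subschemeι
  refine ⟨_, ι ∣_ U, inferInstance, ?_, ?_⟩
  · have hr : Set.range ⇑ι = (Zc : Set X) := by
      rw [Scheme.IdealSheafData.range_subschemeι, Scheme.IdealSheafData.coe_support_vanishingIdeal]
    apply U.ι.isOpenEmbedding.injective.image_injective
    ext x
    constructor
    · rintro ⟨u, ⟨z, rfl⟩, rfl⟩
      have hz : U.ι ((ι ∣_ U) z) ∈ (Zc : Set X) := by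
        rw [← hr]
        exact ⟨(ι ⁻¹ᵁ U).ι z, (congr($(morphismRestrict_ι ι U) z)).symm⟩
      have hcl : (ι ∣_ U) z ∈ closure (Z₀ : Set (U : Scheme.{u})) := by
        rw [U.ι.isOpenEmbedding.isInducing.closure_eq_preimage_closure_image]
        exact hz
      exact ⟨_, Z₀.isClosed.closure_eq ▸ hcl, rfl⟩
    · rintro ⟨u, hu, rfl⟩
      have : U.ι u ∈ Set.range ⇑ι := hr ▸ subset_closure ⟨u, hu, rfl⟩
      obtain ⟨z, hz⟩ := this
      have hzU : z ∈ ι ⁻¹ᵁ U := show ι z ∈ U from hz ▸ u.2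
      refine ⟨_, ⟨⟨z, hzU⟩, rfl⟩, ?_⟩
      exact (congr($(morphismRestrict_ι ι U) ⟨z, hzU⟩)).trans hz
  · haveI := TensorMod.QCohInv.isQCoh_structureModule X
    haveI : ((_root_.ClSub.quotMod K) : X.Modules).IsQuasicoherent := by
      haveI := TensorMod.QCohInv.isQCoh_structureModule K.subscheme
      exact QCoh.Pushforward.isQCoh_pushforward K.subschemeι (M := Coh.structureModule K.subscheme)
    have hq : (_root_.ClSub.idealMod K).IsQuasicoherent :=
      QCoh.Closure.isQCoh_kernel (_root_.ClSub.toSubscheme K)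
    have key : Function.Surjective (ι.app (U.ι ''ᵁ ⊤)) := by
      rw [U.ι_image_top]
      exact app_surjective_of_h1 (ClSub.Quot.idealSeq_shortExact K) U
        (h1_eq_zero f _ hq (h _ (_root_.ClSub.idealModι K) inferInstance hq) hV)
    rw [morphismRestrict_app]
    intro s
    obtain ⟨a, ha⟩ := key (K.subscheme.presheaf.map
      (eqToHom (image_morphismRestrict_preimage ι U ⊤).symm).op s)
    refine ⟨a, ?_⟩
    refine (congrArg (K.subscheme.presheaf.map
      (eqToHom (image_morphismRestrict_preimage ι U ⊤)).op) ha).trans ?_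
    show (K.subscheme.presheaf.map _ ≫ K.subscheme.presheaf.map _) s = s
    rw [← Functor.map_comp]
    refine (congrArg (fun k ↦ K.subscheme.presheaf.map k s) (Subsingleton.elim _ (𝟙 _))).trans ?_
    rw [CategoryTheory.Functor.map_id]
    rfl

end Groth.Agent.Lib.CohDelta.SerreRel
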