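import Groth.Agent.Lib.Modules.ExtendFT
import Groth.Agent.Lib.CohDelta.SerreRel
import Groth.Agent.Lib.ZarCoh.Affine

/-!
# Lifting sections through quotients, testing `H¹` on submodules of finite type
-/

set_option linter.style.haveILetI false
set_option autoImplicit false

universe u

open CategoryTheory CategoryTheory.Limits AlgebraicGeometry TopologicalSpace Opposite
  CategoryTheory.Abelian
open Groth.Agent.Lib Groth.Agent.Lib.ZarCoh.Basic Groth.Agent.Lib.CohDelta.Basic
open Groth.Agent.Lib.Modules.SubStalk Groth.Agent.Lib.Modules.ExtendFT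

namespace Groth.Agent.Lib.CohDelta.FTLift

variable {X : Scheme.{u}}

theorem exists_app_eq {S : ShortComplex X.Modules} (hS : S.ShortExact) (U : X.Opens)
    (d : Γ(S.X₂, U)) (hd : S.g.app U d = 0) : ∃ t : Γ(S.X₁, U), S.f.app U t = d := by
  have hS' := Groth.Agent.H34.HOne.shortExact_toAb hS
  let T := S.map (Groth.Agent.H34.HOne.ab X)
  let y := (homEquiv U T.X₂).symm (show T.X₂.obj.obj (op U) from d)
  have hy : y ≫ T.g = 0 := by
    apply (homEquiv U T.X₃).injective
    rw [homEquiv_comp, Equiv.apply_symm_apply]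
    refine (show _ = (0 : T.X₃.obj.obj (op U)) from hd).trans ?_
    rw [homEquiv_apply]
    rfl
  obtain ⟨x, hx⟩ := Ext.covariant_sequence_exact₂ _ hS' (Ext.mk₀ y)
    ((Ext.mk₀_comp_mk₀ y T.g).trans ((congrArg Ext.mk₀ hy).trans (Ext.mk₀_zero _ _)))
  obtain ⟨x, rfl⟩ := (Ext.mk₀_bijective _ _).2 x
  rw [Ext.mk₀_comp_mk₀] at hx
  have := (Ext.mk₀_bijective _ _).1 hx
  refine ⟨homEquiv U T.X₁ x, ?_⟩
  have h2 := homEquiv_comp x T.f
  rw [this, Equiv.apply_symm_apply] at h2
  exact h2.symm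

variable {F : X.Modules}

theorem isLocFG_binary {S T : Family F} {W : X.Opens} (hS : IsLocFG S W) (hT : IsLocFG T W) :
    IsLocFG (fun y => S y ⊔ T y) W := by
  intro x hx
  obtain ⟨V₁, -, hx₁, hV₁W, n, s, hs⟩ := hS x hx
  obtain ⟨V₂, -, hx₂, -, m, t, ht⟩ := hT x hx
  obtain ⟨V, hV, hxV, hle⟩ :=
    exists_isAffineOpen_mem_and_subset (U := V₁ ⊓ V₂) (x := x) ⟨hx₁, hx₂⟩
  have h₁ : V ≤ V₁ := fun y hy => (hle hy).1
  have h₂ : V ≤ V₂ := fun y hy => (hle hy).2
  refine ⟨V, hV, hxV, h₁.trans hV₁W, n + m,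
    Fin.append (fun i => F.presheaf.map (homOfLE h₁).op (s i))
      (fun i => F.presheaf.map (homOfLE h₂).op (t i)), fun y hy => ?_⟩
  show S y ⊔ T y = _
  rw [hs y (h₁ hy), ht y (h₂ hy), ← span_germ_res h₁ s hy, ← span_germ_res h₂ t hy,
    ← Submodule.span_union]
  congr 1
  ext z
  constructor
  · rintro (⟨i, rfl⟩ | ⟨i, rfl⟩)
    · exact ⟨Fin.castAdd m i, by simp⟩
    · exact ⟨Fin.natAdd n i, by simp⟩
  · rintro ⟨i, rfl⟩
    induction i using Fin.addCases with
    | left i => exact Or.inl ⟨i, by simp⟩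
    | right i => exact Or.inr ⟨i, by simp⟩

theorem exists_family_of_section [F.IsQuasicoherent] [CompactSpace X] [QuasiSeparatedSpace X]
    {U : X.Opens} (hU : IsCompact (U : Set X)) (t : Γ(F, U)) :
    ∃ T : Family F, IsLocFG T ⊤ ∧ t ∈ secs T U := by
  classical
  obtain ⟨s, hs, hcov⟩ := isCompact_and_isOpen_iff_finite_and_eq_biUnion_affineOpens.mp
    (⟨isCompact_univ, isOpen_univ⟩ : IsCompact (Set.univ : Set X) ∧ IsOpen (Set.univ : Set X))
  haveI := hs.fintype
  let V : Fin (Fintype.card s) → X.Opens := fun k => ((Fintype.equivFin s).symm k).1.1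
  have hV : ∀ k, IsAffineOpen (V k) := fun k => ((Fintype.equivFin s).symm k).1.2
  let S₀ : Family F := fun x =>
    if hx : x ∈ U then Submodule.span _ (Set.range fun _ : Fin 1 => F.presheaf.germ U x hx t) else ⊥
  have hS₀ : IsLocFG S₀ U := by
    intro x hx
    obtain ⟨A, hA, hxA, hAU⟩ := exists_isAffineOpen_mem_and_subset (U := U) (x := x) hx
    refine ⟨A, hA, hxA, hAU, 1,
      fun _ => F.presheaf.map (homOfLE (show A ≤ U from hAU)).op t, fun y hy => ?_⟩
    rw [span_germ_res (show A ≤ U from hAU) (fun _ : Fin 1 => t) hy]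
    exact dif_pos (hAU hy)
  have hW : ∀ l, IsCompact (overlap V U l : Set X) := fun l => by
    unfold overlap
    rw [Opens.coe_inf, Opens.coe_sup, Opens.coe_iSup]
    refine QuasiSeparatedSpace.inter_isCompact _ _ (V l).2 (hV l).isCompact ?_ ?_
    · exact U.2.union (isOpen_iUnion fun m => (V m.1).2)
    · exact hU.union (isCompact_iUnion fun m => (hV m.1).isCompact)
  have hcov' : ⨆ l, V l = ⊤ := eq_top_iff.mpr fun x _ => by
    obtain ⟨a, ha, hxa⟩ := Set.mem_iUnion₂.mp (hcov ▸ Set.mem_univ x)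
    exact Opens.mem_iSup.mpr ⟨Fintype.equivFin s ⟨a, ha⟩, by simpa [V] using hxa⟩
  refine ⟨_, isLocFG_total V U S₀ hV hW hS₀ hcov', fun y hy => ?_⟩
  rw [total_of_mem _ _ _ hy]
  simp only [S₀, dif_pos hy]
  exact Submodule.subset_span ⟨0, rfl⟩

theorem exists_family_finite [F.IsQuasicoherent] [CompactSpace X] [QuasiSeparatedSpace X]
    {κ : Type*} [Finite κ] (U : κ → X.Opens) (hU : ∀ k, IsCompact (U k : Set X))
    (t : ∀ k, Γ(F, U k)) : ∃ T : Family F, IsLocFG T ⊤ ∧ ∀ k, t k ∈ secs T (U k) := by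
  classical
  haveI := Fintype.ofFinite κ
  suffices ∀ a : Finset κ, ∃ T : Family F, IsLocFG T ⊤ ∧ ∀ k ∈ a, t k ∈ secs T (U k) by
    obtain ⟨T, hT, h⟩ := this Finset.univ
    exact ⟨T, hT, fun k => h k (Finset.mem_univ k)⟩
  intro a
  induction a using Finset.induction with
  | empty =>
    obtain ⟨T, hT, -⟩ := exists_family_of_section (F := F) (U := ⊤) isCompact_univ 0
    exact ⟨T, hT, by simp⟩
  | insert k a _ ih =>
    obtain ⟨T, hT, h⟩ := ih
    obtain ⟨T', hT', h'⟩ := exists_family_of_section (hU k) (t k)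
    refine ⟨fun y => T y ⊔ T' y, isLocFG_binary hT hT', fun j hj x hx => ?_⟩
    rcases Finset.mem_insert.1 hj with rfl | hj
    · exact Submodule.mem_sup_right (h' x hx)
    · exact Submodule.mem_sup_left (h j hj x hx)

theorem app_top_surjective [CompactSpace X] [QuasiSeparatedSpace X] {S : ShortComplex X.Modules}
    (hS : S.ShortExact) [S.X₁.IsQuasicoherent]
    (h : ∀ (J : X.Modules) (j : J ⟶ S.X₁), Mono j → J.IsQuasicoherent → CohB1.IsFT J →
      Subsingleton (Coh.HH X J 1)) : Function.Surjective (S.g.app ⊤) := by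
  intro e
  obtain ⟨s, hs, hcov⟩ := isCompact_and_isOpen_iff_finite_and_eq_biUnion_affineOpens.mp
    (⟨isCompact_univ, isOpen_univ⟩ : IsCompact (Set.univ : Set X) ∧ IsOpen (Set.univ : Set X))
  haveI := hs.to_subtype
  let U : s → X.Opens := fun k => k.1.1
  have hU : ∀ k, IsAffineOpen (U k) := fun k => k.1.2
  let r : ∀ {M : X.Modules} {A B : X.Opens}, B ≤ A → Γ(M, A) → Γ(M, B) :=
    fun {M A B} hle x => M.presheaf.map (homOfLE hle).op x
  have hloc : ∀ k, ∃ a : Γ(S.X₂, U k), S.g.app (U k) a = r le_top e := fun k =>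
    SerreRel.app_surjective_of_h1 hS (U k) (ZarCoh.Affine.HU_subsingleton S.X₁ (hU k) 0) _
  choose a ha using hloc
  have hnat : ∀ {M N : X.Modules} (φ : M ⟶ N) {A B : X.Opens} (hle : B ≤ A) (x : Γ(M, A)),
      φ.app B (r hle x) = r hle (φ.app A x) :=
    fun {M N} φ {A B} hle x => (Scheme.Modules.Hom.mapPresheaf φ).naturality_apply (homOfLE hle).op x
  have hrr : ∀ {M : X.Modules} {A B C : X.Opens} (h₁ : B ≤ A) (h₂ : C ≤ B) (x : Γ(M, A)),
      r h₂ (r h₁ x) = r (h₂.trans h₁) x := fun {M A B C} h₁ h₂ x => by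
    show (M.presheaf.map _ ≫ M.presheaf.map _) x = _
    rw [← Functor.map_comp]
    rfl
  have hd : ∀ p : s × s, ∃ t : Γ(S.X₁, U p.1 ⊓ U p.2),
      S.f.app _ t = r inf_le_left (a p.1) - r inf_le_right (a p.2) := fun p => by
    refine exists_app_eq hS _ _ ?_
    rw [map_sub, hnat, hnat, ha, ha, hrr, hrr, sub_self]
  choose t ht using hd
  obtain ⟨T, hT, hmem⟩ := exists_family_finite (fun p : s × s => U p.1 ⊓ U p.2)
    (fun p => QuasiSeparatedSpace.inter_isCompact _ _ (U p.1).2 (hU p.1).isCompact (U p.2).2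
      (hU p.2).isCompact) t
  haveI := hS.mono_f
  let j' : subMod T ⟶ S.X₂ := Modules.SubStalk.ι T ≫ S.f
  let S' : ShortComplex X.Modules := ShortComplex.mk j' (cokernel.π j') (cokernel.condition j')
  have hS' : S'.ShortExact :=
    { exact := ShortComplex.exact_of_g_is_cokernel _ (cokernelIsCokernel j')
      mono_f := inferInstanceAs (Mono (Modules.SubStalk.ι T ≫ S.f))
      epi_g := inferInstanceAs (Epi (cokernel.π j')) }
  let q : cokernel j' ⟶ S.X₃ := cokernel.desc j' S.g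
    ((Category.assoc _ _ _).trans (by rw [S.zero, comp_zero]))
  let sf : ∀ k, Γ(cokernel j', U k) := fun k => (cokernel.π j').app (U k) (a k)
  have hcompat : TopCat.Presheaf.IsCompatible (cokernel j').presheaf U sf := by
    intro k l
    obtain ⟨t', ht'⟩ := exists_ι_app (hmem (k, l))
    have hz : (cokernel.π j').app _ (j'.app (U k ⊓ U l) t') = 0 :=
      congr(($(cokernel.condition j')).app (U k ⊓ U l) t')
    have he : j'.app (U k ⊓ U l) t' = r inf_le_left (a k) - r inf_le_right (a l) :=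
      (congrArg (S.f.app _) ht').trans (ht (k, l))
    rw [he, map_sub, sub_eq_zero, hnat, hnat] at hz
    exact hz
  have hcov' : (⊤ : X.Opens) ≤ iSup U := fun x _ => by
    obtain ⟨b, hb, hxb⟩ := Set.mem_iUnion₂.mp (hcov ▸ Set.mem_univ x)
    exact Opens.mem_iSup.mpr ⟨⟨b, hb⟩, hxb⟩
  obtain ⟨e', he', -⟩ := TopCat.Sheaf.existsUnique_gluing' ⟨(cokernel j').presheaf, (cokernel j').isSheaf⟩
    U ⊤ (fun k => homOfLE le_top) hcov' sf hcompat
  obtain ⟨b, hb⟩ := Groth.Agent.H34.HOne.app_top_surjective hS'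
    (h _ (Modules.SubStalk.ι T) inferInstance (isQCoh_subMod hT) (isFT_subMod hT)) e'
  refine ⟨b, TopCat.Sheaf.eq_of_locally_eq' ⟨S.X₃.presheaf, S.X₃.isSheaf⟩ U ⊤
    (fun k => homOfLE le_top) hcov' _ _ fun k => ?_⟩
  show r le_top (S.g.app ⊤ b) = r le_top e
  have hq : S.g.app ⊤ b = q.app ⊤ ((cokernel.π j').app ⊤ b) :=
    (congr(($(cokernel.π_desc j' S.g _)).app ⊤ b)).symm
  rw [hq, show (cokernel.π j').app ⊤ b = e' from hb, ← hnat, ← ha k]
  show q.app (U k) (r le_top e') = _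
  rw [show r le_top e' = sf k from he' k]
  exact congr(($(cokernel.π_desc j' S.g _)).app (U k) (a k))

theorem liftsFun [CompactSpace X] [QuasiSeparatedSpace X]
    (h : ∀ (I : X.Modules) (i : I ⟶ Coh.structureModule X), Mono i →
      Coh.IsQCoh I → CohB1.IsFT I → Subsingleton (Coh.HH X I 1)) : SerreRad.LiftsFun X := by
  intro Z
  let K : X.IdealSheafData := Scheme.IdealSheafData.vanishingIdeal Z
  haveI : AlgebraicGeometry.IsReduced K.subscheme := Groth.Agent.H75.RedSub.isReduced_vanishingIdeal _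
  refine ⟨K.subscheme, K.subschemeι, inferInstance, ?_, ?_⟩
  · rw [Scheme.IdealSheafData.range_subschemeι, Scheme.IdealSheafData.coe_support_vanishingIdeal]
  · haveI := TensorMod.QCohInv.isQCoh_structureModule X
    haveI : ((_root_.ClSub.quotMod K) : X.Modules).IsQuasicoherent := by
      haveI := TensorMod.QCohInv.isQCoh_structureModule K.subscheme
      exact QCoh.Pushforward.isQCoh_pushforward K.subschemeι (M := Coh.structureModule K.subscheme)
    haveI : (ClSub.Quot.idealSeq K).X₁.IsQuasicoherent :=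
      QCoh.Closure.isQCoh_kernel (_root_.ClSub.toSubscheme K)
    haveI := ClSub.Quot.mono_idealModι K
    exact app_top_surjective (ClSub.Quot.idealSeq_shortExact K) fun J j hj hJ hJ' =>
      h J (j ≫ _root_.ClSub.idealModι K)
        (@mono_comp _ _ _ _ _ j hj (_root_.ClSub.idealModι K) (ClSub.Quot.mono_idealModι K)) hJ hJ'

end Groth.Agent.Lib.CohDelta.FTLift
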