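import Groth.Agent.Lib.CohDelta.DevApps
import Groth.Agent.Lib.ZarCoh.PushKilled
import Groth.Agent.Lib.Cyc.Dev.SchemeEquiv
import Mathlib.AlgebraicGeometry.FunctionField

/-!
# Dévissage by extensions: pushforwards of ideals of integral closed subschemes generate
-/

set_option autoImplicit false
set_option linter.style.haveILetI false

universe u

open CategoryTheory CategoryTheory.Limits AlgebraicGeometry Opposite TopologicalSpace

namespace Groth.Agent.Lib.CohDelta.Filtration

open Groth.Agent.Lib Groth.Agent.Lib.Devissage.Basic Groth.Agent.Lib.Modules.StalkModule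

variable {X : Scheme.{u}}

/-- A submodule of the direct image of the structure sheaf of a closed subscheme is the direct image
of an ideal. -/
theorem exists_ideal {Z : Scheme.{u}} (i : Z ⟶ X) [IsClosedImmersion i] {P : X.Modules}
    [P.IsQuasicoherent] (j : P ⟶ (Coh.push i).obj (Coh.structureModule Z)) [Mono j] :
    ∃ (I : Z.Modules) (ι : I ⟶ Coh.structureModule Z), Mono ι ∧ Coh.IsQCoh I ∧
      Nonempty ((Coh.push i).obj I ≅ P) := by
  have hk : _root_.ClSub.KilledByIdeal i.ker P := by
    intro U r hr s
    refine PushClosed.Torsion.injective_app_of_mono j U.1 ?_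
    refine (Scheme.Modules.Hom.app_smul j r s).trans ?_
    refine Eq.trans ?_ (map_zero (j.app U.1).hom).symm
    show (i.app U.1).hom r • (show Γ(Coh.structureModule Z, i ⁻¹ᵁ U.1) from j.app U.1 s) = 0
    rw [Scheme.Hom.ker_apply, RingHom.mem_ker] at hr
    rw [hr, zero_smul]
  let adj := Scheme.Modules.pullbackPushforwardAdjunction i
  haveI := ZarCoh.PushKilled.isIso_unit i P hk
  haveI := fun N => Cyc.Dev.SchemeCase.isIso_counit i N
  haveI : IsIso adj.counit := NatIso.isIso_of_isIso_app _
  haveI := adj.fullyFaithfulROfIsIsoCounit.faithful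
  let ι : (Scheme.Modules.pullback i).obj P ⟶ Coh.structureModule Z :=
    (adj.homEquiv _ _).symm j
  have e : adj.unit.app P ≫ (Scheme.Modules.pushforward i).map ι = j := by
    exact (adj.homEquiv_unit P (Coh.structureModule Z) ι).symm.trans (Equiv.apply_symm_apply _ _)
  have hm : Mono ((Scheme.Modules.pushforward i).map ι) := by
    have : (Scheme.Modules.pushforward i).map ι = inv (adj.unit.app P) ≫ j :=
      (IsIso.eq_inv_comp _).mpr e
    rw [this]
    exact mono_comp _ _
  exact ⟨_, ι, (Scheme.Modules.pushforward i).mono_of_mono_map hm,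
    QCoh.Pullback.isQCoh_pullback i P, ⟨(asIso (adj.unit.app P)).symm⟩⟩

/-- On an integral scheme a nonzero stalk map at the generic point detects monomorphisms out of the
structure sheaf. -/
theorem mono_of_stalk {Z : Scheme.{u}} (i : Z ⟶ X) [IsClosedImmersion i] [IsIntegral Z]
    {S : X.Modules} (b : (Coh.push i).obj (Coh.structureModule Z) ⟶ S)
    (hb : Function.Injective (stalkMapₗ b (i (genericPoint Z)))) : Mono b := by
  refine (Modules.Stalk.mono_iff_app_injective b).2 fun U => ?_
  refine (injective_iff_map_eq_zero _).mpr fun s hs => ?_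
  by_cases hne : genericPoint Z ∈ i ⁻¹ᵁ U
  · have h0 : ((Coh.push i).obj (Coh.structureModule Z)).presheaf.germ U _ hne s = 0 := by
      apply hb
      rw [map_zero]
      refine (stalkMapₗ_germ b hne s).trans ?_
      rw [hs, map_zero]
    have h1 := (Cyc.SheafLen.pushStalk_germ i (Coh.structureModule Z) _ hne s).symm.trans
      ((congrArg _ h0).trans (map_zero _))
    obtain ⟨W, hW, iU, iU', e⟩ := TopCat.Presheaf.germ_eq (Coh.structureModule Z).presheaf
      (genericPoint Z) hne hne s 0 (h1.trans (map_zero _).symm)
    haveI : Nonempty W := ⟨⟨_, hW⟩⟩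
    exact map_injective_of_isIntegral Z iU ((show Z.presheaf.map iU.op (s : Γ(Z, i ⁻¹ᵁ U)) =
      Z.presheaf.map iU'.op (0 : Γ(Z, i ⁻¹ᵁ U)) from e).trans ((map_zero _).trans (map_zero _).symm))
  · have hbot : i ⁻¹ᵁ U = ⊥ := by
      ext z
      refine ⟨fun hz => absurd ?_ hne, fun hz => hz.elim⟩
      exact ((genericPoint_spec Z).mem_open_set_iff (i ⁻¹ᵁ U).2).mpr ⟨z, trivial, hz⟩
    haveI : Subsingleton Γ(Coh.structureModule Z, i ⁻¹ᵁ U) :=
      hbot ▸ PushClosed.Basic.subsingleton_sections_bot (Coh.structureModule Z)
    exact @Subsingleton.elim _ this s _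

theorem cohIn_iso {T : Set X} {A B : X.Modules} (e : A ≅ B) (hA : CohIn T A) : CohIn T B :=
  ⟨CohBasics.Closure.isCoh_of_iso e hA.1, Modules.Support.support_congr e ▸ hA.2⟩

/-- **Dévissage by extensions**: a property stable under extensions holds for all coherent modules
supported in `T` as soon as it holds for zero and for the direct images of the nonzero ideals of the
integral closed subschemes inside `T`. -/
theorem devissage [IsNoetherian X] (Q : X.Modules → Prop) (T₀ : Closeds X)
    (h0 : ∀ M, IsZero M → Q M) (hiso : ∀ M N : X.Modules, Nonempty (M ≅ N) → Q M → Q N)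
    (hext : ∀ S : ShortComplex X.Modules, S.ShortExact → CohIn (T₀ : Set X) S.X₁ →
      CohIn (T₀ : Set X) S.X₂ → CohIn (T₀ : Set X) S.X₃ → Q S.X₁ → Q S.X₃ → Q S.X₂)
    (hideal : ∀ (Z : Scheme.{u}) (i : Z ⟶ X), IsClosedImmersion i → IsIntegral Z →
      Set.range i ⊆ (T₀ : Set X) → ∀ (I : Z.Modules) (ι : I ⟶ Coh.structureModule Z), Mono ι →
        Coh.IsQCoh I → ¬ IsZero I → Q ((Coh.push i).obj I))
    (G : X.Modules) (hG : CohIn (T₀ : Set X) G) : Q G := by
  suffices H : ∀ T : Closeds X, T ≤ T₀ → ∀ G, CohIn (T : Set X) G → Q G from H T₀ le_rfl G hG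
  intro T
  induction T using WellFoundedLT.induction with
  | ind T ih =>
    intro hT₀ G hG
    rcases (T : Set X).eq_empty_or_nonempty with hT | hT
    · exact h0 G (Modules.Support.support_eq_empty_iff.mp (Set.subset_eq_empty hG.2 hT))
    obtain ⟨y, hy, hmax⟩ := exists_maximal_point T.isClosed hT
    have hcy : closure {y} ⊆ (T : Set X) := closure_subset_of_mem T.isClosed hy
    have small : ∀ D, CohIn (T : Set X) D → y ∉ CohB1.support D → Q D := by
      intro D hD hyD
      haveI := hD.1.2
      let T' : Closeds X := ⟨CohB1.support D, Modules.Support.isClosed_support D⟩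
      have hle : T' ≤ T := hD.2
      exact ih T' (lt_of_le_of_ne hle fun e => hyD (by
        have : y ∈ (T' : Set X) := e ▸ hy
        exact this)) (hle.trans hT₀) D ⟨hD.1, subset_rfl⟩
    have up : ∀ {A}, CohIn (T : Set X) A → CohIn (T₀ : Set X) A := fun h =>
      ⟨h.1, h.2.trans hT₀⟩
    suffices ∀ (ℓ : ℕ) (K : X.Modules), CohIn (T : Set X) K →
        Module.length (X.presheaf.stalk y) (K.presheaf.stalk y) = ℓ → Q K by
      have hfin := Cyc.SheafLen.length_ne_top hG.1 y fun z hzy hz =>
        hmax z (hG.2 (not_subsingleton_iff_nontrivial.mpr hz)) hzy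
      exact this _ G hG (ENat.coe_toNat hfin).symm
    intro ℓ
    induction ℓ with
    | zero =>
      intro K hK hl
      exact small K hK
        (Modules.Support.not_mem_support_iff.mpr (Module.length_eq_zero_iff.mp (by simpa using hl)))
    | succ ℓ ihℓ =>
      intro G hG hl
      haveI : Nontrivial (G.presheaf.stalk y) := Module.length_pos_iff.mp (by rw [hl]; simp)
      obtain ⟨hint, hgen⟩ := DevApps.isIntegral_ptIdeal y
      haveI := hint
      let O : X.Modules := Cyc.closureStructureSheaf y
      have hO : CohIn (T : Set X) O :=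
        ⟨(Devissage.Closure.cohIn_closureStructureSheaf y).1,
          (Devissage.Closure.cohIn_closureStructureSheaf y).2.trans hcy⟩
      have hOy := Devissage.Closure.length_closureStructureSheaf y
      obtain ⟨φ, hφ, hnil⟩ := exists_surjective_of_length (by rw [hl]; simp) hOy
      let S := Devissage.Sky.sky y (O.presheaf.stalk y)
      haveI hS : S.IsQuasicoherent :=
        Devissage.Sky.isQCoh_sky y _ fun a ha l => ⟨1, by rw [pow_one]; exact hnil a ha l⟩
      let a : G ⟶ S := Devissage.Sky.toSky φ
      let b : O ⟶ S := Devissage.Sky.toSky LinearMap.id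
      have ha : Function.Surjective (stalkMapₗ a y) := fun z => by
        obtain ⟨l, rfl⟩ := (Devissage.Sky.stalkEquiv y (O.presheaf.stalk y)).surjective z
        obtain ⟨g, rfl⟩ := hφ l
        exact ⟨g, Devissage.Sky.stalkMapₗ_toSky φ g⟩
      have hb : Function.Bijective (stalkMapₗ b y) := by
        have : ⇑(stalkMapₗ b y) = Devissage.Sky.stalkEquiv y (O.presheaf.stalk y) :=
          funext fun z => Devissage.Sky.stalkMapₗ_toSky _ z
        exact this ▸ (Devissage.Sky.stalkEquiv y _).bijective
      haveI : Mono b := mono_of_stalk (IntMult.ptIdeal y).subschemeι b (by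
        rw [hgen]; exact hb.1)
      haveI := hG.1.1
      have hK : CohIn (T : Set X) (kernel a) :=
        ⟨CohBasics.Closure.isCoh_kernel a hG.1 hS,
          (Modules.Support.support_subset_of_mono (kernel.ι a)).trans hG.2⟩
      haveI := hK.1.1
      let M := cokernel (kernel.ι a)
      let π : G ⟶ M := cokernel.π (kernel.ι a)
      let m : M ⟶ S := cokernel.desc (kernel.ι a) a (kernel.condition a)
      haveI : Mono m := inferInstanceAs (Mono (Abelian.factorThruCoimage a))
      have hM : CohIn (T : Set X) M :=
        ⟨CohBasics.Closure.isCoh_cokernel _ hK.1.1 hG.1,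
          (Modules.Support.support_subset_of_epi π).trans hG.2⟩
      haveI := hM.1.1
      have hπa : ∀ v, stalkMapₗ m y (stalkMapₗ π y v) = stalkMapₗ a y v := fun v => by
        rw [← LinearMap.comp_apply, ← stalkMapₗ_comp, cokernel.π_desc]
      have hm : Function.Bijective (stalkMapₗ m y) := by
        refine ⟨(mono_iff_stalkMapₗ_injective m).mp inferInstance y, fun z => ?_⟩
        obtain ⟨v, rfl⟩ := ha z
        exact ⟨_, hπa v⟩
      have hMy : Module.length (X.presheaf.stalk y) (M.presheaf.stalk y) = 1 := by
        rw [(LinearEquiv.ofBijective _ hm).length_eq, ← (LinearEquiv.ofBijective _ hb).length_eq]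
        exact hOy
      have s₀ : (ShortComplex.mk (kernel.ι a) π (cokernel.condition _)).ShortExact :=
        exists_ses_mono _
      -- the kernel has smaller length
      have hQK : Q (kernel a) := ihℓ _ hK (by
        have e := Cyc.SheafLen.length_additive _ s₀ y
        dsimp only at e
        rw [hl, hMy, Nat.cast_add, Nat.cast_one] at e
        exact (ENat.add_left_injective_of_ne_top ENat.one_ne_top e).symm)
      -- the part of `M` coming from the ideal
      haveI : (cokernel m).IsQuasicoherent := QCoh.Closure.isQCoh_cokernel m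
      haveI := hO.1.1
      let c : O ⟶ cokernel m := b ≫ cokernel.π m
      let j := kernel.ι (Abelian.factorThruImage c)
      haveI : Mono j := inferInstanceAs (Mono (kernel.ι (Abelian.factorThruImage c)))
      have hjc : (j ≫ b) ≫ cokernel.π m = 0 := by
        rw [Category.assoc]
        show j ≫ c = 0
        exact (congrArg (j ≫ ·) (Abelian.image.fac c).symm).trans
          ((Category.assoc _ _ _).symm.trans ((congrArg (· ≫ Abelian.image.ι c)
            (kernel.condition (Abelian.factorThruImage c))).trans zero_comp))
      let g : kernel (Abelian.factorThruImage c) ⟶ M := Abelian.monoLift m (j ≫ b) hjc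
      have hg : g ≫ m = j ≫ b := Abelian.monoLift_comp m _ hjc
      haveI : Mono g := mono_of_mono_fac hg
      have hP : CohIn (T : Set X) (kernel (Abelian.factorThruImage c)) := by
        refine cohIn_iso ((kernelCompMono (Abelian.factorThruImage c) (Abelian.image.ι c)).symm ≪≫
          kernelIsoOfEq (Abelian.image.fac c)).symm ?_
        exact ⟨CohBasics.Closure.isCoh_kernel c hO.1 inferInstance,
          (Modules.Support.support_subset_of_mono (kernel.ι c)).trans hO.2⟩
      have hgy : Function.Surjective (stalkMapₗ g y) := fun v => by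
        obtain ⟨w, hw⟩ := hb.2 (stalkMapₗ m y v)
        have hcw : stalkMapₗ c y w = 0 := by
          rw [stalkMapₗ_comp, LinearMap.comp_apply, hw, ← LinearMap.comp_apply, ← stalkMapₗ_comp,
            cokernel.condition, stalkMapₗ_zero, LinearMap.zero_apply]
        have hcw' : stalkMapₗ (Abelian.factorThruImage c) y w = 0 :=
          (mono_iff_stalkMapₗ_injective (Abelian.image.ι c)).mp inferInstance y (by
            rw [← LinearMap.comp_apply, ← stalkMapₗ_comp, Abelian.image.fac, hcw, map_zero])
        obtain ⟨p, hp⟩ := (ShortComplex.ab_exact_iff _).mp ((Modules.Stalk.shortExact_iff_stalk _).mp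
          (exists_ses_epi (Abelian.factorThruImage c)) y).exact w hcw'
        refine ⟨p, hm.1 ?_⟩
        rw [← LinearMap.comp_apply, ← stalkMapₗ_comp, hg, stalkMapₗ_comp, LinearMap.comp_apply, ← hw]
        exact congrArg (stalkMapₗ b y) hp
      have hC : CohIn (T : Set X) (cokernel g) :=
        ⟨CohBasics.Closure.isCoh_cokernel g hP.1.1 hM.1,
          (Modules.Support.support_subset_of_epi (cokernel.π g)).trans hM.2⟩
      have hyC : y ∉ CohB1.support (cokernel g) := by
        rw [Modules.Support.not_mem_support_iff]
        refine subsingleton_of_forall_eq 0 fun v => ?_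
        obtain ⟨w, rfl⟩ := (epi_iff_stalkMapₗ_surjective (cokernel.π g)).mp inferInstance y v
        obtain ⟨w, rfl⟩ := hgy w
        rw [← LinearMap.comp_apply, ← stalkMapₗ_comp, cokernel.condition, stalkMapₗ_zero]
        rfl
      haveI := hP.1.1
      have hQP : Q (kernel (Abelian.factorThruImage c)) := by
        obtain ⟨I, ι, hι, hI, ⟨e⟩⟩ := @exists_ideal X _ (IntMult.ptIdeal y).subschemeι inferInstance
          (kernel (Abelian.factorThruImage c)) hP.1.1 j (inferInstanceAs (Mono (kernel.ι (Abelian.factorThruImage c))))
        refine hiso _ _ ⟨e⟩ (hideal _ _ inferInstance hint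
          ((Devissage.Closure.range_ptIdeal y).trans_subset (hcy.trans hT₀)) I ι hι hI fun hzero => ?_)
        have hz : IsZero (kernel (Abelian.factorThruImage c)) :=
          ((Coh.push (IntMult.ptIdeal y).subschemeι).map_isZero hzero).of_iso e.symm
        have : Subsingleton (M.presheaf.stalk y) := by
          refine subsingleton_of_forall_eq 0 fun v => ?_
          obtain ⟨p, rfl⟩ := hgy v
          rw [show g = 0 from hz.eq_of_src _ _, stalkMapₗ_zero]
          rfl
        exact one_ne_zero (hMy.symm.trans (Module.length_eq_zero_iff.mpr this))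
      have hQM : Q M :=
        hext _ (exists_ses_mono g) (up hP) (up hM) (up hC) hQP (small _ hC hyC)
      exact hext _ s₀ (up hK) (up hG) (up hM) hQK hQM

end Groth.Agent.Lib.CohDelta.Filtration
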