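import Groth.Agent.Lib.CohDelta.Open
import Groth.Agent.Lib.Modules.ToSheaf
import Mathlib.Algebra.Category.ModuleCat.Sheaf.Abelian
import Groth.Prelude.Def_CohCmp

/-!
# Cohomology of an O-module over an open in the `HU` model

`hU F U n : Coh.HHon X F U n ≃+ CohTop.HU (Coh.toAb F) n U`, with its compatibility with morphisms,
connecting maps, and degree zero.
-/

set_option linter.style.haveILetI false
set_option maxHeartbeats 1000000

universe u

open CategoryTheory CategoryTheory.Limits AlgebraicGeometry TopologicalSpace Opposite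
open CategoryTheory.Abelian
open Groth.Agent.Lib.ZarCoh.Basic Groth.Agent.Lib.ZarCoh.Compare Groth.Agent.Lib.CohDelta.Open

namespace Groth.Agent.Lib.CohDelta.Basic

variable {X : Scheme.{u}}

/-- The underlying abelian sheaf functor, with source `X.Modules`. -/
noncomputable abbrev abF (X : Scheme.{u}) : X.Modules ⥤ CohTop.Ab X.toPresheafedSpace.carrier :=
  SheafOfModules.toSheaf X.ringCatSheaf

instance abF_additive (X : Scheme.{u}) : (abF X).Additive where
  map_add := by
    intros
    rfl

instance abF_preservesFiniteLimits (X : Scheme.{u}) : PreservesFiniteLimits (abF X) :=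
  inferInstanceAs (PreservesFiniteLimits (SheafOfModules.toSheaf X.ringCatSheaf))

instance abF_preservesFiniteColimits (X : Scheme.{u}) : PreservesFiniteColimits (abF X) :=
  Groth.Agent.Lib.Modules.ToSheaf.toSheaf_preservesFiniteColimits (R := X.ringCatSheaf)

/-- The underlying morphism of abelian sheaves. -/
noncomputable abbrev abMap {F G : X.Modules} (φ : F ⟶ G) : Coh.toAb F ⟶ Coh.toAb G :=
  (abF X).map φ

/-- The underlying short complex of abelian sheaves. -/
noncomputable abbrev abS (S : ShortComplex X.Modules) :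
    ShortComplex (CohTop.Ab X.toPresheafedSpace.carrier) :=
  S.map (abF X)

theorem abS_shortExact {S : ShortComplex X.Modules} (hS : S.ShortExact) : (abS S).ShortExact :=
  hS.map_of_exact (abF X)

/-- The restriction functor on abelian sheaves. -/
noncomputable abbrev rU (U : X.Opens) :
    CohTop.Ab X.toPresheafedSpace.carrier ⥤ CohTop.Ab (U : Scheme.{u}).toPresheafedSpace.carrier :=
  rst (X := (U : Scheme.{u}).toPresheafedSpace.carrier) U.ι.isOpenEmbedding

theorem toAbOn_shortExact {S : ShortComplex X.Modules} (hS : S.ShortExact) (U : X.Opens) :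
    (S.map (CohCmp.toAbOn X U)).ShortExact :=
  (abS_shortExact hS).map_of_exact (rU U)

/-- `Hⁿ(U, F|_U) = Hⁿ(U, F)`. -/
noncomputable def hU (F : X.Modules) (U : X.Opens) (n : ℕ) :
    Coh.HHon X F U n ≃+ CohTop.HU (Coh.toAb F) n U :=
  hOn (T := (U : Scheme.{u}).toPresheafedSpace.carrier) U.ι.isOpenEmbedding U.ι_image_top
    (Coh.toAb F) n

theorem hU_mapH {F G : X.Modules} (φ : F ⟶ G) (U : X.Opens) (n : ℕ) (x : Coh.HHon X F U n) :
    hU G U n (CohPull.mapH ((Scheme.Modules.restrictFunctor U.ι).map φ) n x) =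
      CohTop.HUmap (abMap φ) n U (hU F U n x) :=
  hOn_map (T := (U : Scheme.{u}).toPresheafedSpace.carrier) U.ι.isOpenEmbedding U.ι_image_top
    (abMap φ) n x

theorem hU_extδ {S : ShortComplex X.Modules} (hS : S.ShortExact) (U : X.Opens) (n : ℕ)
    (x : Coh.HHon X S.X₃ U n) (hA : (S.map (CohCmp.toAbOn X U)).ShortExact) :
    hU S.X₁ U (n + 1) (CohCmp.extδ hA n x) =
      (hU S.X₃ U n x : Ext.{u} (Zs.obj U) (abS S).X₃ n).comp (abS_shortExact hS).extClass rfl :=
  hOn_δ (T := (U : Scheme.{u}).toPresheafedSpace.carrier) U.ι.isOpenEmbedding U.ι_image_top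
    (abS_shortExact hS) hA n x

theorem hU_sectH0 (F : X.Modules) (U : X.Opens) (s : F.presheaf.obj (op U)) :
    hU F U 0 (CohPull.sectH0 F U s) = Ext.mk₀ ((homEquiv U (Coh.toAb F)).symm s) :=
  hOn_zero (T := (U : Scheme.{u}).toPresheafedSpace.carrier) U.ι.isOpenEmbedding U.ι_image_top
    (Coh.toAb F) s

end Groth.Agent.Lib.CohDelta.Basic
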