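import Groth.Agent.Lib.ProperFin.Devissage
import Groth.Agent.Lib.ProperFin.Assembly
import Groth.Agent.Lib.KRes.CohP

/-!
# Tools for applying dévissage
-/

set_option autoImplicit false
set_option linter.style.haveILetI false

universe u

open CategoryTheory CategoryTheory.Limits AlgebraicGeometry TopologicalSpace

namespace Groth.Agent.Lib.CohDelta.DevApps

open Groth.Agent.Lib Groth.Agent.Lib.Devissage.Basic

variable {X : Scheme.{u}}

/-- The reduced closure of a point is integral, with generic point over that point. -/
theorem isIntegral_ptIdeal (y : X) : ∃ _ : IsIntegral (IntMult.ptIdeal y).subscheme,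
    (IntMult.ptIdeal y).subschemeι (genericPoint (IntMult.ptIdeal y).subscheme) = y := by
  let Z := (IntMult.ptIdeal y).subscheme
  let i : Z ⟶ X := (IntMult.ptIdeal y).subschemeι
  haveI : AlgebraicGeometry.IsReduced Z := H75.RedSub.isReduced_vanishingIdeal _
  have hrange : Set.range i = closure ({y} : Set X) := Devissage.Closure.range_ptIdeal y
  obtain ⟨z, hz⟩ : y ∈ Set.range i := by rw [hrange]; exact subset_closure rfl
  have hcl : closure {z} = Set.univ := by
    rw [i.isClosedEmbedding.isInducing.closure_eq_preimage_closure_image, Set.image_singleton, hz,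
      ← hrange, Set.preimage_range]
  haveI : IrreducibleSpace Z :=
    { isPreirreducible_univ := hcl ▸ isIrreducible_singleton.closure.2
      toNonempty := ⟨z⟩ }
  haveI hint : IsIntegral Z := isIntegral_of_irreducibleSpace_of_isReduced Z
  refine ⟨hint, ?_⟩
  have hg : genericPoint Z = z :=
    (genericPoint_spec Z).eq (show IsGenericPoint z Set.univ from hcl)
  show i (genericPoint Z) = y
  rw [hg]
  exact hz

/-- The closure of a point is the range of an integral closed subscheme. -/
theorem exists_integral (y : X) : ∃ (Z : Scheme.{u}) (i : Z ⟶ X), IsClosedImmersion i ∧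
    ∃ _ : IsIntegral Z, Set.range i = closure {y} ∧ i (genericPoint Z) = y :=
  ⟨_, (IntMult.ptIdeal y).subschemeι, inferInstance, (isIntegral_ptIdeal y).choose,
    Devissage.Closure.range_ptIdeal y, (isIntegral_ptIdeal y).choose_spec⟩

/-- A module isomorphic to the residue field of a local ring has length one. -/
theorem length_eq_one_of_equiv {R : Type u} [CommRing R] [IsLocalRing R] {M : Type u}
    [AddCommGroup M] [Module R M] (e : M ≃ₗ[R] IsLocalRing.ResidueField R) :
    Module.length R M = 1 := by
  rw [e.length_eq, Module.length_eq_one_iff]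
  exact isSimpleModule_iff_quot_maximal.mpr
    ⟨IsLocalRing.maximalIdeal R, inferInstance, ⟨LinearEquiv.refl R _⟩⟩

/-- A property satisfied by some coherent module and passing from two terms of short exact
sequences to the third holds for zero modules. -/
theorem of_isZero {P : X.Modules → Prop} {T : Set X}
    (h₁ : ∀ S : ShortComplex X.Modules, S.ShortExact → Coh.IsCoh S.X₁ → Coh.IsCoh S.X₂ →
      Coh.IsCoh S.X₃ → CohB1.support S.X₂ ⊆ T → P S.X₂ → P S.X₃ → P S.X₁)
    {G : X.Modules} (hG : Coh.IsCoh G) (hGT : CohB1.support G ⊆ T) (hPG : P G)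
    (M : X.Modules) (hM : IsZero M) : P M := by
  have hMc : Coh.IsCoh M := KRes.CohP.isCoh_of_isZero X hM
  exact h₁ (ShortComplex.mk (0 : M ⟶ G) (𝟙 G) zero_comp)
    (ShortComplex.ShortExact.mk' ((ShortComplex.exact_iff_mono _ rfl).mpr inferInstance)
      ⟨fun _ _ _ => hM.eq_of_tgt _ _⟩ inferInstance) hMc hG hG hGT hPG hPG

end Groth.Agent.Lib.CohDelta.DevApps
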