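import Groth.Agent.Lib.ZarCoh.Compare

/-!
# Cohomology of the restriction to an open subspace

`hOn he hU G n : Hⁿ(T, G|_T) = Hⁿ(U, G)` for an open embedding with image `U`, compatible with
composition by Ext classes and with degree zero.
-/

set_option linter.style.haveILetI false

universe u

open CategoryTheory CategoryTheory.Limits TopologicalSpace Opposite CategoryTheory.Abelian
open Groth.Agent.Lib.ZarCoh.Basic Groth.Agent.Lib.ZarCoh.Compare

namespace Groth.Agent.Lib.CohDelta.Open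

variable {T X : TopCat.{u}} {e : T ⟶ X} (he : Topology.IsOpenEmbedding e) {U : Opens X}

/-- Transport along equal opens. -/
noncomputable def rsEquiv (G : CohTop.Ab X) (n : ℕ) {V W : Opens X} (h : V = W) :
    Ext.{u} (Zs.obj V) G n ≃+ Ext.{u} (Zs.obj W) G n where
  toFun := rs G n h.ge
  invFun := rs G n h.le
  map_add' := map_add _
  left_inv x := by
    subst h
    rw [rs_apply, rs_apply, Ext.mk₀_comp_mk₀_assoc, ← Functor.map_comp,
      Subsingleton.elim (_ ≫ _) (𝟙 V), CategoryTheory.Functor.map_id, Ext.mk₀_id_comp]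
  right_inv x := by
    subst h
    rw [rs_apply, rs_apply, Ext.mk₀_comp_mk₀_assoc, ← Functor.map_comp,
      Subsingleton.elim (_ ≫ _) (𝟙 V), CategoryTheory.Functor.map_id, Ext.mk₀_id_comp]

/-- `Hⁿ(T, G|_T) = Hⁿ(U, G)` for an open embedding of image `U`. -/
noncomputable def hOn (hU : he.functor.obj ⊤ = U) (G : CohTop.Ab X) (n : ℕ) :
    CohTop.H ((rst he).obj G) n ≃+ CohTop.HU G n U :=
  ((hTop ((rst he).obj G) n).trans (restrEquiv he ⊤ n G).symm).trans (rsEquiv G n hU)

theorem hOn_apply (hU : he.functor.obj ⊤ = U) (G : CohTop.Ab X) (n : ℕ)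
    (x : CohTop.H ((rst he).obj G) n) :
    hOn he hU G n x = rs G n hU.ge ((restrEquiv he ⊤ n G).symm (hTop _ n x)) := rfl

theorem hOn_comp (hU : he.functor.obj ⊤ = U) {G G' : CohTop.Ab X} {n m p : ℕ}
    (x : CohTop.H ((rst he).obj G) n) (z : Ext.{u} G G' m) (hp : n + m = p) :
    hOn he hU G' p (x.comp (z.mapExactFunctor (rst he)) hp) =
      (hOn he hU G n x).comp z hp := by
  rw [hOn_apply, hOn_apply]
  refine Eq.trans (congrArg (rs G' p _) ?_) (rs_comp n hp _ _ z)
  refine (AddEquiv.symm_apply_eq _).2 ?_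
  show _ = restrMap he ⊤ p G' _
  rw [restrMap, cmp_comp, hTop_comp]
  congr 1
  exact ((restrEquiv he ⊤ n G).apply_symm_apply _).symm

theorem hOn_map (hU : he.functor.obj ⊤ = U) {G G' : CohTop.Ab X} (ψ : G ⟶ G') (n : ℕ)
    (x : CohTop.H ((rst he).obj G) n) :
    hOn he hU G' n (Sheaf.H.map ((rst he).map ψ) n x) = CohTop.HUmap ψ n U (hOn he hU G n x) :=
  (congrArg (hOn he hU G' n) (congrArg (fun t ↦ Ext.comp x t (add_zero n))
    (Ext.mapExactFunctor_mk₀ (rst he) ψ).symm)).trans (hOn_comp he hU x (Ext.mk₀ ψ) (add_zero n))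

theorem hOn_δ (hU : he.functor.obj ⊤ = U) {S : ShortComplex (CohTop.Ab X)} (hS : S.ShortExact)
    (hS' : (S.map (rst he)).ShortExact) (n : ℕ) (x : CohTop.H ((rst he).obj S.X₃) n) :
    hOn he hU S.X₁ (n + 1) (x.comp hS'.extClass rfl) = (hOn he hU S.X₃ n x).comp hS.extClass rfl :=
  (congrArg (hOn he hU S.X₁ (n + 1)) (congrArg (fun t ↦ Ext.comp x t rfl)
    (Ext.mapExactFunctor_extClass (rst he) hS).symm)).trans (hOn_comp he hU x hS.extClass rfl)

theorem hOn_zero (hU : he.functor.obj ⊤ = U) (G : CohTop.Ab X) (s : G.obj.obj (op U)) :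
    hOn he hU G 0 ((Sheaf.H.equiv₀ ((rst he).obj G) (isTerminalTop : IsTerminal (⊤ : Opens T))).symm
        (G.obj.map (eqToHom hU).op s)) = Ext.mk₀ ((homEquiv U G).symm s) := by
  subst hU
  have hs : G.obj.map (eqToHom (rfl : he.functor.obj (⊤ : Opens T) = _)).op s = s := by simp
  have h0 : (Sheaf.H.equiv₀ ((rst he).obj G) (isTerminalTop : IsTerminal (⊤ : Opens T))).symm s =
      Ext.mk₀ ((constEquiv ((rst he).obj G)).symm s) := rfl
  rw [hs, h0, hOn_apply, hTop_apply, Ext.mk₀_comp_mk₀]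
  have h1 : restrMap he ⊤ 0 G (Ext.mk₀ ((homEquiv (he.functor.obj ⊤) G).symm s)) =
      Ext.mk₀ (topIso.hom ≫ (constEquiv ((rst he).obj G)).symm s) := by
    rw [restrMap, cmp_mk₀]
    congr 1
    apply (homEquiv ⊤ _).injective
    rw [homEquiv_comp, homEquiv_comp, openGen]
    refine (congrArg _ (Equiv.apply_symm_apply _ _)).trans ?_
    refine (homEquiv_apply _).symm.trans ((Equiv.apply_symm_apply _ _).trans ?_)
    refine Eq.trans ?_ (congrArg _ ((homEquiv (⊤ : Opens T) _).apply_symm_apply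
      (constEquiv _ (𝟙 _))).symm)
    exact ((constEquiv ((rst he).obj G)).apply_symm_apply s).symm.trans
      ((congrArg (constEquiv _) (Category.id_comp _)).symm.trans (constEquiv_comp _ _))
  have h2 := ((restrEquiv he ⊤ 0 G).symm_apply_eq).2 h1.symm
  rw [h2, rs_mk₀]
  congr 1
  rw [Subsingleton.elim (homOfLE (le_refl (he.functor.obj ⊤))) (𝟙 _), CategoryTheory.Functor.map_id,
    Category.id_comp]

end Groth.Agent.Lib.CohDelta.Open
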