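import Groth.Agent.Lib.CohDelta.SerreRel
import Groth.Agent.Lib.ZarCoh.Morph

/-!
# Acyclic envelopes from affine covers
-/

set_option linter.style.haveILetI false
set_option autoImplicit false

universe u

open CategoryTheory CategoryTheory.Limits AlgebraicGeometry TopologicalSpace Opposite
  CategoryTheory.Abelian
open Groth.Agent.Lib Groth.Agent.Lib.ZarCoh.Basic Groth.Agent.Lib.CohDelta.Basic

namespace Groth.Agent.Lib.CohDelta.AffCover

variable {X : Scheme.{u}}

theorem subsingleton_HH_biproduct {κ : Type} [Finite κ] [HasFiniteBiproducts X.Modules]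
    (N : κ → X.Modules) (p : ℕ) (h : ∀ k, Subsingleton (Coh.HH X (N k) p)) :
    Subsingleton (Coh.HH X (⨁ N) p) := by
  classical
  haveI := Fintype.ofFinite κ
  let A := Groth.Agent.H34.HOne.ab X
  let P : CohTop.Ab X.toPresheafedSpace.carrier := CohTop.const X (ULift.{u} ℤ)
  suffices Subsingleton (Ext.{u} P (A.obj (⨁ N)) p) from this
  refine subsingleton_of_forall_eq 0 fun ξ => ?_
  have h1 : 𝟙 (A.obj (⨁ N)) = ∑ k, A.map (biproduct.π N k ≫ biproduct.ι N k) := by
    rw [← Functor.map_sum, biproduct.total, CategoryTheory.Functor.map_id]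
  have h2 : ξ = ξ.comp (Ext.mk₀ (∑ k, A.map (biproduct.π N k ≫ biproduct.ι N k))) (add_zero p) := by
    rw [← h1, Ext.comp_mk₀_id]
  rw [h2, Ext.mk₀_sum, Ext.comp_sum]
  refine Finset.sum_eq_zero fun k _ => ?_
  haveI : Subsingleton (Ext.{u} P (A.obj (N k)) p) := h k
  rw [Functor.map_comp, ← Ext.mk₀_comp_mk₀, ← Ext.comp_assoc_of_second_deg_zero,
    Subsingleton.elim (ξ.comp (Ext.mk₀ (A.map (biproduct.π N k))) (add_zero p)) 0, Ext.zero_comp]

theorem exists_acyclic [CompactSpace X]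
    (hd : ∀ V W : X.Opens, IsAffineOpen V → IsAffineOpen W → IsAffineOpen (V ⊓ W))
    (M : X.Modules) [M.IsQuasicoherent] :
    ∃ (M' : X.Modules) (i : M ⟶ M'), Mono i ∧ M'.IsQuasicoherent ∧
      ∀ p : ℕ, 0 < p → Subsingleton (Coh.HH X M' p) := by
  obtain ⟨s, hs, hcov⟩ := isCompact_and_isOpen_iff_finite_and_eq_biUnion_affineOpens.mp
    (⟨isCompact_univ, isOpen_univ⟩ : IsCompact (Set.univ : Set X) ∧ IsOpen (Set.univ : Set X))
  haveI := hs.fintype
  let U : Fin (Fintype.card s) → X.Opens := fun k => ((Fintype.equivFin s).symm k).1.1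
  have hU : ∀ k, IsAffineOpen (U k) := fun k => ((Fintype.equivFin s).symm k).1.2
  haveI : ∀ k, IsAffineHom (U k).ι := fun k => ⟨fun A hA => by
    have h := (hd (U k) A (hU k) hA).preimage_of_isOpenImmersion (U k).ι
      (by rw [Scheme.Opens.opensRange_ι]; exact inf_le_left)
    have e : (U k).ι ⁻¹ᵁ (U k ⊓ A) = (U k).ι ⁻¹ᵁ A := by
      rw [Scheme.Hom.preimage_inf, Scheme.Opens.ι_preimage_self, top_inf_eq]
    rwa [e] at h⟩
  let N : Fin (Fintype.card s) → X.Modules := fun k => (Coh.push (U k).ι).obj (M.restrict (U k).ι)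
  haveI : ∀ k, IsAffine (U k : Scheme.{u}) := fun k => hU k
  haveI hN : ∀ k, (N k).IsQuasicoherent := fun k =>
    QCoh.Pushforward.isQCoh_pushforward (U k).ι (M := M.restrict (U k).ι)
  haveI : HasFiniteBiproducts X.Modules := HasFiniteBiproducts.of_hasFiniteCoproducts
  let i : M ⟶ ⨁ N :=
    biproduct.lift fun k => (Scheme.Modules.restrictAdjunction (U k).ι).unit.app M
  refine ⟨⨁ N, i, ?_, ?_, fun p hp => ?_⟩
  · refine (Modules.Stalk.mono_iff_app_injective i).mpr fun W a b hab => ?_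
    have hle : W ≤ iSup fun k => (U k).ι ''ᵁ (U k).ι ⁻¹ᵁ W := fun x hx => by
      obtain ⟨c, hc, hxc⟩ := Set.mem_iUnion₂.mp (hcov ▸ Set.mem_univ x)
      refine Opens.mem_iSup.mpr ⟨Fintype.equivFin s ⟨c, hc⟩, ?_⟩
      rw [Scheme.Hom.image_preimage_eq_opensRange_inf, Scheme.Opens.opensRange_ι]
      exact ⟨by simpa [U] using hxc, hx⟩
    refine TopCat.Sheaf.eq_of_locally_eq' ⟨M.presheaf, M.isSheaf⟩ _ W
      (fun k => homOfLE ((U k).ι.image_preimage_le W)) hle a b fun k => ?_
    have hk : i ≫ biproduct.π N k = (Scheme.Modules.restrictAdjunction (U k).ι).unit.app M :=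
      biproduct.lift_π _ _
    have := congrArg ((biproduct.π N k).app W) hab
    change (i ≫ biproduct.π N k).app W a = (i ≫ biproduct.π N k).app W b at this
    rw [hk] at this
    exact this
  · have hc : ((∐ N) : X.Modules).IsQuasicoherent :=
      QCoh.Closure.isQCoh_of_isColimit (coproductIsCoproduct N) fun j => hN j.as
    exact (SheafOfModules.isQuasicoherent X.ringCatSheaf).prop_of_iso
      (biproduct.isoCoproduct N).symm hc
  · obtain ⟨q, rfl⟩ := Nat.exists_eq_succ_of_ne_zero hp.ne'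
    refine subsingleton_HH_biproduct N (q + 1) fun k => ?_
    haveI : Subsingleton (Coh.HH _ (M.restrict (U k).ι) (q + 1)) := by
      refine @Equiv.subsingleton _ _ (ZarCoh.Morph.openEquiv (U k).ι M (q + 1)).toEquiv ?_
      rw [Scheme.Opens.ι_image_top]
      exact ZarCoh.Affine.HU_subsingleton M (hU k) q
    exact (ZarCoh.Morph.affineEquiv (U k).ι (M.restrict (U k).ι) (q + 1)).toEquiv.subsingleton

end Groth.Agent.Lib.CohDelta.AffCover
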