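import Groth.Agent.Lib.CohDelta.LPush
import Groth.Agent.Lib.CohDelta.QCohR
import Groth.Prelude.Def_CohPull

/-!
# The edge map and vanishing of higher direct images

`CohPull.pushEdge` is the comparison `PushH.pushH` of underlying abelian sheaves; vanishing of
`R^q f_*` gives local vanishing of classes.
-/

set_option linter.style.haveILetI false
set_option maxHeartbeats 1000000

universe u

open CategoryTheory CategoryTheory.Limits AlgebraicGeometry TopologicalSpace Opposite
open CategoryTheory.Abelian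
open Groth.Agent.Lib.ZarCoh.Basic Groth.Agent.Lib.ZarCoh.Compare Groth.Agent.Lib.CohDelta.Basic

namespace Groth.Agent.Lib.CohDelta.Edge

variable {X Y : Scheme.{u}} (f : X ⟶ Y) (G : X.Modules)

theorem theta_counit :
    CohPull.theta f ((Scheme.Modules.pushforward f).obj G) ≫
        abMap ((Scheme.Modules.pullbackPushforwardAdjunction f).counit.app G) =
      (CohPull.invPushAdj f.base).counit.app (Coh.toAb G) := by
  unfold CohPull.theta
  refine ((CohPull.invPushAdj f.base).homEquiv_naturality_right_symm _ _).symm.trans ?_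
  refine (congrArg ((CohPull.invPushAdj f.base).homEquiv _ _).symm
    (?_ : _ = 𝟙 ((CohTop.push f.base).obj (Coh.toAb G)))).trans ?_
  · exact ((abF Y).map_comp _ ((Scheme.Modules.pushforward f).map
      ((Scheme.Modules.pullbackPushforwardAdjunction f).counit.app G))).symm.trans
      ((congrArg (abF Y).map
        ((Scheme.Modules.pullbackPushforwardAdjunction f).right_triangle_components G)).trans
        ((abF Y).map_id _))
  · exact (CohPull.invPushAdj f.base).homEquiv_symm_id _

theorem pushEdge_eq (p : ℕ) (x : Coh.HH Y ((Scheme.Modules.pushforward f).obj G) p) :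
    CohPull.pushEdge f G p x =
      Groth.Agent.Lib.ZarCoh.PushH.pushH f.base (Coh.toAb G) p x := by
  apply (hTop (Coh.toAb G) p).injective
  rw [Groth.Agent.Lib.ZarCoh.PushH.hTop_pushH]
  symm
  show pushMap f.base ⊤ p (Coh.toAb G) (hTop ((CohTop.push f.base).obj (Coh.toAb G)) p x) = _
  rw [pushMap_apply, hTop_apply, cmp_apply, Ext.mapExactFunctor_comp, Ext.mapExactFunctor_mk₀,
    Ext.mk₀_comp_mk₀_assoc, ← LPush.topIso_oneTo, hTop_apply]
  show _ = (Ext.mk₀ (topIso (X := X.toPresheafedSpace.carrier)).hom).comp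
    ((((Ext.mk₀ (CohPull.oneTo f.base)).comp
      (x.mapExactFunctor (CohPull.inv f.base)) (zero_add p)).comp
        (Ext.mk₀ (CohPull.theta f ((Scheme.Modules.pushforward f).obj G))) (add_zero p)).comp
      (Ext.mk₀ (abMap ((Scheme.Modules.pullbackPushforwardAdjunction f).counit.app G))) (add_zero p))
      (zero_add p)
  rw [Ext.comp_assoc_of_second_deg_zero _ (Ext.mk₀ (CohPull.theta f _)) _ (add_zero p),
    Ext.mk₀_comp_mk₀, theta_counit, ← Ext.comp_assoc (Ext.mk₀ (topIso (X := X.toPresheafedSpace.carrier)).hom) _ _ (zero_add p)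
      (add_zero p) (by omega), Ext.mk₀_comp_mk₀_assoc]
  rfl

theorem pushEdge_bijective_of (p : ℕ)
    (h : Function.Bijective (Groth.Agent.Lib.ZarCoh.PushH.pushH f.base (Coh.toAb G) p)) :
    Function.Bijective (CohPull.pushEdge f G p) := by
  have : ⇑(CohPull.pushEdge f G p) =
      ⇑(Groth.Agent.Lib.ZarCoh.PushH.pushH f.base (Coh.toAb G) p) := funext (pushEdge_eq f G p)
  exact this ▸ h

theorem subsingleton_Γ {M : Y.Modules} (h : IsZero M) (U : Y.Opens) : Subsingleton Γ(M, U) :=
  subsingleton_of_forall_eq 0 fun x ↦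
    congr(($(h.eq_of_src (𝟙 M) 0)).app U x)

/-- If `R^{q+1} f_* = 0` in degrees below `n`, classes die locally. -/
theorem lvan_of_isZero [HasInjectiveResolutions X.Modules] (n : ℕ)
    (h : ∀ q, q < n → IsZero (((Scheme.Modules.pushforward f).rightDerived (q + 1)).obj G)) :
    LPush.LVan f.base (Coh.toAb G) n := by
  intro q hq U ξ y hy
  let I : InjectiveResolution G := injectiveResolution G
  obtain ⟨i⟩ := Syzygy.nonempty_rightDerived_iso I f q
  haveI : Subsingleton Γ(Syzygy.R I f q, U) := subsingleton_Γ ((h q hq).of_iso i.symm) U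
  obtain ⟨W, hW, hyW, hz⟩ := QCohR.e_inj f I q U
    (ξ.comp (Ext.mk₀ (abMap (Syzygy.augIso I).hom)) (add_zero (q + 1)))
    (Subsingleton.elim _ _) y hy
  refine ⟨W, hW, hyW, ?_⟩
  have hz' : (rs (Coh.toAb G) (q + 1) (f.preimage_mono hW) ξ).comp
      (Ext.mk₀ (abMap (Syzygy.augIso I).hom)) (add_zero (q + 1)) = 0 :=
    (rs_comp (q + 1) (add_zero (q + 1)) (f.preimage_mono hW) ξ _).symm.trans hz
  have := congrArg
    (fun k ↦ Ext.comp k (Ext.mk₀ (abMap (Syzygy.augIso I).inv)) (add_zero (q + 1))) hz'
  rw [Ext.comp_assoc_of_second_deg_zero, Ext.mk₀_comp_mk₀, abMap, abMap, ← Functor.map_comp,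
    Iso.hom_inv_id, CategoryTheory.Functor.map_id, Ext.zero_comp] at this
  exact (Ext.comp_mk₀_id _).symm.trans this

end Groth.Agent.Lib.CohDelta.Edge
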