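import Groth.Agent.Lib.CohDelta.Sect
import Groth.Agent.Lib.CohDelta.Units

/-!
# `CohPull.resLE` is restriction of cohomology classes
-/

set_option linter.style.haveILetI false
set_option maxHeartbeats 1000000
set_option maxRecDepth 4000

universe u

open CategoryTheory CategoryTheory.Limits AlgebraicGeometry AlgebraicGeometry.Scheme.Modules
  TopologicalSpace Opposite
open CategoryTheory.Abelian
open Groth.Agent.Lib.ZarCoh.Basic Groth.Agent.Lib.ZarCoh.Compare
open Groth.Agent.Lib.CohDelta.Basic Groth.Agent.Lib.CohDelta.Flasque Groth.Agent.Lib.CohDelta.Units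
open Groth.Agent.Lib.CohDelta.Sect (inj inj_shortExact inj_injective exists_comp_extClass)

namespace Groth.Agent.Lib.CohDelta.Res

variable {X Y : Scheme.{u}}

theorem theta_natural (g : X ⟶ Y) {M N : Y.Modules} (φ : M ⟶ N) :
    (CohPull.inv g.base).map ((abF Y).map φ) ≫ CohPull.theta g N =
      CohPull.theta g M ≫ (abF X).map ((Scheme.Modules.pullback g).map φ) := by
  apply ((CohPull.invPushAdj g.base).homEquiv _ _).injective
  rw [Adjunction.homEquiv_naturality_left, Adjunction.homEquiv_naturality_right]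
  simp only [CohPull.theta]
  erw [Equiv.apply_symm_apply, Equiv.apply_symm_apply]
  exact ((abF Y).map_comp _ _).symm.trans ((congrArg (abF Y).map
    ((pullbackPushforwardAdjunction g).unit.naturality φ)).trans ((abF Y).map_comp _ _))

variable {U U' : X.Opens} (h : U' ≤ (𝟙 X : X ⟶ X) ⁻¹ᵁ U)

/-- The morphism underlying `CohPull.resLE` on abelian sheaves. -/
noncomputable def tau (F : X.Modules) :
    (CohPull.inv ((𝟙 X : X ⟶ X).resLE U U' h).base).obj ((CohCmp.toAbOn X U).obj F) ⟶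
      (CohCmp.toAbOn X U').obj F :=
  CohPull.theta ((𝟙 X : X ⟶ X).resLE U U' h) (F.restrict U.ι) ≫
    (abF (U' : Scheme.{u})).map ((resNat h).app F)

theorem tau_natural {F G : X.Modules} (φ : F ⟶ G) :
    (CohPull.inv ((𝟙 X : X ⟶ X).resLE U U' h).base).map ((CohCmp.toAbOn X U).map φ) ≫ tau h G =
      tau h F ≫ (CohCmp.toAbOn X U').map φ := by
  refine (Category.assoc _ _ _).symm.trans ?_
  refine (congrArg (· ≫ (abF (U' : Scheme.{u})).map ((resNat h).app G))
    (theta_natural ((𝟙 X : X ⟶ X).resLE U U' h) ((restrictFunctor U.ι).map φ))).trans ?_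
  refine (Category.assoc _ _ _).trans ?_
  refine (congrArg (CohPull.theta ((𝟙 X : X ⟶ X).resLE U U' h) (F.restrict U.ι) ≫ ·) ?_).trans
    (Category.assoc _ _ _).symm
  exact ((abF (U' : Scheme.{u})).map_comp _ _).symm.trans
    ((congrArg (abF (U' : Scheme.{u})).map ((resNat h).naturality φ)).trans
      ((abF (U' : Scheme.{u})).map_comp _ _))

theorem resLE_eq (F : X.Modules) (h' : U' ≤ U) (p : ℕ) (x : Coh.HHon X F U p) :
    CohPull.resLE F h' p x = Sheaf.H.map (tau (by rwa [Scheme.Hom.id_preimage]) F) p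
      (CohPull.pullAb ((𝟙 X : X ⟶ X).resLE U U' (by rwa [Scheme.Hom.id_preimage])).base
        (Coh.toAb (F.restrict U.ι)) p x) := by
  have h'' : U' ≤ (𝟙 X : X ⟶ X) ⁻¹ᵁ U := by rwa [Scheme.Hom.id_preimage]
  let j := (𝟙 X : X ⟶ X).resLE U U' h''
  show CohPull.mapH ((restrictFunctor U'.ι).map ((Scheme.Modules.pullbackId X).hom.app F)) p
      (CohPull.mapH (CohPull.pullOnIso (𝟙 X) U U' h'' F).hom p
        (Sheaf.H.map (CohPull.theta j (F.restrict U.ι)) p
          (CohPull.pullAb j.base (Coh.toAb (F.restrict U.ι)) p x))) = _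
  refine (Sheaf.H.map_comp_apply _ _ _).symm.trans ?_
  refine (Sheaf.H.map_comp_apply _ _ _).symm.trans ?_
  refine congrArg (fun t ↦ Sheaf.H.map t p (CohPull.pullAb j.base (Coh.toAb (F.restrict U.ι)) p x)) ?_
  refine congrArg (CohPull.theta j (F.restrict U.ι) ≫ ·) ?_
  exact ((abF (U' : Scheme.{u})).map_comp _ _).symm.trans
    (congrArg (abF (U' : Scheme.{u})).map (resNat_app h'' F).symm)

theorem resLE_natural {F G : X.Modules} (φ : F ⟶ G) (h' : U' ≤ U) (p : ℕ)
    (x : Coh.HHon X F U p) :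
    CohPull.resLE G h' p (CohPull.mapH ((restrictFunctor U.ι).map φ) p x) =
      CohPull.mapH ((restrictFunctor U'.ι).map φ) p (CohPull.resLE F h' p x) := by
  rw [resLE_eq, resLE_eq]
  refine (congrArg _ (?_ : _ = Sheaf.H.map ((CohPull.inv
    ((𝟙 X : X ⟶ X).resLE U U' (by rwa [Scheme.Hom.id_preimage])).base).map
      ((CohCmp.toAbOn X U).map φ)) p (CohPull.pullAb _ (Coh.toAb (F.restrict U.ι)) p x))).trans ?_
  · refine (cmp_comp (CohPull.inv _) (CohPull.oneTo _) x
      (Ext.mk₀ ((CohCmp.toAbOn X U).map φ)) (add_zero p)).trans ?_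
    rw [Ext.mapExactFunctor_mk₀]
    rfl
  · rw [← Sheaf.H.map_comp_apply, tau_natural, Sheaf.H.map_comp_apply]
    rfl

theorem resLE_extδ {S : ShortComplex X.Modules} (hS : S.ShortExact) (h' : U' ≤ U) (p : ℕ)
    (x : Coh.HHon X S.X₃ U p) :
    CohPull.resLE S.X₁ h' (p + 1) (CohCmp.extδ (toAbOn_shortExact hS U) p x) =
      CohCmp.extδ (toAbOn_shortExact hS U') p (CohPull.resLE S.X₃ h' p x) := by
  have h'' : U' ≤ (𝟙 X : X ⟶ X) ⁻¹ᵁ U := by rwa [Scheme.Hom.id_preimage]
  refine (resLE_eq _ h' _ _).trans (Eq.trans ?_ (congrArg (CohCmp.extδ (toAbOn_shortExact hS U') p)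
    (resLE_eq _ h' _ x)).symm)
  let j := ((𝟙 X : X ⟶ X).resLE U U' h'').base
  have hT := (toAbOn_shortExact hS U).map_of_exact (CohPull.inv j)
  let φ : (S.map (CohCmp.toAbOn X U)).map (CohPull.inv j) ⟶ S.map (CohCmp.toAbOn X U') :=
    { τ₁ := tau h'' S.X₁
      τ₂ := tau h'' S.X₂
      τ₃ := tau h'' S.X₃
      comm₁₂ := (tau_natural h'' S.f).symm
      comm₂₃ := (tau_natural h'' S.g).symm }
  have key : hT.extClass.comp (Ext.mk₀ φ.τ₁) (add_zero 1) =
      (Ext.mk₀ φ.τ₃).comp (toAbOn_shortExact hS U').extClass (zero_add 1) :=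
    ShortComplex.ShortExact.extClass_naturality hT (toAbOn_shortExact hS U') φ
  refine (congrArg (fun t ↦ Ext.comp t (Ext.mk₀ (tau h'' S.X₁)) (add_zero (p + 1)))
    ((cmp_comp (CohPull.inv j) (CohPull.oneTo j) x (toAbOn_shortExact hS U).extClass rfl).trans
      (congrArg (fun t ↦ Ext.comp _ t rfl)
        (Ext.mapExactFunctor_extClass (CohPull.inv j) (toAbOn_shortExact hS U))))).trans ?_
  refine (Ext.comp_assoc (CohPull.pullAb j _ p x) hT.extClass
    (Ext.mk₀ φ.τ₁) rfl (add_zero 1) (by omega)).trans ?_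
  refine (congrArg (fun t ↦ Ext.comp (CohPull.pullAb j _ p x) t rfl) key).trans ?_
  exact (Ext.comp_assoc (CohPull.pullAb j _ p x) (Ext.mk₀ φ.τ₃)
    (toAbOn_shortExact hS U').extClass (add_zero p) (zero_add 1) (by omega)).symm

theorem resLE_sectH0 (F : X.Modules) (h' : U' ≤ U) (s : F.presheaf.obj (op U)) :
    CohPull.resLE F h' 0 (CohPull.sectH0 F U s) =
      CohPull.sectH0 F U' (F.presheaf.map (homOfLE h').op s) := by
  have h'' : U' ≤ (𝟙 X : X ⟶ X) ⁻¹ᵁ U := by rwa [Scheme.Hom.id_preimage]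
  apply (Sheaf.H.equiv₀ (Coh.toAb (F.restrict U'.ι))
    (isTerminalTop : IsTerminal (⊤ : (U' : Scheme.{u}).Opens))).injective
  let j := (𝟙 X : X ⟶ X).resLE U U' h''
  show Sheaf.H.equiv₀ _ _ (CohPull.mapH ((restrictFunctor U'.ι).map ((pullbackId X).hom.app F)) 0
      (CohPull.mapH (CohPull.pullOnIso (𝟙 X) U U' h'' F).hom 0
        (CohPull.pullMod j (F.restrict U.ι) 0 (CohPull.sectH0 F U s)))) = _
  refine ((Sheaf.H.equiv₀_naturality _ _ _).symm.trans (congrArg _
    ((Sheaf.H.equiv₀_naturality _ _ _).symm.trans (congrArg _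
      ((CohPull.equiv₀_pullMod j _ _).trans (congrArg _ (AddEquiv.apply_symm_apply _ _))))))).trans ?_
  refine (resNat_eta' h'' F U s ⊤ U.ι_preimage_self.symm (eqToHom U.ι_image_top)
    (homOfLE ((U'.ι.image_le_opensRange _).trans (le_of_eq U'.opensRange_ι) |>.trans h'))).trans ?_
  refine ((AddEquiv.apply_symm_apply _ _).trans ?_).symm
  exact map_map F.presheaf _ _ _ s

theorem hU_resLE [HasInjectiveResolutions X.Modules] (p : ℕ) :
    ∀ (F : X.Modules) (h' : U' ≤ U) (x : Coh.HHon X F U p),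
    hU F U' p (CohPull.resLE F h' p x) = rs (Coh.toAb F) p h' (hU F U p x) := by
  induction p with
  | zero =>
    intro F h' x
    obtain ⟨s, rfl⟩ := (CohPull.sectH0 F U).surjective x
    rw [resLE_sectH0, hU_sectH0, hU_sectH0]
    refine (congrArg Ext.mk₀ ?_).trans (rs_mk₀ _ h' _).symm
    apply (homEquiv U' _).injective
    rw [homEquiv_res]
    exact ((homEquiv U' (Coh.toAb F)).apply_symm_apply _).trans
      (congrArg (fun t ↦ (Coh.toAb F).obj.map (homOfLE h').op t)
        ((homEquiv U (Coh.toAb F)).apply_symm_apply s)).symm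
  | succ p ih =>
    intro F h' x
    obtain ⟨z, hz⟩ := exists_comp_extClass F p U (hU F U (p + 1) x)
    obtain ⟨w, rfl⟩ := (hU (inj F).X₃ U p).surjective z
    have hx : x = CohCmp.extδ (toAbOn_shortExact (inj_shortExact F) U) p w :=
      (hU F U (p + 1)).injective (hz.symm.trans
        (hU_extδ (inj_shortExact F) U p w (toAbOn_shortExact (inj_shortExact F) U)).symm)
    refine (congrArg (hU F U' (p + 1)) ((congrArg (CohPull.resLE F h' (p + 1)) hx).trans
      (resLE_extδ (inj_shortExact F) h' p w))).trans ?_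
    refine (hU_extδ (inj_shortExact F) U' p _ _).trans ?_
    refine (congrArg (fun t ↦ Ext.comp t (abS_shortExact (inj_shortExact F)).extClass rfl)
      (ih (inj F).X₃ h' w)).trans ?_
    exact (rs_comp p rfl h' _ _).symm.trans (congrArg (rs _ (p + 1) h') hz)

end Groth.Agent.Lib.CohDelta.Res
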