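import Groth.Agent.Lib.CohDelta.AbR
import Groth.Agent.Lib.ZarCoh.Morph

/-!
# `Rᵖg_*(f_*F) = Rᵖ(g ∘ f)_*F` for affine `f`
-/

set_option linter.style.haveILetI false
set_option maxHeartbeats 1000000

universe u

open CategoryTheory CategoryTheory.Limits AlgebraicGeometry TopologicalSpace Opposite
open Groth.Agent.Lib.ZarCoh.Basic Groth.Agent.Lib.CohDelta.Basic Groth.Agent.Lib.CohDelta.Syzygy

namespace Groth.Agent.Lib.CohDelta.AbComp

instance pushAb_preservesFiniteLimits {X Y : Scheme.{u}} (f : X ⟶ Y) :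
    PreservesFiniteLimits (Coh.pushAb f) :=
  haveI : PreservesLimitsOfSize.{0, 0} (Coh.pushAb f) :=
    (TopCat.Sheaf.pullbackPushforwardAdjunction AddCommGrpCat.{u} f.base).rightAdjoint_preservesLimits
  PreservesLimitsOfSize.preservesFiniteLimits _

instance pushAb_additive {X Y : Scheme.{u}} (f : X ⟶ Y) : (Coh.pushAb f).Additive :=
  Functor.additive_of_preserves_binary_products _

variable {X Y Z' : Scheme.{u}} (f : X ⟶ Y) (g : Y ⟶ Z') [IsAffineHom f] {M : X.Modules}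
  [M.IsQuasicoherent] (I : InjectiveResolution M)

theorem isZero_R1 (k : ℕ) : IsZero ((Coh.RpushAb f 1).obj (Coh.toAb (Z I k))) := by
  obtain ⟨i⟩ := RAcyc.nonempty_chain_iso (Coh.pushAb f) (fun k ↦ abS (seq I k))
    (fun k ↦ abS_shortExact (seq_shortExact I k)) (fun k ↦ Iso.refl _)
    (fun k q ↦ haveI := I.injective k; AbR.isZero_rpushAb_injective f (I.cocomplex.X k) q) k 0
  haveI : (Z I 0).IsQuasicoherent :=
    ObjectProperty.prop_of_iso (SheafOfModules.isQuasicoherent (R := X.ringCatSheaf)) (augIso I) ‹_›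
  exact (Groth.Agent.Lib.ZarCoh.Morph.isZero_RpushAb f (Z I 0) k).of_iso i.symm

theorem push_shortExact (k : ℕ) : ((abS (seq I k)).map (Coh.pushAb f)).ShortExact := by
  have hS := abS_shortExact (seq_shortExact I k)
  haveI := hS.mono_f
  obtain ⟨i⟩ := RAcyc.nonempty_one_iso (Coh.pushAb f) hS
    (haveI := I.injective k; AbR.isZero_rpushAb_injective f (I.cocomplex.X k) 0)
  exact
    { exact := hS.exact.map_of_mono_of_preservesKernel _ hS.mono_f inferInstance
      mono_f := (Coh.pushAb f).map_mono _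
      epi_g := Preadditive.epi_of_isZero_cokernel _ ((isZero_R1 f I k).of_iso i.symm) }

theorem isZero_rpushAb_push (k q : ℕ) :
    IsZero ((Coh.RpushAb g (q + 1)).obj ((Coh.pushAb f).obj (Coh.toAb (I.cocomplex.X k)))) := by
  haveI := I.injective k
  haveI := Flasque.isFlasque_toAb (I.cocomplex.X k)
  haveI : TopCat.Sheaf.IsFlasque ((Coh.pushAb f).obj (Coh.toAb (I.cocomplex.X k))) :=
    ⟨fun i ↦ TopCat.Presheaf.IsFlasque.epi (F := (Coh.toAb (I.cocomplex.X k)).obj)
      ((Opens.map f.base).op.map i)⟩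
  exact Groth.Agent.Lib.ZarCoh.RpushVanish.isZero_RpushAb g.base (B := Set.univ)
    (Opens.isBasis_iff_nbhd.2 fun {U _} hx ↦ ⟨U, Set.mem_univ _, hx, le_rfl⟩) q
    (fun W _ ↦ HU_flasque _ _ q)

include I in
theorem nonempty_iso (p : ℕ) :
    Nonempty ((Coh.RpushAb g p).obj ((Coh.pushAb f).obj (Coh.toAb M)) ≅
      (Coh.RpushAb (f ≫ g) p).obj (Coh.toAb M)) := by
  cases p with
  | zero =>
    exact ⟨(Coh.pushAb g).rightDerivedZeroIsoSelf.app ((Coh.pushAb f).obj (Coh.toAb M)) ≪≫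
      ((Coh.pushAb (f ≫ g)).rightDerivedZeroIsoSelf.app (Coh.toAb M)).symm⟩
  | succ p =>
    obtain ⟨i⟩ := RAcyc.nonempty_coker_iso (Coh.pushAb g)
      (fun k ↦ (abS (seq I k)).map (Coh.pushAb f)) (push_shortExact f I) (fun k ↦ Iso.refl _)
      (isZero_rpushAb_push f g I) p
    obtain ⟨j⟩ := AbR.nonempty_rpushAb_iso (f ≫ g) I p
    exact ⟨(Coh.RpushAb g (p + 1)).mapIso ((Coh.pushAb f).mapIso ((abF X).mapIso (augIso I))) ≪≫ i ≪≫
      (PreservesCokernel.iso (abF Z') ((Scheme.Modules.pushforward (f ≫ g)).map (t I p))).symm ≪≫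
      j.symm⟩

end Groth.Agent.Lib.CohDelta.AbComp
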