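import Groth.Agent.Lib.Cech.MV
import Groth.Agent.Lib.ZarCoh.Affine
import Groth.Agent.Lib.ZarCoh.Compare
import Groth.Agent.Lib.CohBasics.Affine
import Groth.Agent.H34.GlobGen

/-!
# `H¹` of globally generated sheaves on a union of two affine opens
-/

set_option autoImplicit false

universe u

open CategoryTheory CategoryTheory.Limits AlgebraicGeometry TopologicalSpace Opposite
  CategoryTheory.Abelian
open Groth.Agent.Lib.ZarCoh.Basic

namespace Groth.Agent.Lib.CohDelta.TwoAff

/-- `H¹` vanishes on a union of two acyclic opens if sections on the overlap decompose. -/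
theorem subsingleton_HU_one_sup {X : TopCat.{u}} (F : CohTop.Ab X) (U V : Opens X)
    [Subsingleton (CohTop.HU F 1 U)] [Subsingleton (CohTop.HU F 1 V)]
    (h : ∀ z : F.obj.obj (op (U ⊓ V)), ∃ (x : F.obj.obj (op U)) (y : F.obj.obj (op V)),
      F.obj.map (homOfLE inf_le_left).op x + F.obj.map (homOfLE inf_le_right).op y = z) :
    Subsingleton (CohTop.HU F 1 (U ⊔ V)) := by
  refine subsingleton_of_forall_eq 0 fun c => ?_
  obtain ⟨w, rfl⟩ := Cech.MV.exists_δ_eq F U V 0 c (Subsingleton.elim _ _) (Subsingleton.elim _ _)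
  obtain ⟨g, hg⟩ := (Ext.mk₀_bijective (Zs.obj (U ⊓ V)) F).2 w
  obtain ⟨x, y, hxy⟩ := h (homEquiv _ F g)
  have key : Zs.map (homOfLE (inf_le_left : U ⊓ V ≤ U)) ≫ (homEquiv U F).symm x +
      Zs.map (homOfLE (inf_le_right : U ⊓ V ≤ V)) ≫ (homEquiv V F).symm y = g := by
    refine (homEquiv _ F).injective ?_
    rw [homEquiv_add, homEquiv_res, homEquiv_res, Equiv.apply_symm_apply, Equiv.apply_symm_apply]
    exact hxy
  let a : CohTop.HU F 0 U := Ext.mk₀ ((homEquiv U F).symm x)
  let b : CohTop.HU F 0 V := Ext.mk₀ ((homEquiv V F).symm y)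
  have e : w = CohTop.res F 0 inf_le_left a + CohTop.res F 0 inf_le_right b := by
    refine hg.symm.trans ((congrArg Ext.mk₀ key).symm.trans ((Ext.mk₀_add _ _).trans ?_))
    exact congrArg₂ (· + ·) (Ext.mk₀_comp_mk₀ _ _).symm (Ext.mk₀_comp_mk₀ _ _).symm
  rw [show w = CohTop.res F 0 inf_le_left a - CohTop.res F 0 inf_le_right (-b) by
    rw [e, map_neg, sub_neg_eq_add]]
  exact Cech.MV.δ_sub F U V 0 _ _

/-- Global sections of a globally generated module span the sections over an affine open. -/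
theorem span_res_eq_top {X : Scheme.{u}} {M : X.Modules} [M.IsQuasicoherent]
    (hM : Curv2.IsGloballyGenerated M) {W : X.Opens} (hW : IsAffineOpen W) :
    Submodule.span Γ(X, W)
      (Set.range fun m : Γ(M, ⊤) => M.presheaf.map (homOfLE (le_top : W ≤ ⊤)).op m) = ⊤ := by
  refine CohBasics.Affine.span_eq_top_of_germ hW _ fun x hx => ?_
  rw [eq_top_iff, ← H34.GlobGen.gl_eq_top_of_gg hM x, H34.GlobGen.Gl, Submodule.span_le]
  rintro _ ⟨m, rfl⟩
  exact Submodule.subset_span ⟨_, ⟨m, rfl⟩,
    TopCat.Presheaf.germ_res_apply M.presheaf (homOfLE (le_top : W ≤ ⊤)) x hx m⟩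

/-- `H¹` of a globally generated quasi-coherent module vanishes on a union of two affine opens on
whose affine overlap every function is a sum of functions extending to one of the two. -/
theorem subsingleton_HH_one {X : Scheme.{u}} {U V : X.Opens} (hU : IsAffineOpen U)
    (hV : IsAffineOpen V) (hW : IsAffineOpen (U ⊓ V)) (hcov : U ⊔ V = ⊤)
    (h : ∀ z : Γ(X, U ⊓ V), ∃ (x : Γ(X, U)) (y : Γ(X, V)),
      X.presheaf.map (homOfLE inf_le_left).op x + X.presheaf.map (homOfLE inf_le_right).op y = z)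
    (M : X.Modules) [M.IsQuasicoherent] (hM : Curv2.IsGloballyGenerated M) :
    Subsingleton (Coh.HH X M 1) := by
  haveI : Subsingleton (CohTop.HU (Coh.toAb M) 1 U) := ZarCoh.Affine.HU_subsingleton M hU 0
  haveI : Subsingleton (CohTop.HU (Coh.toAb M) 1 V) := ZarCoh.Affine.HU_subsingleton M hV 0
  have key : ∀ z : Γ(M, U ⊓ V), ∀ r : Γ(X, U ⊓ V), ∃ (x : Γ(M, U)) (y : Γ(M, V)),
      M.presheaf.map (homOfLE inf_le_left).op x + M.presheaf.map (homOfLE inf_le_right).op y =
        r • z := by
    intro z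
    have hz : z ∈ Submodule.span Γ(X, U ⊓ V) (Set.range fun m : Γ(M, ⊤) =>
        M.presheaf.map (homOfLE (le_top : U ⊓ V ≤ ⊤)).op m) :=
      (span_res_eq_top hM hW).ge trivial
    induction hz using Submodule.span_induction with
    | mem z hz =>
      intro r
      obtain ⟨m, rfl⟩ := hz
      obtain ⟨p, q, rfl⟩ := h r
      refine ⟨p • M.presheaf.map (homOfLE (le_top : U ≤ ⊤)).op m,
        q • M.presheaf.map (homOfLE (le_top : V ≤ ⊤)).op m, ?_⟩
      rw [Scheme.Modules.map_smul, Scheme.Modules.map_smul, add_smul,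
        ← ConcreteCategory.comp_apply, ← ConcreteCategory.comp_apply, ← Functor.map_comp,
        ← Functor.map_comp]
      rfl
    | zero => exact fun r => ⟨0, 0, by rw [map_zero, map_zero, add_zero, smul_zero]⟩
    | add z w _ _ hz hw =>
      intro r
      obtain ⟨x, y, e⟩ := hz r
      obtain ⟨x', y', e'⟩ := hw r
      exact ⟨x + x', y + y', by rw [map_add, map_add, smul_add, ← e, ← e']; abel⟩
    | smul a z _ hz =>
      intro r
      rw [smul_smul]
      exact hz (r * a)
  have key' : ∀ z : Γ(M, U ⊓ V), ∃ (x : Γ(M, U)) (y : Γ(M, V)),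
      M.presheaf.map (homOfLE inf_le_left).op x + M.presheaf.map (homOfLE inf_le_right).op y = z :=
    fun z => by simpa only [one_smul] using key z 1
  have := subsingleton_HU_one_sup (Coh.toAb M) U V key' 
  rw [hcov] at this
  haveI : Subsingleton (Ext.{u} (Zs.obj (⊤ : Opens X)) (Coh.toAb M) 1) := this
  exact (ZarCoh.Compare.hTop (Coh.toAb M) 1).toEquiv.subsingleton

end Groth.Agent.Lib.CohDelta.TwoAff
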