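import Groth.Agent.Lib.CohDelta.SerreAcyc

/-!
# `F` commutes with the cohomology of a complex with acyclic terms and acyclic cohomology
-/

set_option autoImplicit false
set_option linter.style.haveILetI false

universe v v' u u'

open CategoryTheory CategoryTheory.Limits ZeroObject

noncomputable section

namespace Groth.Agent.Lib.CohDelta.AcycHomology

open SerreAcyc

variable {B : Type u'} [Category.{v'} B] [Abelian B]

/-- Zero objects form a thick class. -/
theorem isThick_isZero : IsThick (fun M : B => IsZero M) where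
  iso e h := h.of_iso e.symm
  zero h := h
  ker φ h _ := IsZero.of_mono (kernel.ι φ) h
  coker φ _ h := IsZero.of_epi (cokernel.π φ) h
  ext hS h₁ h₃ := hS.exact.isZero_of_both_zeros (h₁.eq_of_src _ _) (h₃.eq_of_tgt _ _)

variable {A : Type u} [Category.{v} A] [Abelian A] [EnoughInjectives A]
  (F : A ⥤ B) [F.Additive] [PreservesFiniteLimits F]

/-- A left exact functor maps an epimorphism with kernel killed by `R¹F` to an epimorphism. -/
theorem epi_map_g {S : ShortComplex A} (hS : S.ShortExact) (h : IsZero ((F.rightDerived 1).obj S.X₁)) :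
    Epi (F.map S.g) := by
  obtain ⟨Δ⟩ := Groth.Agent.Lib.RDer.Connecting.nonempty_derivedLES F
  let z : F.rightDerived 0 ≅ F := F.rightDerivedZeroIsoSelf
  haveI : Epi ((F.rightDerived 0).map S.g) := (Δ.exact₃ S hS 0 1 rfl).epi_f (h.eq_of_tgt _ _)
  have e : F.map S.g = z.inv.app S.X₂ ≫ (F.rightDerived 0).map S.g ≫ z.hom.app S.X₃ := by
    rw [z.hom.naturality, Iso.inv_hom_id_app_assoc]
  rw [e]
  infer_instance

/-- `Hᵐ(F(C)) ≅ F(Hᵐ(C))` if the terms and the cohomology below degree `m` are `F`-acyclic. -/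
theorem nonempty_iso (C : CochainComplex A ℕ) (hC : ∀ n q, IsZero ((F.rightDerived (q + 1)).obj (C.X n)))
    (m : ℕ) (hH : ∀ n < m, ∀ q, IsZero ((F.rightDerived (q + 1)).obj (C.homology n))) :
    Nonempty (((F.mapHomologicalComplex (ComplexShape.up ℕ)).obj C).homology m ≅ F.obj (C.homology m)) := by
  obtain ⟨Δ⟩ := Groth.Agent.Lib.RDer.Connecting.nonempty_derivedLES F
  have hQ : IsThick (fun M : B => IsZero M) := isThick_isZero
  let e₀ : C.cycles 0 ≅ C.homology 0 := C.isoHomologyπ₀
  have hB : ∀ n, (∀ q, IsZero ((F.rightDerived (q + 1)).obj (C.cycles n))) →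
      ∀ q, IsZero ((F.rightDerived (q + 1)).obj (cokernel (C.iCycles n))) := fun n h q => by
    obtain ⟨i⟩ := RAcyc.nonempty_shift_iso F (ses₁ C n) (hC n) q
    exact (h (q + 1)).of_iso i
  have hZ : ∀ n < m, ∀ q, IsZero ((F.rightDerived (q + 1)).obj (C.cycles n)) := by
    intro n
    induction n with
    | zero => exact fun h q => (hH 0 h q).of_iso ((F.rightDerived (q + 1)).mapIso e₀)
    | succ n ih =>
      intro h q
      exact (Δ.exact₂ _ (ses₂ C n) (q + 1)).isZero_of_both_zeros
        ((hB n (ih (by omega)) q).eq_of_src _ _) ((hH (n + 1) h q).eq_of_tgt _ _)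
  let z : F.rightDerived 0 ≅ F := F.rightDerivedZeroIsoSelf
  let K := (F.mapHomologicalComplex (ComplexShape.up ℕ)).obj C
  have wi : ∀ i : ℕ, F.map (C.iCycles i) ≫ F.map (C.d i (i + 1)) = 0 := fun i => by
    rw [← F.map_comp, HomologicalComplex.iCycles_d, F.map_zero]
  have hi : ∀ i : ℕ, IsLimit (KernelFork.ofι _ (wi i)) := fun i =>
    isLimitForkMapOfIsLimit' F (HomologicalComplex.iCycles_d _ _ _) (C.cyclesIsKernel i (i + 1) (by simp))
  cases m with
  | zero =>
    exact ⟨(((hi 0).conePointUniqueUpToIso (K.cyclesIsKernel 0 1 (by simp))) ≪≫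
      CochainComplex.isoHomologyπ₀ K).symm ≪≫ F.mapIso e₀⟩
  | succ n =>
    let p := F.map (cokernel.π (C.iCycles n))
    let g := F.map (nxt C n)
    let r := F.map (C.homologyπ (n + 1))
    haveI hp : Epi p := epi_map_g F (ses₁ C n) (hZ n (by omega) 0)
    haveI hr : Epi r := epi_map_g F (ses₂ C n) (hB n (hZ n (by omega)) 0)
    have w : (p ≫ g) ≫ r = 0 := by
      rw [Category.assoc, ← F.map_comp, nxt_homologyπ, F.map_zero, comp_zero]
    have wg : g ≫ r = 0 := by rw [← F.map_comp, nxt_homologyπ, F.map_zero]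
    have hex : (ShortComplex.mk g r wg).Exact :=
      (ses₂ C n).exact.map_of_mono_of_preservesKernel F (inferInstanceAs (Mono (nxt C n))) inferInstance
    let φ : ShortComplex.mk (p ≫ g) r w ⟶ ShortComplex.mk g r wg :=
      { τ₁ := p, τ₂ := 𝟙 _, τ₃ := 𝟙 _ }
    haveI : Epi φ.τ₁ := hp
    haveI : IsIso φ.τ₂ := inferInstanceAs (IsIso (𝟙 _))
    haveI : Mono φ.τ₃ := inferInstanceAs (Mono (𝟙 _))
    have he : (ShortComplex.mk (p ≫ g) r w).Exact :=
      (ShortComplex.exact_iff_of_epi_of_isIso_of_mono φ).2 hex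
    let sc := K.sc' n (n + 1) (n + 1 + 1)
    have hlift : (hi (n + 1)).lift (KernelFork.ofι sc.f sc.zero) = p ≫ g := by
      apply Fork.IsLimit.hom_ext (hi (n + 1))
      refine (Fork.IsLimit.lift_ι (hi (n + 1))).trans ?_
      change F.map (C.d n (n + 1)) =
        (F.map (cokernel.π (C.iCycles n)) ≫ F.map (nxt C n)) ≫ F.map (C.iCycles (n + 1))
      rw [← F.map_comp, ← F.map_comp, π_nxt, C.toCycles_i]
    let D : sc.LeftHomologyData :=
      { K := F.obj (C.cycles (n + 1))
        H := F.obj (C.homology (n + 1))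
        i := F.map (C.iCycles (n + 1))
        π := r
        wi := wi (n + 1)
        hi := hi (n + 1)
        wπ := by
          show (hi (n + 1)).lift (KernelFork.ofι sc.f sc.zero) ≫ _ = 0
          rw [hlift]
          exact w
        hπ := CokernelCofork.IsColimit.ofπ _ _
          (fun {A} k hk ↦ he.desc k ((congrArg (· ≫ k) hlift.symm).trans hk))
          (fun {A} k hk ↦ he.g_desc k _)
          (fun {A} k hk l hl ↦ (cancel_epi r).1 (hl.trans (he.g_desc k _).symm)) }
    exact ⟨K.homologyIsoSc' n (n + 1) (n + 1 + 1) (by simp) (by simp) ≪≫ D.homologyIso⟩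


end Groth.Agent.Lib.CohDelta.AcycHomology
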