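import Groth.Agent.Lib.CohDelta.HCmp
import Groth.Agent.Lib.CohDelta.QCohR
import Groth.Agent.Lib.ZarCoh.RpushVanish
import Groth.Prelude.Def_CohBC2

/-!
# The edge map to `g_* Rᵖ f_*` for affine `g`
-/

set_option linter.style.haveILetI false
set_option maxHeartbeats 1000000

universe u

open CategoryTheory CategoryTheory.Limits AlgebraicGeometry TopologicalSpace Opposite
open Groth.Agent.Lib.CohDelta.Basic Groth.Agent.Lib.CohDelta.Syzygy

namespace Groth.Agent.Lib.CohDelta.AffEdge

variable {X Y Z' : Scheme.{u}} (f : X ⟶ Y) (g : Y ⟶ Z') [QuasiCompact f] [QuasiSeparated f]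
  [IsAffineHom g] {M : X.Modules} (I : InjectiveResolution M) (p : ℕ)

/-- `f_* I^p → f_* Z^(p+1) → R`. -/
noncomputable def sc : ShortComplex Y.Modules :=
  ShortComplex.mk ((Scheme.Modules.pushforward f).map (t I p)) (cokernel.π _) (cokernel.condition _)

theorem exact_map [(Z I 0).IsQuasicoherent] :
    ((sc f I p).map (Scheme.Modules.pushforward g)).Exact ∧
      Epi ((Scheme.Modules.pushforward g).map (sc f I p).g) := by
  haveI : (abF Z').Faithful := ⟨fun h ↦ (SheafOfModules.toSheaf Z'.ringCatSheaf).map_injective h⟩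
  refine ⟨(ShortComplex.exact_map_iff_of_faithful _ (abF Z')).1
    (Groth.Agent.Lib.ZarCoh.RpushVanish.exact_of_local_lifts _ fun U z hz x hx ↦ ?_), ?_⟩
  · obtain ⟨W, hW, hxW, hWU⟩ := exists_isAffineOpen_mem_and_subset (U := U) hx
    let zW := (Z I (p + 1)).presheaf.map (homOfLE (f.preimage_mono (g.preimage_mono hWU))).op z
    have h0 : QCohR.proj f I p (g ⁻¹ᵁ W) zW = 0 := by
      refine ((cokernel.π ((Scheme.Modules.pushforward f).map (t I p))).mapPresheaf.naturality_apply
        (homOfLE (g.preimage_mono hWU)).op z).trans ?_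
      exact (congrArg _ hz).trans (map_zero _)
    obtain ⟨i, hi⟩ := (c_eq_zero_iff I _ p zW).1
      ((QCohR.e_bijective f I p (hW.preimage g)).1
        ((QCohR.e_c f I p _ zW).trans (h0.trans (map_zero _).symm)))
    exact ⟨W, hWU, i, hxW, hi⟩
  · apply (abF Z').epi_of_epi_map
    refine (TopCat.Sheaf.isLocallySurjective_iff_epi _).1
      ((TopCat.Presheaf.isLocallySurjective_iff _).2 fun U s x hx ↦ ?_)
    obtain ⟨W, hW, hxW, hWU⟩ := exists_isAffineOpen_mem_and_subset (U := U) hx
    obtain ⟨y, hy⟩ := (QCohR.e_bijective f I p (hW.preimage g)).2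
      ((R I f p).presheaf.map (homOfLE (g.preimage_mono hWU)).op s)
    obtain ⟨a, rfl⟩ := c_surjective I _ (p + 1) y
    exact ⟨W, hWU, ⟨a, (QCohR.e_c f I p _ a).symm.trans hy⟩, hxW⟩

theorem isIso_homologyComparison_succ [(Z I 0).IsQuasicoherent]
    [PreservesFiniteLimits (Scheme.Modules.pushforward f)]
    [PreservesFiniteLimits (Scheme.Modules.pushforward g)] :
    IsIso (RDer.homologyComparison (Scheme.Modules.pushforward g)
      (((Scheme.Modules.pushforward f).mapHomologicalComplex (ComplexShape.up ℕ)).obj I.cocomplex)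
      (p + 1)) := by
  let P := Scheme.Modules.pushforward f
  let K := (P.mapHomologicalComplex (ComplexShape.up ℕ)).obj I.cocomplex
  have wi : P.map (kernel.ι (I.cocomplex.d (p + 1) (p + 1 + 1))) ≫ K.d (p + 1) (p + 1 + 1) = 0 :=
    ((P.map_comp _ _).symm.trans (congrArg P.map (kernel.condition _))).trans (P.map_zero _ _)
  let hi : IsLimit (KernelFork.ofι _ wi) :=
    isLimitForkMapOfIsLimit' P (kernel.condition _)
      (kernelIsKernel (I.cocomplex.d (p + 1) (p + 1 + 1)))
  let e₂ : K.cycles (p + 1) ≅ P.obj (Z I (p + 1)) :=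
    IsLimit.conePointUniqueUpToIso (K.cyclesIsKernel (p + 1) (p + 1 + 1) (by simp)) hi
  have he₂ : e₂.hom ≫ P.map (kernel.ι (I.cocomplex.d (p + 1) (p + 1 + 1))) = K.iCycles (p + 1) :=
    IsLimit.conePointUniqueUpToIso_hom_comp (K.cyclesIsKernel (p + 1) (p + 1 + 1) (by simp)) hi
      WalkingParallelPair.zero
  have ht : K.toCycles p (p + 1) ≫ e₂.hom = P.map (t I p) := by
    apply Fork.IsLimit.hom_ext hi
    show (K.toCycles p (p + 1) ≫ e₂.hom) ≫ P.map (kernel.ι _) = P.map (t I p) ≫ P.map (kernel.ι _)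
    refine (Category.assoc _ _ _).trans ((congrArg (K.toCycles p (p + 1) ≫ ·) he₂).trans ?_)
    exact (K.toCycles_i p (p + 1)).trans ((congrArg P.map (t_ι I p)).symm.trans (P.map_comp _ _))
  let e₃ : K.homology (p + 1) ≅ R I f p :=
    IsColimit.coconePointUniqueUpToIso (K.homologyIsCokernel p (p + 1) (by simp))
        (colimit.isColimit _) ≪≫
      cokernel.mapIso (K.toCycles p (p + 1)) (P.map (t I p)) (Iso.refl _) e₂
        (ht.trans (Category.id_comp _).symm)
  have he₃ : K.homologyπ (p + 1) ≫ e₃.hom = e₂.hom ≫ cokernel.π (P.map (t I p)) := by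
    have h1 : K.homologyπ (p + 1) ≫ (IsColimit.coconePointUniqueUpToIso
        (K.homologyIsCokernel p (p + 1) (by simp)) (colimit.isColimit _)).hom =
        cokernel.π (K.toCycles p (p + 1)) :=
      IsColimit.comp_coconePointUniqueUpToIso_hom (K.homologyIsCokernel p (p + 1) (by simp))
        (colimit.isColimit _) WalkingParallelPair.one
    rw [show e₃.hom = _ ≫ _ from rfl, reassoc_of% h1]
    exact cokernel.π_desc _ _ _
  let j : ShortComplex.mk (K.toCycles p (p + 1)) (K.homologyπ (p + 1))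
      (K.toCycles_comp_homologyπ _ _) ≅ sc f I p :=
    ShortComplex.isoMk (Iso.refl _) e₂ e₃ ((Category.id_comp _).trans ht.symm) he₃.symm
  obtain ⟨hex, hepi⟩ := exact_map f g I p
  refine HCmp.isIso_homologyComparison _ K p (p + 1) (by simp)
    ((ShortComplex.exact_iff_of_iso ((Scheme.Modules.pushforward g).mapShortComplex.mapIso j)).2 hex)
    ?_
  rw [show (Scheme.Modules.pushforward g).map (K.homologyπ (p + 1)) =
    (Scheme.Modules.pushforward g).map e₂.hom ≫ (Scheme.Modules.pushforward g).map (sc f I p).g ≫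
      (Scheme.Modules.pushforward g).map e₃.inv by
    rw [← Functor.map_comp, ← Functor.map_comp, ← Category.assoc]
    exact congrArg _ ((Iso.eq_comp_inv e₃).2 he₃)]
  exact @epi_comp _ _ _ _ _ _ inferInstance _ (@epi_comp _ _ _ _ _ _ hepi _ inferInstance)

end Groth.Agent.Lib.CohDelta.AffEdge
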