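import Groth.Prelude.Def_RDer

/-!
# When the comparison of a left exact functor with homology is an isomorphism
-/

set_option autoImplicit false

universe v v' u u'

open CategoryTheory CategoryTheory.Limits

namespace Groth.Agent.Lib.CohDelta.HCmp

variable {B : Type u} [Category.{v} B] [Abelian B] {C : Type u'} [Category.{v'} C] [Abelian C]
  (Ψ : B ⥤ C) [Ψ.Additive] [PreservesFiniteLimits Ψ] {ι : Type*} {c : ComplexShape ι}
  (K : HomologicalComplex B c)

theorem isIso_cyclesComparison (i : ι) : IsIso (RDer.cyclesComparison Ψ K i) :=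
  inferInstanceAs (IsIso
    (IsLimit.conePointUniqueUpToIso (((Ψ.mapHomologicalComplex c).obj K).cyclesIsKernel i (c.next i) rfl)
      (KernelFork.mapIsLimit _ (K.cyclesIsKernel i (c.next i) rfl) Ψ)).hom)

theorem isIso_homologyComparison (i' i : ι) (h : c.prev i = i')
    (hex : ((ShortComplex.mk (K.toCycles i' i) (K.homologyπ i)
      (K.toCycles_comp_homologyπ i' i)).map Ψ).Exact)
    (hepi : Epi (Ψ.map (K.homologyπ i))) :
    IsIso (RDer.homologyComparison Ψ K i) := by
  subst h
  haveI := isIso_cyclesComparison Ψ K i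
  haveI : Epi ((ShortComplex.mk (K.toCycles (c.prev i) i) (K.homologyπ i)
      (K.toCycles_comp_homologyπ (c.prev i) i)).map Ψ).g := hepi
  let hc := hex.gIsCokernel
  have w : Ψ.map (K.toCycles (c.prev i) i) ≫
      inv (RDer.cyclesComparison Ψ K i) ≫ ((Ψ.mapHomologicalComplex c).obj K).homologyπ i = 0 := by
    refine (congrArg (· ≫ inv (RDer.cyclesComparison Ψ K i) ≫
      ((Ψ.mapHomologicalComplex c).obj K).homologyπ i)
        (RDer.toCycles_cyclesComparison Ψ K i)).symm.trans ?_
    refine (Category.assoc _ _ _).trans ?_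
    refine (congrArg (((Ψ.mapHomologicalComplex c).obj K).toCycles (c.prev i) i ≫ ·)
      (IsIso.hom_inv_id_assoc _ _)).trans ?_
    exact HomologicalComplex.toCycles_comp_homologyπ _ _ _
  obtain ⟨d, hd⟩ : ∃ d, Ψ.map (K.homologyπ i) ≫ d =
      inv (RDer.cyclesComparison Ψ K i) ≫ ((Ψ.mapHomologicalComplex c).obj K).homologyπ i :=
    ⟨hc.desc (CokernelCofork.ofπ _ w), hc.fac (CokernelCofork.ofπ _ w) WalkingParallelPair.one⟩
  refine ⟨d, ?_, ?_⟩
  · rw [← cancel_epi (((Ψ.mapHomologicalComplex c).obj K).homologyπ i),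
      RDer.homologyπ_homologyComparison_assoc, hd, IsIso.hom_inv_id_assoc, Category.comp_id]
  · rw [← cancel_epi (Ψ.map (K.homologyπ i)), reassoc_of% hd, RDer.homologyπ_homologyComparison,
      IsIso.inv_hom_id_assoc, Category.comp_id]

theorem isIso_homologyComparison_of_d_eq_zero (i : ι) (hd : K.d (c.prev i) i = 0) :
    IsIso (RDer.homologyComparison Ψ K i) := by
  haveI : IsIso (K.homologyπ i) := K.isIso_homologyπ (c.prev i) i rfl hd
  have ht : K.toCycles (c.prev i) i = 0 := by
    rw [← cancel_mono (K.iCycles i), K.toCycles_i, hd, zero_comp]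
  refine isIso_homologyComparison Ψ K (c.prev i) i rfl ?_ inferInstance
  refine (ShortComplex.exact_iff_mono _ ?_).2 ?_
  · show Ψ.map (K.toCycles (c.prev i) i) = 0
    rw [ht, Ψ.map_zero]
  · show Mono (Ψ.map (K.homologyπ i))
    infer_instance

end Groth.Agent.Lib.CohDelta.HCmp
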