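import Groth.Agent.Lib.ZarCoh.PushH
import Groth.Prelude.Def_CohPull

/-!
# `Hⁿ(Y, f_*F) = Hⁿ(X, F)` when the higher direct images vanish locally

Variant of `ZarCoh.Push` with local vanishing of classes instead of vanishing on a basis.
-/

set_option linter.style.haveILetI false

universe u

open CategoryTheory CategoryTheory.Limits TopologicalSpace Opposite CategoryTheory.Abelian
open Groth.Agent.Lib.ZarCoh.Basic Groth.Agent.Lib.ZarCoh.Compare Groth.Agent.Lib.ZarCoh.Push

namespace Groth.Agent.Lib.CohDelta.LPush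

variable {X Y : TopCat.{u}} (f : X ⟶ Y)

/-- Classes of `F` in degrees `1..n` on preimages die locally on the base. -/
def LVan (F : CohTop.Ab X) (n : ℕ) : Prop :=
  ∀ q, q < n → ∀ (U : Opens Y) (ξ : Ext.{u} (Zs.obj ((Opens.map f).obj U)) F (q + 1)) (y : Y),
    y ∈ U → ∃ (W : Opens Y) (h : W ≤ U), y ∈ W ∧
      rs F (q + 1) (leOfHom ((Opens.map f).map (homOfLE h))) ξ = 0

variable {f}

lemma LVan.X₃ {F : CohTop.Ab X} {n : ℕ} (h : LVan f F (n + 1)) : LVan f (injSES F).X₃ n := by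
  intro q hq U ξ y hy
  obtain ⟨W, hW, hyW, hz⟩ := h (q + 1) (by omega) U
    (ξ.comp (injSES_shortExact F).extClass rfl) y hy
  refine ⟨W, hW, hyW, ?_⟩
  obtain ⟨i, hi⟩ := Ext.covariant_sequence_exact₃ _ (injSES_shortExact F)
    (rs _ (q + 1) (leOfHom ((Opens.map f).map (homOfLE hW))) ξ) rfl
    ((rs_comp (q + 1) rfl _ ξ _).symm.trans hz)
  rw [← hi, show i = 0 from (HU_flasque (injSES F).X₂ _ q).elim _ _, Ext.zero_comp]

lemma epi_push_g {F : CohTop.Ab X} (h : LVan f F 1) :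
    Epi ((CohTop.push f).map (injSES F).g) := by
  refine (TopCat.Sheaf.isLocallySurjective_iff_epi _).1
    ((TopCat.Presheaf.isLocallySurjective_iff _).2 fun U s x hx ↦ ?_)
  let ξ : Ext.{u} (Zs.obj ((Opens.map f).obj U)) F 1 :=
    (Ext.mk₀ ((homEquiv ((Opens.map f).obj U) (injSES F).X₃).symm s)).comp
      (injSES_shortExact F).extClass (zero_add 1)
  obtain ⟨W, hWU, hxW, hz⟩ := h 0 zero_lt_one U ξ x hx
  refine ⟨W, hWU, ?_, hxW⟩
  have hz' : (rs (injSES F).X₃ 0 (leOfHom ((Opens.map f).map (homOfLE hWU)))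
      (Ext.mk₀ ((homEquiv ((Opens.map f).obj U) (injSES F).X₃).symm s))).comp
      (injSES_shortExact F).extClass (zero_add 1) = 0 :=
    (rs_comp 0 (zero_add 1) (leOfHom ((Opens.map f).map (homOfLE hWU))) _ _).symm.trans hz
  rw [rs_mk₀] at hz'
  obtain ⟨i, hi⟩ := Ext.covariant_sequence_exact₃ _ (injSES_shortExact F) _ (zero_add 1) hz'
  obtain ⟨i, rfl⟩ := (Ext.mk₀_bijective _ _).2 i
  rw [Ext.mk₀_comp_mk₀] at hi
  refine ⟨homEquiv ((Opens.map f).obj W) _ i, ?_⟩
  have := congrArg (homEquiv ((Opens.map f).obj W) (injSES F).X₃) ((Ext.mk₀_bijective _ _).1 hi)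
  rw [homEquiv_comp] at this
  refine this.trans ((homEquiv_res _ _).trans ?_)
  exact congrArg (fun a ↦ (injSES F).X₃.obj.map _ a)
    ((homEquiv ((Opens.map f).obj U) (injSES F).X₃).apply_symm_apply s)

lemma isIso_jmap {F : CohTop.Ab X} (h : LVan f F 1) : IsIso (jmap f F) := by
  haveI := mono_jmap f F
  haveI := epi_push_g h
  haveI : Epi (jmap f F) := epi_of_epi_fac (cokernel.π_desc _ _ _)
  exact isIso_of_mono_of_epi _

variable (V : Opens Y)

theorem bijective_and_injective (n : ℕ) : ∀ F : CohTop.Ab X, LVan f F n →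
    Function.Bijective (pushMap f V n F) ∧ Function.Injective (pushMap f V (n + 1) F) := by
  induction n with
  | zero =>
    intro F _
    refine ⟨pushMap_zero_bijective V F, injective_succ V 0 ?_ (pushMap_zero_bijective V _).1
      (pushMap_zero_bijective V _).2⟩
    intro a b hab
    haveI := mono_jmap f F
    obtain ⟨a, rfl⟩ := (Ext.mk₀_bijective _ _).2 a
    obtain ⟨b, rfl⟩ := (Ext.mk₀_bijective _ _).2 b
    simp only [Ext.mk₀_comp_mk₀] at hab
    rw [(cancel_mono _).1 ((Ext.mk₀_bijective _ _).1 hab)]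
  | succ n ih =>
    intro F hF
    haveI := isIso_jmap (F := F) (fun q hq ↦ hF q (by omega))
    have hj : ∀ m, Function.Injective fun y : Ext.{u} (Zs.obj V) (pushT f F).X₃ m ↦
        y.comp (Ext.mk₀ (jmap f F)) (add_zero m) := fun m a b hab ↦ by
      have := congrArg (fun t ↦ Ext.comp t (Ext.mk₀ (inv (jmap f F))) (add_zero m)) hab
      simpa using this
    have hQ := ih _ hF.X₃
    have hI : ∀ m, Function.Surjective (pushMap f V (m + 1) (injSES F).X₂) :=
      fun m ξ ↦ ⟨0, (HU_flasque (injSES F).X₂ _ m).elim _ _⟩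
    have hinj : Function.Injective (pushMap f V (n + 1) F) := by
      cases n with
      | zero => exact injective_succ V 0 (hj 0) hQ.1.1 (pushMap_zero_bijective V _).2
      | succ m => exact injective_succ V (m + 1) (hj _) hQ.1.1 (hI m)
    refine ⟨⟨hinj, fun ξ ↦ ?_⟩, injective_succ V (n + 1) (hj _) hQ.2 (hI n)⟩
    obtain ⟨y, rfl⟩ := Ext.covariant_sequence_exact₁ _ (injSES_shortExact F) ξ
      ((HU_flasque (injSES F).X₂ _ n).elim _ _) rfl
    obtain ⟨z, rfl⟩ := hQ.1.2 y
    refine ⟨(z.comp (Ext.mk₀ (inv (jmap f F))) (add_zero n)).comp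
      (pushT_shortExact f F).extClass rfl, ?_⟩
    rw [pushMap_δ, Ext.comp_assoc_of_second_deg_zero, Ext.mk₀_comp_mk₀, IsIso.inv_hom_id,
      Ext.comp_mk₀_id]

/-- `Hⁿ(Y, f_*F) → Hⁿ(X, F)` is bijective. -/
theorem pushH_bijective (F : CohTop.Ab X) (h : ∀ n, LVan f F n) (n : ℕ) :
    Function.Bijective (Groth.Agent.Lib.ZarCoh.PushH.pushH f F n) :=
  Groth.Agent.Lib.ZarCoh.PushH.pushH_bijective_of f F n (bijective_and_injective ⊤ n F (h n)).1

/-- The tautological maps on the whole space agree. -/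
theorem topIso_oneTo :
    topIso.hom ≫ CohPull.oneTo f =
      pullGen f ⊤ ≫ (CohTop.pull f).map (topIso (X := Y)).hom := by
  apply (homEquiv (⊤ : Opens X) _).injective
  rw [homEquiv_comp]
  refine Eq.trans (congrArg _ ((homEquiv (⊤ : Opens X) _).apply_symm_apply _)) ?_
  refine Eq.trans ((constEquiv_comp _ _).symm.trans (congrArg _ (Category.id_comp _))) ?_
  refine Eq.trans ?_ ((homEquiv_comp (pullGen f ⊤) _).symm)
  refine Eq.trans ?_ (congrArg _ ((homEquiv ((Opens.map f).obj ⊤) _).apply_symm_apply _)).symm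
  have h1 : constEquiv _ (CohPull.oneTo f) =
      ((ppAdj f).unit.app (CohTop.const Y (ULift.{u} ℤ))).hom.app (op ⊤)
        (constEquiv _ (𝟙 (CohTop.const Y (ULift.{u} ℤ)))) :=
    congrArg (fun k ↦ (AddCommGrpCat.uliftZMultiplesAddEquiv _) k)
      (((CohPull.adjZ X).homEquiv _ _).apply_symm_apply
        (CohPull.oneSec Y ≫ ((CohPull.invPushAdj f).unit.app
          (CohTop.const Y (ULift.{u} ℤ))).hom.app (op ⊤)))
  refine h1.trans ?_
  have h2 := congr_arg (fun t ↦ (t.hom.app (op ⊤)) (gen (⊤ : Opens Y)))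
    ((ppAdj f).unit.naturality (topIso (X := Y)).hom)
  refine Eq.trans (congrArg _ ?_) h2
  exact ((homEquiv_apply _).symm.trans ((homEquiv (⊤ : Opens Y) _).apply_symm_apply _)).symm

end Groth.Agent.Lib.CohDelta.LPush
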