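import Groth.Agent.Lib.CohDelta.SerreRel
import Groth.Agent.Lib.ZarCoh.Affine
import Groth.Agent.Lib.ZarCoh.Morph

/-!
# Limits of towers of quasi-coherent modules with surjective transition maps are affine-acyclic
-/

set_option linter.style.haveILetI false
set_option autoImplicit false

universe u

open CategoryTheory CategoryTheory.Limits AlgebraicGeometry TopologicalSpace Opposite
open Groth.Agent.Lib Groth.Agent.Lib.Cech.Complex Groth.Agent.Lib.Cech.Sections

namespace Groth.Agent.Lib.CohDelta.LimAff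

section Top

variable {X : TopCat.{u}} {F : CohTop.Ab X} (T : ℕ → CohTop.Ab X) (g : ∀ n, T (n + 1) ⟶ T n)
  (π : ∀ n, F ⟶ T n)

/-- The sections of `F` are the compatible families of sections of the tower. -/
structure IsTowerLimit : Prop where
  comp : ∀ (V : Opens X) (n : ℕ) (s : F.obj.obj (op V)),
    (g n).hom.app (op V) ((π (n + 1)).hom.app (op V) s) = (π n).hom.app (op V) s
  ext : ∀ (V : Opens X) (s t : F.obj.obj (op V)),
    (∀ n, (π n).hom.app (op V) s = (π n).hom.app (op V) t) → s = t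
  glue : ∀ (V : Opens X) (t : ∀ n, (T n).obj.obj (op V)),
    (∀ n, (g n).hom.app (op V) (t (n + 1)) = t n) → ∃ s, ∀ n, (π n).hom.app (op V) s = t n

variable {T g π} {ι : Type u} {U : ι → Opens X} {W : Opens X}

theorem map_comp' {P Q R : (Opens X)ᵒᵖ ⥤ AddCommGrpCat.{u}} (φ : P ⟶ Q) (ψ : Q ⟶ R) (q : ℕ)
    (c : Cochain U P q) : Cech.Complex.map (φ ≫ ψ) q c = Cech.Complex.map ψ q (Cech.Complex.map φ q c) := rfl

theorem exactSucc_limit (hT : IsTowerLimit T g π) (hW : iSup U = W)
    (hex : ∀ n q, ExactSucc U (T n).obj q)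
    (hi : ∀ n (q : ℕ) (i : Fin (q + 1) → ι), Function.Surjective ((g n).hom.app (op (inter U i))))
    (htop : ∀ n, Function.Surjective ((g n).hom.app (op W))) (q : ℕ) :
    ExactSucc U F.obj q := by
  intro c hc
  let cn : ∀ n, Cochain U (T n).obj (q + 1) := fun n => Cech.Complex.map (π n).hom (q + 1) c
  have hcn : ∀ n, dC U (T n).obj (q + 1) (cn n) = 0 := fun n => by
    show dC U _ _ (Cech.Complex.map (π n).hom (q + 1) c) = 0
    rw [← map_dC, hc, map_zero]
  have hcg : ∀ n, Cech.Complex.map (g n).hom (q + 1) (cn (n + 1)) = cn n := fun n =>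
    funext fun i => hT.comp _ n (c i)
  have hlift : ∀ n (p : ℕ) (e : Cochain U (T n).obj p),
      ∃ e', Cech.Complex.map (g n).hom p e' = e := fun n p e => by
    choose t ht using fun i => hi n p i (e i)
    exact ⟨t, funext ht⟩
  have fix : ∀ n (z : Cochain U (T n).obj q), dC U (T n).obj q z = 0 →
      ∃ z' : Cochain U (T (n + 1)).obj q,
        dC U (T (n + 1)).obj q z' = 0 ∧ Cech.Complex.map (g n).hom q z' = z := by
    intro n z hz
    cases q with
    | zero =>
      obtain ⟨s, hs⟩ := exists_aug_eq U (T n) hW z hz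
      obtain ⟨s', hs'⟩ := htop n s
      refine ⟨aug U (T (n + 1)).obj (fun i => (le_iSup U i).trans hW.le) s', dC_aug _ _ _ _, ?_⟩
      rw [← hs, ← hs']
      exact funext fun i => res_naturality (g n).hom _ s'
    | succ p =>
      obtain ⟨e, he⟩ := hex n p z hz
      obtain ⟨e', he'⟩ := hlift n p e
      refine ⟨dC U (T (n + 1)).obj p e', dC_dC _ _ _ _, ?_⟩
      rw [map_dC, he', he]
  have step : ∀ n (b : Cochain U (T n).obj q), dC U (T n).obj q b = cn n →
      ∃ b' : Cochain U (T (n + 1)).obj q,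
        dC U (T (n + 1)).obj q b' = cn (n + 1) ∧ Cech.Complex.map (g n).hom q b' = b := by
    intro n b hb
    obtain ⟨b₀, hb₀⟩ := hex (n + 1) q (cn (n + 1)) (hcn (n + 1))
    obtain ⟨z', hz', hz''⟩ := fix n (Cech.Complex.map (g n).hom q b₀ - b)
      (by rw [map_sub, ← map_dC, hb₀, hcg, hb, sub_self])
    refine ⟨b₀ - z', ?_, ?_⟩
    · rw [map_sub, hb₀, hz', sub_zero]
    · rw [map_sub, hz'', sub_sub_cancel]
  obtain ⟨b0, hb0⟩ := hex 0 q (cn 0) (hcn 0)
  choose next h₁ h₂ using step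
  let B : ∀ n, {b : Cochain U (T n).obj q // dC U (T n).obj q b = cn n} := fun n =>
    Nat.rec ⟨b0, hb0⟩ (fun k p => ⟨next k p.1 p.2, h₁ k p.1 p.2⟩) n
  choose b hb using fun i : Fin (q + 1) → ι => hT.glue (inter U i) (fun n => (B n).1 i)
    (fun n => congr_fun (h₂ n (B n).1 (B n).2) i)
  refine ⟨b, funext fun i => hT.ext _ _ _ fun n => ?_⟩
  have hbn : Cech.Complex.map (π n).hom q b = (B n).1 := funext fun j => hb j n
  have := congr_fun ((map_dC (π n).hom q b).trans ((congrArg _ hbn).trans (B n).2)) i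
  exact this

end Top

variable {X : Scheme.{u}}

/-- The transition maps of a tower. -/
abbrev tr (G : ℕᵒᵖ ⥤ X.Modules) (n : ℕ) : G.obj (op (n + 1)) ⟶ G.obj (op n) :=
  G.map (homOfLE (Nat.le_succ n)).op

theorem isTowerLimit (G : ℕᵒᵖ ⥤ X.Modules) :
    IsTowerLimit (fun n => Coh.toAb (G.obj (op n))) (fun n => Basic.abMap (tr G n))
      (F := Coh.toAb (limit G)) (fun n => Basic.abMap (limit.π G (op n))) := by
  let ev : X.Opens → X.Modules ⥤ Type u := fun V =>
    Scheme.Modules.toPresheaf X ⋙ (evaluation _ _).obj (op V) ⋙ forget AddCommGrpCat.{u}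
  haveI : PreservesLimitsOfSize.{u, u} (Scheme.Modules.toPresheaf X) := inferInstance
  haveI : PreservesLimitsOfSize.{0, 0} (Scheme.Modules.toPresheaf X) :=
    preservesLimitsOfSize_shrink.{0, u, 0, u} (Scheme.Modules.toPresheaf X)
  haveI : PreservesLimitsOfShape ℕᵒᵖ (forget AddCommGrpCat.{u}) :=
    haveI : PreservesLimitsOfSize.{0, 0} (forget AddCommGrpCat.{u}) :=
      preservesLimitsOfSize_shrink.{0, u, 0, u} _
    inferInstance
  haveI : ∀ V : X.Opens, PreservesLimitsOfShape ℕᵒᵖ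
      ((evaluation (TopologicalSpace.Opens X)ᵒᵖ Ab.{u}).obj (op V)) := fun V => inferInstance
  haveI : ∀ V, PreservesLimitsOfShape ℕᵒᵖ (ev V) := fun V => by dsimp only [ev]; infer_instance
  let hl : ∀ V, IsLimit ((ev V).mapCone (limit.cone G)) := fun V =>
    isLimitOfPreserves _ (limit.isLimit G)
  refine ⟨fun V n s => congr(($(limit.w G (homOfLE (Nat.le_succ n)).op)).app V s),
    fun V s t h => (Types.isLimitEquivSections (hl V)).injective
      (Subtype.ext (funext fun j => h j.unop)), fun V t ht => ?_⟩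
  have hT : ∀ {m n : ℕ} (h : m ≤ n), (G.map (homOfLE h).op).app V (t n) = t m := by
    intro m n h
    induction n, h using Nat.le_induction with
    | base =>
      rw [show (homOfLE (le_refl m)).op = 𝟙 (op m) from Subsingleton.elim _ _,
        CategoryTheory.Functor.map_id]
      rfl
    | succ n h ih =>
      rw [show (homOfLE (h.trans (Nat.le_succ n))).op =
        (homOfLE (Nat.le_succ n)).op ≫ (homOfLE h).op from Subsingleton.elim _ _, Functor.map_comp]
      exact (congrArg ((G.map (homOfLE h).op).app V) (ht n)).trans ih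
  let sec : (G ⋙ ev V).sections := ⟨fun j => t j.unop, fun {j k} φ => by
    rw [show φ = (homOfLE (leOfHom φ.unop)).op from Subsingleton.elim _ _]
    exact hT (leOfHom φ.unop)⟩
  exact ⟨(Types.isLimitEquivSections (hl V)).symm sec,
    fun n => Types.isLimitEquivSections_symm_apply (hl V) sec (op n)⟩

theorem tr_surjective (G : ℕᵒᵖ ⥤ X.Modules) (n : ℕ) (hq : ∀ k, (G.obj (op k)).IsQuasicoherent)
    [Epi (tr G n)] {V : X.Opens} (hV : IsAffineOpen V) :
    Function.Surjective ((tr G n).app V) := by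
  haveI := hq n
  haveI := hq (n + 1)
  let S : ShortComplex X.Modules := ShortComplex.mk _ (tr G n) (kernel.condition (tr G n))
  have hS : S.ShortExact :=
    { exact := ShortComplex.exact_of_f_is_kernel _ (kernelIsKernel _)
      mono_f := inferInstanceAs (Mono (kernel.ι (tr G n)))
      epi_g := inferInstanceAs (Epi (tr G n)) }
  haveI : S.X₁.IsQuasicoherent := QCoh.Closure.isQCoh_kernel (tr G n)
  exact SerreRel.app_surjective_of_h1 hS V (ZarCoh.Affine.HU_subsingleton S.X₁ hV 0)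

/-- `lim G` has no higher cohomology on affine opens. -/
theorem HU_subsingleton (G : ℕᵒᵖ ⥤ X.Modules) (hq : ∀ k, (G.obj (op k)).IsQuasicoherent)
    (hepi : ∀ n, Epi (tr G n)) {U : X.Opens} (hU : IsAffineOpen U) (m : ℕ) :
    Subsingleton (CohTop.HU (Coh.toAb (limit G)) (m + 1) U) := by
  let B : Set (Opens X) := {V | ∃ h : Γ(X, U), V = X.basicOpen h}
  let Cov : ∀ (W : Opens X) (ι : Type u), (ι → Opens X) → Prop := fun W ι V ↦
    (∀ i, V i ∈ B) ∧ ∃ (hW : IsAffineOpen W) (g : ι → Γ(X, W)), Finite ι ∧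
      Ideal.span (Set.range g) = ⊤ ∧ V = fun i ↦ X.basicOpen (g i)
  refine Cech.Criterion.subsingleton_HU_of_cech_vanishing B ?_ Cov ?_ ?_
    (Coh.toAb (limit G)) ?_ U ⟨1, (Scheme.basicOpen_of_isUnit X isUnit_one).symm⟩ m
  · rintro _ ⟨a, rfl⟩ _ ⟨b, rfl⟩; exact ⟨a * b, (Scheme.basicOpen_mul X a b).symm⟩
  · rintro W ι V ⟨hVB, hW, g, _, hg, rfl⟩
    refine ⟨?_, hVB⟩
    have := (hW.iSup_basicOpen_eq_self_iff (s := Set.range g)).2 hg
    rw [iSup_range'] at this
    exact this
  · rintro _ ⟨f, rfl⟩ V hV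
    have hW := hU.basicOpen f
    choose h hhV hxh using fun x : (X.basicOpen f : X.Opens) ↦
      hU.exists_basicOpen_le (V := V x ⊓ X.basicOpen f) ⟨x.1, hV x, x.2⟩ (X.basicOpen_le f x.2)
    obtain ⟨t, ht⟩ := hW.isCompact.elim_finite_subcover
      (fun x ↦ (X.basicOpen (h x) : Set X)) (fun x ↦ (X.basicOpen (h x)).isOpen)
      (fun x hx ↦ Set.mem_iUnion.2 ⟨⟨x, hx⟩, hxh ⟨x, hx⟩⟩)
    have hb : ∀ x, X.basicOpen (QCoh.Localizing.resR (X.basicOpen_le f) (h x)) = X.basicOpen (h x) :=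
      fun x ↦ (Scheme.basicOpen_res X (h x) (homOfLE (X.basicOpen_le f)).op).trans
        (inf_eq_right.2 ((hhV x).trans inf_le_right))
    let g : ULift.{u} t → Γ(X, X.basicOpen f) := fun i ↦
      QCoh.Localizing.resR (X.basicOpen_le f) (h i.down.1)
    refine ⟨ULift.{u} t, fun i ↦ X.basicOpen (g i), ⟨fun i ↦ ⟨h i.down.1, hb _⟩, hW, g,
      inferInstance, ?_, rfl⟩, fun i ↦ ⟨i.down.1, (hb _).le.trans ((hhV _).trans inf_le_left)⟩⟩
    refine (hW.iSup_basicOpen_eq_self_iff (s := Set.range g)).1 (le_antisymm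
      (iSup_le fun r ↦ X.basicOpen_le _) fun x hx ↦ ?_)
    obtain ⟨i, hi, hxi⟩ := Set.mem_iUnion₂.1 (ht hx)
    refine Opens.mem_iSup.2 ⟨⟨g ⟨⟨i, hi⟩⟩, ⟨_, rfl⟩⟩, ?_⟩
    rw [hb]
    exact hxi
  · rintro W ι V ⟨-, hW, g, hι, hg, rfl⟩ q
    haveI := hι
    have hWU : iSup (fun i ↦ X.basicOpen (g i)) = W := by
      have := (hW.iSup_basicOpen_eq_self_iff (s := Set.range g)).2 hg
      rw [iSup_range'] at this
      exact this
    refine exactSucc_limit (isTowerLimit G) hWU
      (fun n p => haveI := hq n; ZarCoh.Affine.exactSucc_standard (G.obj (op n)) hW g hg p)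
      (fun n p i => ?_) (fun n => haveI := hepi n; tr_surjective G n hq hW) q
    haveI := hepi n
    obtain ⟨h, e⟩ := ZarCoh.Affine.inter_affine hW g i
    have hV : IsAffineOpen (inter (fun a ↦ X.basicOpen (g a)) i : X.Opens) := by
      rw [e]; exact hW.basicOpen h
    exact tr_surjective G n hq hV

end Groth.Agent.Lib.CohDelta.LimAff
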