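import Groth.Agent.Lib.CohDelta.MVRes
import Groth.Agent.Lib.ZarCoh.Affine
import Groth.Agent.Lib.ZarCoh.Induction

/-!
# Cohomology of quasi-coherent modules on `U ⊓ D(g)` is a localization

For a global function `g`, a quasi-coherent `M` and a quasi-compact open `U` of a quasi-separated
scheme, restriction `Hᵖ(U, M) → Hᵖ(U ⊓ D(g), M)` is the localization at `g` (elementwise form).
-/

set_option linter.style.haveILetI false

universe u

open CategoryTheory CategoryTheory.Limits AlgebraicGeometry TopologicalSpace Opposite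
open CategoryTheory.Abelian
open Groth.Agent.Lib.ZarCoh.Basic

namespace Groth.Agent.Lib.CohDelta.Loc

set_option maxHeartbeats 1000000

variable {X : Scheme.{u}} (M : X.Modules)

/-- Multiplication by a global function on classes. -/
noncomputable def mulA (r : Coh.Γtop X) (U : X.Opens) (p : ℕ) :
    Ext.{u} (Zs.obj U) (Coh.toAb M) p →+ Ext.{u} (Zs.obj U) (Coh.toAb M) p :=
  (Ext.mk₀ (Coh.smulAb M r)).postcomp (Zs.obj U) (add_zero p)

theorem mulA_apply (r : Coh.Γtop X) {U : X.Opens} {p : ℕ}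
    (x : Ext.{u} (Zs.obj U) (Coh.toAb M) p) :
    mulA M r U p x = x.comp (Ext.mk₀ (Coh.smulAb M r)) (add_zero p) := rfl

theorem mulA_one {U : X.Opens} {p : ℕ} (x : Ext.{u} (Zs.obj U) (Coh.toAb M) p) :
    mulA M 1 U p x = x := by
  rw [mulA_apply, Coh.smulAb_one, Ext.comp_mk₀_id]

theorem mulA_mul (r s : Coh.Γtop X) {U : X.Opens} {p : ℕ}
    (x : Ext.{u} (Zs.obj U) (Coh.toAb M) p) :
    mulA M r U p (mulA M s U p x) = mulA M (r * s) U p x := by
  rw [mulA_apply, mulA_apply, mulA_apply, Coh.smulAb_mul,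
    Ext.comp_assoc_of_second_deg_zero, Ext.mk₀_comp_mk₀]

theorem mulA_pow (g : Coh.Γtop X) (a b : ℕ) {U : X.Opens} {p : ℕ}
    (x : Ext.{u} (Zs.obj U) (Coh.toAb M) p) :
    mulA M (g ^ a) U p (mulA M (g ^ b) U p x) = mulA M (g ^ (a + b)) U p x := by
  rw [mulA_mul, ← pow_add]

theorem mulA_add (r s : Coh.Γtop X) {U : X.Opens} {p : ℕ}
    (x : Ext.{u} (Zs.obj U) (Coh.toAb M) p) :
    mulA M (r + s) U p x = mulA M r U p x + mulA M s U p x := by
  rw [mulA_apply, mulA_apply, mulA_apply, Coh.smulAb_add, Ext.mk₀_add, Ext.comp_add]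

theorem mulA_zero {U : X.Opens} {p : ℕ} (x : Ext.{u} (Zs.obj U) (Coh.toAb M) p) :
    mulA M 0 U p x = 0 := by
  rw [mulA_apply, Coh.smulAb_zero, Ext.mk₀_zero, Ext.comp_zero]

theorem mulA_rs (r : Coh.Γtop X) {U V : X.Opens} (h : V ≤ U) {p : ℕ}
    (x : Ext.{u} (Zs.obj U) (Coh.toAb M) p) :
    mulA M r V p (rs _ p h x) = rs _ p h (mulA M r U p x) :=
  (rs_comp p (add_zero p) h x (Ext.mk₀ (Coh.smulAb M r))).symm

theorem mulA_δ (r : Coh.Γtop X) (U V : X.Opens) (p : ℕ)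
    (w : Ext.{u} (Zs.obj (U ⊓ V)) (Coh.toAb M) p) :
    (Groth.Agent.Lib.Cech.MV.δ (Coh.toAb M) U V p (p + 1) rfl (mulA M r (U ⊓ V) p w) :
        Ext.{u} (Zs.obj (U ⊔ V)) (Coh.toAb M) (p + 1)) =
      mulA M r (U ⊔ V) (p + 1) (Groth.Agent.Lib.Cech.MV.δ (Coh.toAb M) U V p (p + 1) rfl w) :=
  MVRes.δ_comp U V p w _

theorem mulA_pow_le {g : Coh.Γtop X} {n m : ℕ} (h : n ≤ m) {U : X.Opens} {p : ℕ}
    {x : Ext.{u} (Zs.obj U) (Coh.toAb M) p} (hx : mulA M (g ^ n) U p x = 0) :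
    mulA M (g ^ m) U p x = 0 := by
  obtain ⟨k, rfl⟩ := Nat.exists_eq_add_of_le h
  rw [add_comm, ← mulA_pow, hx, map_zero]

/-- A class killed on `W` is killed by a power. -/
def Sep (g : Coh.Γtop X) (U W : X.Opens) (p : ℕ) : Prop :=
  ∀ (h : W ≤ U) (x : Ext.{u} (Zs.obj U) (Coh.toAb M) p), rs _ p h x = 0 →
    ∃ n : ℕ, mulA M (g ^ n) U p x = 0

/-- A class on `W` times a power extends. -/
def Extn (g : Coh.Γtop X) (U W : X.Opens) (p : ℕ) : Prop :=
  ∀ (h : W ≤ U) (y : Ext.{u} (Zs.obj W) (Coh.toAb M) p),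
    ∃ (n : ℕ) (x : Ext.{u} (Zs.obj U) (Coh.toAb M) p), rs _ p h x = mulA M (g ^ n) W p y

theorem rs_rs {U V W : X.Opens} (h : V ≤ U) (h' : W ≤ V) {p : ℕ}
    (x : Ext.{u} (Zs.obj U) (Coh.toAb M) p) :
    rs (Coh.toAb M) p h' (rs _ p h x) = rs _ p (h'.trans h) x := by
  rw [rs_apply, rs_apply, rs_apply, Ext.mk₀_comp_mk₀_assoc, ← Functor.map_comp]
  rfl

theorem rs_eq_self {U : X.Opens} (h : U ≤ U) {p : ℕ} (x : Ext.{u} (Zs.obj U) (Coh.toAb M) p) :
    rs (Coh.toAb M) p h x = x := by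
  rw [rs_apply, Subsingleton.elim (homOfLE h) (𝟙 U), CategoryTheory.Functor.map_id,
    Ext.mk₀_id_comp]

/-- The locus where a global function is invertible. -/
noncomputable def gOpen {X : Scheme.{u}} (g : Coh.Γtop X) : X.Opens :=
  X.basicOpen (show Γ(X, ⊤) from g)

variable [M.IsQuasicoherent]

open Groth.Agent.Lib.QCoh.Localizing in
theorem affine_zero (g : Coh.Γtop X) {U W : X.Opens} (hU : IsAffineOpen U)
    (hW : W = U ⊓ gOpen g) :
    Sep M g U W 0 ∧ Extn M g U W 0 := by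
  have hW' : W = X.basicOpen (resR (le_top : U ≤ ⊤) g) :=
    hW.trans (Scheme.basicOpen_res X g (homOfLE le_top).op).symm
  have hs : ∀ (V : X.Opens) (n : ℕ) (φ : Zs.obj V ⟶ Coh.toAb M),
      homEquiv V (Coh.toAb M) (φ ≫ Coh.smulAb M (g ^ n)) =
        resR (le_top : V ≤ ⊤) g ^ n • (show Γ(M, V) from homEquiv V (Coh.toAb M) φ) := by
    intro V n φ
    rw [homEquiv_comp]
    refine (Coh.smulAb_app M (g ^ n) (op V) _).trans ?_
    exact congrArg (fun r : Γ(X, V) ↦ r • (show Γ(M, V) from homEquiv V (Coh.toAb M) φ))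
      (map_pow (resR (le_top : V ≤ ⊤)) (show Γ(X, ⊤) from g) n)
  have hL := localizes_of_isAffineOpen M hU (resR (le_top : U ≤ ⊤) g)
  constructor
  · intro h x hx
    obtain ⟨φ, rfl⟩ := (Ext.mk₀_bijective _ _).2 x
    rw [rs_mk₀, Ext.mk₀_eq_zero_iff] at hx
    have h0 : res M h (homEquiv U (Coh.toAb M) φ) = 0 := by
      refine (homEquiv_res (homOfLE h) φ).symm.trans ?_
      rw [hx, homEquiv_apply]
      rfl
    obtain ⟨n, hn⟩ := hL.sep.exists_of_eq hW' h _ h0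
    refine ⟨n, ?_⟩
    rw [mulA_apply, Ext.mk₀_comp_mk₀, Ext.mk₀_eq_zero_iff]
    apply (homEquiv U (Coh.toAb M)).injective
    rw [hs U n φ]
    refine hn.trans ?_
    rw [homEquiv_apply]
    rfl
  · intro h y
    obtain ⟨φ, rfl⟩ := (Ext.mk₀_bijective _ _).2 y
    obtain ⟨n, t, ht⟩ := hL.ext'.exists_of_eq hW' h (homEquiv W (Coh.toAb M) φ)
    refine ⟨n, Ext.mk₀ ((homEquiv U (Coh.toAb M)).symm t), ?_⟩
    rw [rs_mk₀, mulA_apply, Ext.mk₀_comp_mk₀]
    congr 1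
    apply (homEquiv W (Coh.toAb M)).injective
    rw [homEquiv_res, hs W n φ]
    refine (congrArg (fun a ↦ (Coh.toAb M).obj.map (homOfLE h).op a)
      ((homEquiv U (Coh.toAb M)).apply_symm_apply t)).trans (ht.trans ?_)
    exact congrArg (fun r : Γ(X, W) ↦ r ^ n • (show Γ(M, W) from homEquiv W (Coh.toAb M) φ))
      (resR_resR (le_top : U ≤ ⊤) h (show Γ(X, ⊤) from g))

theorem affine_succ (g : Coh.Γtop X) {U W : X.Opens} (hU : IsAffineOpen U)
    (hW : W = U ⊓ gOpen g) (q : ℕ) :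
    Sep M g U W (q + 1) ∧ Extn M g U W (q + 1) := by
  haveI : Subsingleton (Ext.{u} (Zs.obj U) (Coh.toAb M) (q + 1)) :=
    Groth.Agent.Lib.ZarCoh.Affine.HU_subsingleton M hU q
  have hWa : IsAffineOpen W := by
    rw [hW]
    exact (Scheme.basicOpen_res X g (homOfLE (le_top : U ≤ ⊤)).op) ▸ hU.basicOpen _
  haveI : Subsingleton (Ext.{u} (Zs.obj W) (Coh.toAb M) (q + 1)) :=
    Groth.Agent.Lib.ZarCoh.Affine.HU_subsingleton M hWa q
  exact ⟨fun _ x _ ↦ ⟨0, Subsingleton.elim _ _⟩, fun _ y ↦ ⟨0, 0, Subsingleton.elim _ _⟩⟩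

set_option maxHeartbeats 4000000 in
omit [M.IsQuasicoherent] in
theorem sup_step (g : Coh.Γtop X) (D U V : X.Opens)
    (hU : ∀ W, W = U ⊓ D → ∀ p, Sep M g U W p ∧ Extn M g U W p)
    (hV : ∀ W, W = V ⊓ D → ∀ p, Sep M g V W p ∧ Extn M g V W p)
    (hI : ∀ W, W = (U ⊓ V) ⊓ D → ∀ p, Sep M g (U ⊓ V) W p ∧ Extn M g (U ⊓ V) W p) (p : ℕ) :
    Sep M g (U ⊔ V) ((U ⊔ V) ⊓ D) p ∧ Extn M g (U ⊔ V) ((U ⊔ V) ⊓ D) p := by
  have hZ : (U ⊔ V) ⊓ D = (U ⊓ D) ⊔ (V ⊓ D) := inf_sup_right _ _ _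
  have hU2 : U ⊓ D ≤ U := inf_le_left
  have hV2 : V ⊓ D ≤ V := inf_le_left
  have hI2 : (U ⊓ D) ⊓ (V ⊓ D) = (U ⊓ V) ⊓ D := (inf_inf_distrib_right U V D).symm
  have hIle : (U ⊓ D) ⊓ (V ⊓ D) ≤ U ⊓ V := inf_le_inf hU2 hV2
  have hUZ : U ⊓ D ≤ (U ⊔ V) ⊓ D := inf_le_inf_right _ le_sup_left
  have hVZ : V ⊓ D ≤ (U ⊔ V) ⊓ D := inf_le_inf_right _ le_sup_right
  constructor
  · intro h x hx
    obtain ⟨n₁, h₁⟩ := (hU _ rfl p).1 hU2 (rs _ p le_sup_left x) (by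
      rw [rs_rs, ← rs_rs M h hUZ, hx, map_zero])
    obtain ⟨n₂, h₂⟩ := (hV _ rfl p).1 hV2 (rs _ p le_sup_right x) (by
      rw [rs_rs, ← rs_rs M h hVZ, hx, map_zero])
    have hx' : rs _ p h (mulA M (g ^ (n₁ + n₂)) _ p x) = 0 := by
      rw [← mulA_rs, hx, map_zero]
    have h1' : rs _ p le_sup_left (mulA M (g ^ (n₁ + n₂)) _ p x) = 0 := by
      rw [← mulA_rs]
      exact mulA_pow_le M (Nat.le_add_right _ _) h₁
    have h2' : rs _ p le_sup_right (mulA M (g ^ (n₁ + n₂)) _ p x) = 0 := by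
      rw [← mulA_rs]
      exact mulA_pow_le M (Nat.le_add_left _ _) h₂
    cases p with
    | zero =>
      exact ⟨n₁ + n₂, MVRes.eq_zero_of_res_eq_zero le_rfl le_sup_left le_sup_right _ h1' h2'⟩
    | succ q =>
      obtain ⟨w', hw⟩ := Groth.Agent.Lib.Cech.MV.exists_δ_eq (Coh.toAb M) U V q
        (mulA M (g ^ (n₁ + n₂)) _ (q + 1) x) h1' h2'
      let w : Ext.{u} (Zs.obj (U ⊓ V)) (Coh.toAb M) q := w'
      have hwd : Groth.Agent.Lib.Cech.MV.δ (Coh.toAb M) (U ⊓ D) (V ⊓ D) q (q + 1) rfl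
          (rs _ q hIle w) = 0 := by
        have e := MVRes.δ_res hU2 hV2 hZ h q w
        have e2 : rs (Coh.toAb M) (q + 1) hZ.le (Groth.Agent.Lib.Cech.MV.δ (Coh.toAb M) (U ⊓ D)
            (V ⊓ D) q (q + 1) rfl (rs _ q hIle w)) = 0 :=
          e.symm.trans ((congrArg (rs _ (q + 1) h) hw).trans hx')
        have e3 := congrArg (rs (Coh.toAb M) (q + 1) hZ.ge) e2
        rw [map_zero] at e3
        exact (rs_eq_self M le_rfl _).symm.trans ((rs_rs M hZ.le hZ.ge _).symm.trans e3)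
      obtain ⟨u2', v2', huv⟩ := Groth.Agent.Lib.Cech.MV.exists_sub_eq (Coh.toAb M) _ _ q _ hwd
      let u2 : Ext.{u} (Zs.obj (U ⊓ D)) (Coh.toAb M) q := u2'
      let v2 : Ext.{u} (Zs.obj (V ⊓ D)) (Coh.toAb M) q := v2'
      obtain ⟨a, xu, hxu⟩ := (hU _ rfl q).2 hU2 u2
      obtain ⟨b, xv, hxv⟩ := (hV _ rfl q).2 hV2 v2
      let d : Ext.{u} (Zs.obj (U ⊓ V)) (Coh.toAb M) q :=
        rs _ q inf_le_left (mulA M (g ^ b) U q xu) - rs _ q inf_le_right (mulA M (g ^ a) V q xv)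
      have hd : rs (Coh.toAb M) q hIle (mulA M (g ^ (a + b)) _ q w - d) = 0 := by
        have e1 : rs (Coh.toAb M) q hIle (rs _ q inf_le_left (mulA M (g ^ b) U q xu)) =
            rs _ q inf_le_left (mulA M (g ^ (a + b)) _ q u2) := by
          rw [rs_rs, ← rs_rs M hU2 (inf_le_left : (U ⊓ D) ⊓ (V ⊓ D) ≤ U ⊓ D), ← mulA_rs, hxu,
            mulA_pow, add_comm b a]
        have e2 : rs (Coh.toAb M) q hIle (rs _ q inf_le_right (mulA M (g ^ a) V q xv)) =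
            rs _ q inf_le_right (mulA M (g ^ (a + b)) _ q v2) := by
          rw [rs_rs, ← rs_rs M hV2 (inf_le_right : (U ⊓ D) ⊓ (V ⊓ D) ≤ V ⊓ D), ← mulA_rs, hxv,
            mulA_pow]
        have huv' : rs (Coh.toAb M) q inf_le_left u2 - rs (Coh.toAb M) q inf_le_right v2 =
            rs (Coh.toAb M) q hIle w := huv
        simp only [d]
        rw [map_sub, map_sub, e1, e2, ← mulA_rs, ← mulA_rs, ← mulA_rs, ← map_sub, ← map_sub, huv',
          sub_self, map_zero]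
      obtain ⟨m, hm⟩ := (hI _ hI2 q).1 hIle _ hd
      refine ⟨m + (a + b) + (n₁ + n₂), ?_⟩
      rw [map_sub, sub_eq_zero, mulA_pow] at hm
      rw [← mulA_pow, ← hw]
      have hds : (Groth.Agent.Lib.Cech.MV.δ (Coh.toAb M) U V q (q + 1) rfl d :
          Ext.{u} (Zs.obj (U ⊔ V)) (Coh.toAb M) (q + 1)) = 0 :=
        Groth.Agent.Lib.Cech.MV.δ_sub (Coh.toAb M) U V q (mulA M (g ^ b) U q xu)
          (mulA M (g ^ a) V q xv)
      refine (mulA_δ M _ U V q w).symm.trans ?_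
      refine (congrArg (Groth.Agent.Lib.Cech.MV.δ (Coh.toAb M) U V q (q + 1) rfl) hm).trans ?_
      refine (mulA_δ M _ U V q d).trans ?_
      exact (congrArg (mulA M (g ^ m) (U ⊔ V) (q + 1)) hds).trans (map_zero _)
  · intro h y
    obtain ⟨n₁, xu, hxu⟩ := (hU _ rfl p).2 hU2 (rs _ p hUZ y)
    obtain ⟨n₂, xv, hxv⟩ := (hV _ rfl p).2 hV2 (rs _ p hVZ y)
    let xu' := mulA M (g ^ n₂) U p xu
    let xv' := mulA M (g ^ n₁) V p xv
    have hu' : rs (Coh.toAb M) p hU2 xu' = mulA M (g ^ (n₁ + n₂)) _ p (rs _ p hUZ y) := by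
      rw [← mulA_rs, hxu, mulA_pow, add_comm n₂]
    have hv' : rs (Coh.toAb M) p hV2 xv' = mulA M (g ^ (n₁ + n₂)) _ p (rs _ p hVZ y) := by
      rw [← mulA_rs, hxv, mulA_pow]
    obtain ⟨m, hm⟩ := (hI _ hI2 p).1 hIle (rs _ p inf_le_left xu' - rs _ p inf_le_right xv') (by
      rw [map_sub, rs_rs, rs_rs, ← rs_rs M hU2 (inf_le_left : (U ⊓ D) ⊓ (V ⊓ D) ≤ U ⊓ D),
        ← rs_rs M hV2 (inf_le_right : (U ⊓ D) ⊓ (V ⊓ D) ≤ V ⊓ D), hu', hv', ← mulA_rs, ← mulA_rs,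
        rs_rs, rs_rs, sub_self])
    rw [map_sub, sub_eq_zero, mulA_rs, mulA_rs] at hm
    obtain ⟨z', hz1', hz2'⟩ := Groth.Agent.Lib.Cech.MV.exists_res_eq (Coh.toAb M) U V p
      (mulA M (g ^ m) U p xu') (mulA M (g ^ m) V p xv') hm
    let z : Ext.{u} (Zs.obj (U ⊔ V)) (Coh.toAb M) p := z'
    have hz1 : rs (Coh.toAb M) p le_sup_left z = mulA M (g ^ m) U p xu' := hz1'
    have hz2 : rs (Coh.toAb M) p le_sup_right z = mulA M (g ^ m) V p xv' := hz2'
    let N := m + (n₁ + n₂)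
    let e := rs (Coh.toAb M) p h z - mulA M (g ^ N) _ p y
    have he1 : rs (Coh.toAb M) p hUZ e = 0 := by
      simp only [e, map_sub, rs_rs, ← mulA_rs]
      rw [← rs_rs M (le_sup_left : U ≤ U ⊔ V) hU2]
      rw [hz1]
      rw [← mulA_rs, hu', mulA_pow, sub_self]
    have he2 : rs (Coh.toAb M) p hVZ e = 0 := by
      simp only [e, map_sub, rs_rs, ← mulA_rs]
      rw [← rs_rs M (le_sup_right : V ≤ U ⊔ V) hV2]
      rw [hz2]
      rw [← mulA_rs, hv', mulA_pow, sub_self]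
    cases p with
    | zero =>
      exact ⟨N, z, sub_eq_zero.1
        (MVRes.eq_zero_of_res_eq_zero hZ.le hUZ hVZ e he1 he2)⟩
    | succ q =>
      obtain ⟨w2', hw2⟩ := Groth.Agent.Lib.Cech.MV.exists_δ_eq (Coh.toAb M) (U ⊓ D) (V ⊓ D) q
        (rs (Coh.toAb M) (q + 1) hZ.ge e)
        ((rs_rs M hZ.ge le_sup_left e).trans he1) ((rs_rs M hZ.ge le_sup_right e).trans he2)
      let w2 : Ext.{u} (Zs.obj ((U ⊓ D) ⊓ (V ⊓ D))) (Coh.toAb M) q := w2'
      obtain ⟨k, w, hw⟩ := (hI _ hI2 q).2 hIle w2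
      let dw : Ext.{u} (Zs.obj (U ⊔ V)) (Coh.toAb M) (q + 1) :=
        Groth.Agent.Lib.Cech.MV.δ (Coh.toAb M) U V q (q + 1) rfl w
      refine ⟨k + N, mulA M (g ^ k) _ (q + 1) z - dw, ?_⟩
      have e4 : rs (Coh.toAb M) (q + 1) h dw = mulA M (g ^ k) _ (q + 1) e := by
        refine (MVRes.δ_res hU2 hV2 hZ h q w).trans ?_
        refine (congrArg (rs (Coh.toAb M) (q + 1) hZ.le) ((congrArg
          (Groth.Agent.Lib.Cech.MV.δ (Coh.toAb M) (U ⊓ D) (V ⊓ D) q (q + 1) rfl) hw).trans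
            ((mulA_δ M (g ^ k) (U ⊓ D) (V ⊓ D) q w2).trans
              (congrArg (mulA M (g ^ k) _ (q + 1)) hw2)))).trans ?_
        refine (mulA_rs M _ hZ.le _).symm.trans (congrArg (mulA M (g ^ k) _ (q + 1)) ?_)
        exact (rs_rs M hZ.ge hZ.le e).trans (rs_eq_self M _ e)
      rw [map_sub, e4, ← mulA_rs, ← map_sub, sub_sub_cancel, mulA_pow]

/-- The localization property on quasi-compact opens. -/
theorem localization {T : X.Opens} (hT : IsQuasiSeparated (T : Set X)) (g : Coh.Γtop X)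
    {U : X.Opens} (hUT : U ≤ T) (hU : IsCompact (U : Set X)) (p : ℕ) :
    Sep M g U (U ⊓ gOpen g) p ∧
      Extn M g U (U ⊓ gOpen g) p := by
  have := Groth.Agent.Lib.ZarCoh.Induction.induction T hT
    (fun U ↦ ∀ W, W = U ⊓ gOpen g → ∀ p, Sep M g U W p ∧ Extn M g U W p)
    (fun U _ hU W hW p ↦ by
      cases p with
      | zero => exact affine_zero M g hU hW
      | succ q => exact affine_succ M g hU hW q)
    (fun U V _ _ _ _ hU hV hI W hW p ↦ by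
      subst hW
      exact sup_step M g _ U V hU hV hI p) U hUT hU
  exact this _ rfl p

end Groth.Agent.Lib.CohDelta.Loc

namespace Groth.Agent.Lib.CohDelta.Loc

open Groth.Agent.Lib.ZarCoh.Compare

variable {X : Scheme.{u}} (M : X.Modules)

theorem comp_mk₀_bijective {C : Type (u + 1)} [Category.{u} C] [Abelian C] [HasExt.{u} C]
    {P A B : C} (f : A ⟶ B) [IsIso f] (n : ℕ) :
    Function.Bijective fun y : Ext.{u} P A n ↦ y.comp (Ext.mk₀ f) (add_zero n) :=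
  Function.bijective_iff_has_inverse.2 ⟨fun y ↦ y.comp (Ext.mk₀ (inv f)) (add_zero n),
    fun y ↦ by simp [Ext.comp_assoc_of_second_deg_zero, Ext.mk₀_comp_mk₀],
    fun y ↦ by simp [Ext.comp_assoc_of_second_deg_zero, Ext.mk₀_comp_mk₀]⟩

/-- A function invertible on `W` acts bijectively on the cohomology over `W`. -/
theorem mulA_bijective (g : Coh.Γtop X) {W : X.Opens} (hW : W ≤ gOpen g) (p : ℕ) :
    Function.Bijective (mulA M g W p) := by
  suffices ∀ V : X.Opens, V = W.ι ''ᵁ ⊤ → V ≤ gOpen g → Function.Bijective (mulA M g V p) from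
    this W W.ι_image_top.symm hW
  rintro V rfl hV
  let e := restrEquiv (X := (W : Scheme.{u}).toPresheafedSpace.carrier) W.ι.isOpenEmbedding ⊤ p
    (Coh.toAb M)
  let φ := (rst (X := (W : Scheme.{u}).toPresheafedSpace.carrier) W.ι.isOpenEmbedding).map
    (Coh.smulAb M g)
  have hmem : ∀ O : Opens (W : Scheme.{u}).toPresheafedSpace.carrier,
      (W.ι ''ᵁ O : X.Opens) ≤ gOpen g := fun O ↦ (W.ι.image_mono le_top).trans hV
  haveI : IsIso φ := by
    have happ : ∀ O, IsIso (φ.hom.app O) := fun O ↦ by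
      rw [ConcreteCategory.isIso_iff_bijective]
      have hu : IsUnit (Groth.Agent.Lib.QCoh.Localizing.resR
          (le_top : W.ι ''ᵁ O.unop ≤ ⊤) (show Γ(X, ⊤) from g)) := by
        rw [← Groth.Agent.Lib.QCoh.Localizing.resR_resR (X.basicOpen_le (show Γ(X, ⊤) from g))
          (hmem O.unop)]
        exact (X.toRingedSpace.isUnit_res_basicOpen (show Γ(X, ⊤) from g)).map _
      obtain ⟨c, hc⟩ := hu
      constructor
      · intro a b hab
        have h' : (c : Γ(X, W.ι ''ᵁ O.unop)) • (show Γ(M, W.ι ''ᵁ O.unop) from a) =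
            (c : Γ(X, W.ι ''ᵁ O.unop)) • (show Γ(M, W.ι ''ᵁ O.unop) from b) := by
          rw [hc]
          exact hab
        have := congrArg ((↑c⁻¹ : Γ(X, W.ι ''ᵁ O.unop)) • ·) h'
        refine (one_smul Γ(X, W.ι ''ᵁ O.unop) (show Γ(M, W.ι ''ᵁ O.unop) from a)).symm.trans
          ((?_ : _ = _).trans (one_smul Γ(X, W.ι ''ᵁ O.unop) (show Γ(M, W.ι ''ᵁ O.unop) from b)))
        rw [← c.inv_mul, mul_smul, mul_smul]
        exact this
      · intro b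
        refine ⟨(↑c⁻¹ : Γ(X, W.ι ''ᵁ O.unop)) • (show Γ(M, W.ι ''ᵁ O.unop) from b), ?_⟩
        show Groth.Agent.Lib.QCoh.Localizing.resR (le_top : W.ι ''ᵁ O.unop ≤ ⊤)
          (show Γ(X, ⊤) from g) • ((↑c⁻¹ : Γ(X, W.ι ''ᵁ O.unop)) •
            (show Γ(M, W.ι ''ᵁ O.unop) from b)) = _
        rw [← hc, smul_smul, Units.mul_inv, one_smul]
    haveI : IsIso ((sheafToPresheaf _ _).map φ) := by
      rw [NatTrans.isIso_iff_isIso_app]
      exact happ
    exact isIso_of_reflects_iso φ (sheafToPresheaf _ _)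
  have key : ∀ x, e (mulA M g _ p x) = (e x).comp (Ext.mk₀ φ) (add_zero p) := fun x ↦ by
    refine (cmp_comp _ _ x (Ext.mk₀ (Coh.smulAb M g)) (add_zero p)).trans ?_
    rw [Ext.mapExactFunctor_mk₀]
    rfl
  have hb : Function.Bijective fun y ↦ Ext.comp (e y) (Ext.mk₀ φ) (add_zero p) :=
    (comp_mk₀_bijective φ p).comp e.bijective
  exact (Function.Bijective.of_comp_iff' e.bijective _).1 ((funext key :
    e ∘ mulA M g _ p = _) ▸ hb)

end Groth.Agent.Lib.CohDelta.Loc
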