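import Groth.Agent.Lib.Cech.MV
import Groth.Agent.Lib.ZarCoh.Basic

/-!
# Naturality of Mayer-Vietoris
-/

set_option linter.style.haveILetI false

universe u

open CategoryTheory CategoryTheory.Limits TopologicalSpace Opposite CategoryTheory.Abelian
open Groth.Agent.Lib.ZarCoh.Basic

namespace Groth.Agent.Lib.CohDelta.MVRes

variable {X : TopCat.{u}}

/-- The connecting map commutes with composition on the right. -/
theorem δ_comp {F G : CohTop.Ab X} (U V : Opens X) (n : ℕ) (w : Ext.{u} (Zs.obj (U ⊓ V)) F n)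
    (φ : F ⟶ G) :
    (Groth.Agent.Lib.Cech.MV.δ G U V n (n + 1) rfl (w.comp (Ext.mk₀ φ) (add_zero n)) :
        Ext.{u} (Zs.obj (U ⊔ V)) G (n + 1)) =
      Ext.comp (Groth.Agent.Lib.Cech.MV.δ F U V n (n + 1) rfl w :
        Ext.{u} (Zs.obj (U ⊔ V)) F (n + 1)) (Ext.mk₀ φ) (add_zero (n + 1)) :=
  (Ext.comp_assoc (Opens.mayerVietorisSquare U V).shortComplex_shortExact.extClass w (Ext.mk₀ φ)
    (by omega) (add_zero n) (by omega)).symm

theorem zs_square {A B C D : Opens X} (a : A ⟶ B) (b : B ⟶ D) (c : A ⟶ C) (d : C ⟶ D) :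
    Zs.map a ≫ Zs.map b = Zs.map c ≫ Zs.map d :=
  (Zs.map_comp a b).symm.trans ((congrArg Zs.map (Subsingleton.elim _ _)).trans (Zs.map_comp c d))

/-- The morphism of Mayer-Vietoris complexes of smaller opens. -/
noncomputable def mor {U V U' V' : Opens X} (hU : U' ≤ U) (hV : V' ≤ V) :
    (Opens.mayerVietorisSquare U' V').shortComplex ⟶ (Opens.mayerVietorisSquare U V).shortComplex where
  τ₁ := Zs.map (homOfLE (inf_le_inf hU hV) : U' ⊓ V' ⟶ U ⊓ V)
  τ₂ := biprod.map (Zs.map (homOfLE hU)) (Zs.map (homOfLE hV))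
  τ₃ := Zs.map (homOfLE (sup_le_sup hU hV) : U' ⊔ V' ⟶ U ⊔ V)
  comm₁₂ := by
    apply biprod.hom_ext
    · dsimp [GrothendieckTopology.MayerVietorisSquare.shortComplex]
      simp only [Category.assoc, biprod.map_fst, biprod.lift_fst, biprod.lift_fst_assoc]
      exact zs_square _ (Opens.mayerVietorisSquare U V).f₁₂ (Opens.mayerVietorisSquare U' V').f₁₂ (homOfLE hU)
    · dsimp [GrothendieckTopology.MayerVietorisSquare.shortComplex]
      simp only [Category.assoc, biprod.map_snd, biprod.lift_snd, biprod.lift_snd_assoc]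
      exact (Preadditive.comp_neg _ _).trans ((congrArg Neg.neg (zs_square _ (Opens.mayerVietorisSquare U V).f₁₃ (Opens.mayerVietorisSquare U' V').f₁₃ (homOfLE hV))).trans (Preadditive.neg_comp _ _).symm)
  comm₂₃ := by
    apply biprod.hom_ext'
    · dsimp [GrothendieckTopology.MayerVietorisSquare.shortComplex]
      simp only [biprod.inl_map_assoc, biprod.inl_desc, biprod.inl_desc_assoc]
      exact zs_square (homOfLE hU) (Opens.mayerVietorisSquare U V).f₂₄ (Opens.mayerVietorisSquare U' V').f₂₄ _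
    · dsimp [GrothendieckTopology.MayerVietorisSquare.shortComplex]
      simp only [biprod.inr_map_assoc, biprod.inr_desc, biprod.inr_desc_assoc]
      exact zs_square (homOfLE hV) (Opens.mayerVietorisSquare U V).f₃₄ (Opens.mayerVietorisSquare U' V').f₃₄ _

/-- The connecting map commutes with restriction. -/
theorem δ_res {F : CohTop.Ab X} {U V U' V' Z : Opens X} (hU : U' ≤ U) (hV : V' ≤ V)
    (hZ : Z = U' ⊔ V') (hZle : Z ≤ U ⊔ V) (n : ℕ) (w : Ext.{u} (Zs.obj (U ⊓ V)) F n) :
    rs F (n + 1) hZle (Groth.Agent.Lib.Cech.MV.δ F U V n (n + 1) rfl w) =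
      rs F (n + 1) hZ.le (Groth.Agent.Lib.Cech.MV.δ F U' V' n (n + 1) rfl
        (rs F n (inf_le_inf hU hV) w)) := by
  subst hZ
  have key := ShortComplex.ShortExact.extClass_naturality
    (Opens.mayerVietorisSquare U' V').shortComplex_shortExact
    (Opens.mayerVietorisSquare U V).shortComplex_shortExact (mor hU hV)
  refine Eq.trans ?_ ((congrArg (fun t ↦ Ext.comp (Ext.mk₀ t) _ (zero_add (n + 1)))
    ((congrArg Zs.map (Subsingleton.elim _ (𝟙 (U' ⊔ V')))).trans (Zs.map_id _))).trans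
      (Ext.mk₀_id_comp _)).symm
  refine Eq.trans ?_ ((congrArg (fun t ↦ Ext.comp t w (by omega : 1 + n = n + 1)) key.symm).trans ?_)
  · exact (Ext.comp_assoc (Ext.mk₀ (mor hU hV).τ₃)
      (Opens.mayerVietorisSquare U V).shortComplex_shortExact.extClass w
      (zero_add 1) (by omega) (by omega)).symm
  · exact Ext.comp_assoc (Opens.mayerVietorisSquare U' V').shortComplex_shortExact.extClass
      (Ext.mk₀ (mor hU hV).τ₁) w (add_zero 1) (zero_add n) (by omega)

/-- A degree zero class vanishing on `U` and `V` vanishes on `U ⊔ V`. -/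
theorem eq_zero_of_res_eq_zero {F : CohTop.Ab X} {U V Z : Opens X} (hZ : Z ≤ U ⊔ V)
    (hU : U ≤ Z) (hV : V ≤ Z) (x : Ext.{u} (Zs.obj Z) F 0)
    (h1 : rs F 0 hU x = 0) (h2 : rs F 0 hV x = 0) : x = 0 := by
  obtain ⟨g, rfl⟩ := (Ext.mk₀_bijective _ _).2 x
  rw [rs_mk₀, Ext.mk₀_eq_zero_iff] at h1 h2
  have hg : g = 0 := by
    apply (homEquiv Z F).injective
    refine TopCat.Sheaf.eq_of_locally_eq₂ F (homOfLE hU) (homOfLE hV) hZ _ _ ?_ ?_
    · exact (homEquiv_res (homOfLE hU) g).symm.trans ((congrArg (homEquiv U F) (h1.trans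
        (comp_zero (f := Zs.map (homOfLE hU))).symm)).trans (homEquiv_res (homOfLE hU) 0))
    · exact (homEquiv_res (homOfLE hV) g).symm.trans ((congrArg (homEquiv V F) (h2.trans
        (comp_zero (f := Zs.map (homOfLE hV))).symm)).trans (homEquiv_res (homOfLE hV) 0))
  rw [hg, Ext.mk₀_zero]

end Groth.Agent.Lib.CohDelta.MVRes
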