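import Groth.Agent.Lib.CohDelta.SerreRel
import Groth.Agent.Lib.CohDelta.BC.Affine
import Groth.Agent.Lib.ZarCoh.Morph

/-!
# Vanishing of higher direct images is stable under base change
-/

set_option linter.style.haveILetI false
set_option autoImplicit false

universe u

open CategoryTheory CategoryTheory.Limits AlgebraicGeometry TopologicalSpace Opposite
  CategoryTheory.Abelian
open Groth.Agent.Lib Groth.Agent.Lib.ZarCoh.Basic Groth.Agent.Lib.CohDelta.Basic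

namespace Groth.Agent.Lib.CohDelta.RelDim

variable {X Y X' Y' : Scheme.{u}} (f : X ⟶ Y) (g : Y' ⟶ Y) (f' : X' ⟶ Y') (g' : X' ⟶ X)
  (sq : IsPullback g' f' f g)

include sq in
theorem subsingleton_preimage [QuasiCompact f] [QuasiSeparated f] [QuasiSeparatedSpace Y] (p : ℕ)
    (hvan : ∀ M : X.Modules, Coh.IsQCoh M → IsZero ((Coh.RpushAb f (p + 1)).obj (Coh.toAb M)))
    (M' : X'.Modules) [M'.IsQuasicoherent] {V : Y.Opens} {W : Y'.Opens} (hV : IsAffineOpen V)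
    (hW : IsAffineOpen W) (hWV : W ≤ g ⁻¹ᵁ V) :
    Subsingleton (CohTop.HU (Coh.toAb M') (p + 1) (f' ⁻¹ᵁ W)) := by
  have e : W.ι ''ᵁ ⊤ ≤ g ⁻¹ᵁ (V.ι ''ᵁ ⊤) := by rwa [W.ι_image_top, V.ι_image_top]
  have hpb := BC.Affine.isPullback_restrict f g f' g' sq e
  haveI : IsAffine (V : Scheme.{u}) := hV
  haveI : IsAffine (W : Scheme.{u}) := hW
  haveI hq : IsAffineHom (g'.resLE (f ⁻¹ᵁ V) (f' ⁻¹ᵁ W) (BC.Main.le_preimage f g f' g' sq.w V W e)) :=
    MorphismProperty.of_isPullback (P := @IsAffineHom) hpb.flip inferInstance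
  let q := g'.resLE (f ⁻¹ᵁ V) (f' ⁻¹ᵁ W) (BC.Main.le_preimage f g f' g' sq.w V W e)
  haveI : QuasiCompact V.ι := quasiCompact_iff_forall_isAffineOpen.2 fun A hA ↦ by
    rw [V.ι.isOpenEmbedding.isInducing.isCompact_iff]
    have : V.ι '' (V.ι ⁻¹ᵁ A : Set (V : Scheme.{u})) = (A : Set Y) ∩ V := by
      rw [TopologicalSpace.Opens.map_coe, Set.image_preimage_eq_inter_range,
        Scheme.Opens.range_ι]
    rw [this]
    exact QuasiSeparatedSpace.inter_isCompact _ _ A.2 hA.isCompact V.2 hV.isCompact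
  haveI : QuasiCompact (f ⁻¹ᵁ V).ι :=
    MorphismProperty.of_isPullback (P := @QuasiCompact) (isPullback_morphismRestrict f V)
      inferInstance
  let N : (f' ⁻¹ᵁ W : Scheme.{u}).Modules := M'.restrict (f' ⁻¹ᵁ W).ι
  haveI : N.IsQuasicoherent := inferInstanceAs ((M'.restrict (f' ⁻¹ᵁ W).ι).IsQuasicoherent)
  let G := (Coh.push q).obj N
  haveI : G.IsQuasicoherent := QCoh.Pushforward.isQCoh_pushforward q (M := N)
  let G' := (Coh.push (f ⁻¹ᵁ V).ι).obj G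
  haveI : G'.IsQuasicoherent := QCoh.Pushforward.isQCoh_pushforward (f ⁻¹ᵁ V).ι (M := G)
  haveI h1 : Subsingleton (CohTop.HU (Coh.toAb G') (p + 1) (f ⁻¹ᵁ V)) :=
    SerreRel.hn_eq_zero f G' ‹_› p (hvan G' ‹_›) hV
  haveI h2 : Subsingleton (Coh.HH _ (G'.restrict (f ⁻¹ᵁ V).ι) (p + 1)) := by
    refine @Equiv.subsingleton _ _ (ZarCoh.Morph.openEquiv (f ⁻¹ᵁ V).ι G' (p + 1)).toEquiv ?_
    rw [Scheme.Opens.ι_image_top]
    exact h1
  haveI h3 : Subsingleton (Coh.HH _ G (p + 1)) :=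
    Groth.Agent.H34.HOne.ext_of_iso _ (p + 1)
      ((Groth.Agent.H34.HOne.ab _).mapIso ((Scheme.Modules.restrictFunctorAdjCounitIso (f ⁻¹ᵁ V).ι).app G)) h2
  haveI h4 : Subsingleton (Coh.HH _ N (p + 1)) :=
    (ZarCoh.Morph.affineEquiv q N (p + 1)).symm.toEquiv.subsingleton
  have h5 := (ZarCoh.Morph.openEquiv (f' ⁻¹ᵁ W).ι M' (p + 1)).symm.toEquiv.subsingleton
  rwa [Scheme.Opens.ι_image_top] at h5

include sq in
theorem isZero_RpushAb [QuasiCompact f] [QuasiSeparated f] [QuasiSeparatedSpace Y] (p : ℕ)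
    (hvan : ∀ M : X.Modules, Coh.IsQCoh M → IsZero ((Coh.RpushAb f (p + 1)).obj (Coh.toAb M)))
    (M' : X'.Modules) [M'.IsQuasicoherent] :
    IsZero ((Coh.RpushAb f' (p + 1)).obj (Coh.toAb M')) := by
  refine ZarCoh.RpushVanish.isZero_RpushAb f'.base
    (B := {W | ∃ V : Y.Opens, IsAffineOpen V ∧ IsAffineOpen (W : Y'.Opens) ∧ W ≤ g ⁻¹ᵁ V}) ?_ p
    fun W ⟨V, hV, hW, hWV⟩ ↦ subsingleton_preimage f g f' g' sq p hvan M' hV hW hWV
  refine Opens.isBasis_iff_nbhd.2 fun {U x} hx ↦ ?_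
  obtain ⟨V, hV, hxV, -⟩ := exists_isAffineOpen_mem_and_subset (U := (⊤ : Y.Opens)) (x := g x) trivial
  obtain ⟨W, hW, hxW, hle⟩ := exists_isAffineOpen_mem_and_subset (U := U ⊓ g ⁻¹ᵁ V) (x := x) ⟨hx, hxV⟩
  exact ⟨W, ⟨V, hV, hW, fun y hy ↦ (hle hy).2⟩, hxW, fun y hy ↦ (hle hy).1⟩

end Groth.Agent.Lib.CohDelta.RelDim
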