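import Groth.Agent.Lib.DerivedOX.RestrictKInj
import Groth.Agent.Lib.EtJ.ExtZero
import Groth.Prelude.Def_CohTop

/-!
# Restriction of complexes of abelian sheaves to an open subspace preserves K-injectives

The left adjoint of restriction, extension by zero, is exact.
-/

set_option linter.style.haveILetI false

universe u

open CategoryTheory CategoryTheory.Limits TopologicalSpace Opposite

namespace Groth.Agent.Lib.CohDelta.RestrKInj

variable {X : TopCat.{u}} (U : Opens X)

/-- The image functor of the inclusion. -/
abbrev G : Opens (TopCat.of U) ⥤ Opens X := (U.isOpenEmbedding (X := X)).isOpenMap.functor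

/-- The costructured arrows over `W` form a category with final discrete part. -/
noncomputable def discreteFunctor (W : Opens X) :
    Discrete (ULift.{u} (PLift (W ≤ U))) ⥤ CostructuredArrow (G U).op (op W) :=
  Discrete.functor fun φ =>
    CostructuredArrow.mk (Y := op (⟨Subtype.val ⁻¹' (W : Set X),
      W.2.preimage continuous_subtype_val⟩ : Opens (TopCat.of U)))
      (homOfLE (fun x hx => ⟨⟨x, φ.down.down hx⟩, hx, rfl⟩ : W ≤ (G U).obj _)).op

instance discreteFunctor_final (W : Opens X) : (discreteFunctor U W).Final where
  out d := by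
    have hd : W ≤ (G U).obj d.left.unop := leOfHom d.hom.unop
    have hW : W ≤ U := fun x hx => by obtain ⟨y, -, rfl⟩ := hd hx; exact y.2
    let φ : Discrete (ULift.{u} (PLift (W ≤ U))) := ⟨⟨⟨hW⟩⟩⟩
    let a : d ⟶ (discreteFunctor U W).obj φ := CostructuredArrow.homMk
      (homOfLE (fun y hy => by
        obtain ⟨z, hz, e⟩ := hd (show y.1 ∈ W from hy)
        exact (Subtype.ext e : z = y) ▸ hz) : _ ⟶ d.left.unop).op
      (Quiver.Hom.unop_inj (Subsingleton.elim _ _))
    have key : ∀ y : StructuredArrow d (discreteFunctor U W), y = StructuredArrow.mk a := by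
      rintro ⟨⟨⟨⟩⟩, ⟨⟨⟨_⟩⟩⟩, b⟩
      obtain rfl : b = a := CostructuredArrow.hom_ext _ _
        (Quiver.Hom.unop_inj (Subsingleton.elim _ _))
      rfl
    haveI : Nonempty (StructuredArrow d (discreteFunctor U W)) := ⟨StructuredArrow.mk a⟩
    exact zigzag_isConnected fun y z => by rw [key y, key z]

instance hasExactColimits (W : (Opens X)ᵒᵖ) :
    HasExactColimitsOfShape (CostructuredArrow (G U).op W) AddCommGrpCat.{u} := by
  obtain ⟨W⟩ := W
  exact hasExactColimitsOfShape_of_final AddCommGrpCat.{u} (discreteFunctor U W)

instance preservesFiniteLimits_lan :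
    PreservesFiniteLimits ((G U).op.lan : (_ ⥤ AddCommGrpCat.{u}) ⥤ _) :=
  EtJ.ExtZero.lan_preservesFiniteLimits_of_exact _

theorem isKInjective_restr (I : CochainComplex (CohTop.Ab X) ℤ) (h : I.IsKInjective) :
    CochainComplex.IsKInjective
      (((CohTop.restrFunctor U).mapHomologicalComplex (ComplexShape.up ℤ)).obj I) := by
  haveI : (G U).IsContinuous (Opens.grothendieckTopology (TopCat.of U))
      (Opens.grothendieckTopology X) := (U.isOpenEmbedding (X := X)).functor_isContinuous
  let F := Functor.sheafPullbackConstruction.sheafPullback (G U) AddCommGrpCat.{u}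
    (Opens.grothendieckTopology (TopCat.of U)) (Opens.grothendieckTopology X)
  let adj : F ⊣ CohTop.restrFunctor U :=
    Functor.sheafPullbackConstruction.sheafAdjunctionContinuous (G U) AddCommGrpCat.{u}
      (Opens.grothendieckTopology (TopCat.of U)) (Opens.grothendieckTopology X)
  haveI : PreservesFiniteLimits F := by
    haveI : PreservesFiniteLimits ((G U).op.lan ⋙
        presheafToSheaf (Opens.grothendieckTopology X) AddCommGrpCat.{u}) :=
      comp_preservesFiniteLimits _ _
    exact comp_preservesFiniteLimits _ _
  haveI : PreservesFiniteColimits F :=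
    ⟨fun K _ _ => adj.leftAdjoint_preservesColimits.preservesColimitsOfShape⟩
  haveI : F.Additive := adj.left_adjoint_additive
  exact DerivedOX.RestrictKInj.isKInjective_of_adj adj h

end Groth.Agent.Lib.CohDelta.RestrKInj
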