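import Groth.Agent.Lib.CohDelta.RAcyc
import Mathlib.CategoryTheory.Abelian.DiagramLemmas.KernelCokernelComp
import Mathlib.Algebra.Homology.ShortComplex.HomologicalComplex

/-!
# Cohomology of `F(C)` for a complex of acyclic objects lies in a class closed under kernels, cokernels, extensions
-/

set_option autoImplicit false
set_option linter.style.haveILetI false

universe v v' u u'

open CategoryTheory CategoryTheory.Limits ZeroObject

noncomputable section

namespace Groth.Agent.Lib.CohDelta.SerreAcyc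

variable {B : Type u'} [Category.{v'} B] [Abelian B]

/-- A class closed under kernels, cokernels and extensions. -/
structure IsThick (Q : B → Prop) : Prop where
  iso : ∀ {M N : B}, (M ≅ N) → Q M → Q N
  zero : ∀ {M : B}, IsZero M → Q M
  ker : ∀ {M N : B} (φ : M ⟶ N), Q M → Q N → Q (kernel φ)
  coker : ∀ {M N : B} (φ : M ⟶ N), Q M → Q N → Q (cokernel φ)
  ext : ∀ {S : ShortComplex B}, S.ShortExact → Q S.X₁ → Q S.X₃ → Q S.X₂

variable {Q : B → Prop} (hQ : IsThick Q)

include hQ in
/-- The middle term of a five term exact sequence. -/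
theorem IsThick.five {a b c d e : B} (f : a ⟶ b) (g : b ⟶ c) (h : c ⟶ d) (k : d ⟶ e)
    {w₁ : f ≫ g = 0} {w₂ : g ≫ h = 0} {w₃ : h ≫ k = 0} (e₁ : (ShortComplex.mk f g w₁).Exact)
    (e₂ : (ShortComplex.mk g h w₂).Exact) (e₃ : (ShortComplex.mk h k w₃).Exact)
    (ha : Q a) (hb : Q b) (hd : Q d) (he : Q e) : Q c := by
  let u : cokernel f ⟶ c := cokernel.desc f g w₁
  let v : c ⟶ kernel k := kernel.lift k h w₃
  have hu : Mono u := e₁.mono_cokernelDesc
  have hv : Epi v := e₃.epi_kernelLift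
  have w : u ≫ v = 0 := by
    rw [← cancel_epi (cokernel.π f), ← cancel_mono (kernel.ι k)]
    simp [u, v, w₂]
  let S : ShortComplex B := ShortComplex.mk u v w
  let φ : ShortComplex.mk g h w₂ ⟶ ShortComplex.mk (u) (h) (by
      rw [← cancel_epi (cokernel.π f)]; simp [u, w₂]) :=
    { τ₁ := cokernel.π f, τ₂ := 𝟙 c, τ₃ := 𝟙 d, comm₁₂ := by simp [u], comm₂₃ := by simp }
  let ψ : S ⟶ ShortComplex.mk u h (by rw [← cancel_epi (cokernel.π f)]; simp [u, w₂]) :=
    { τ₁ := 𝟙 _, τ₂ := 𝟙 c, τ₃ := kernel.ι k, comm₁₂ := by simp [S], comm₂₃ := by simp [S, v] }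
  have hS : S.ShortExact :=
    { exact := by
        haveI : Epi φ.τ₁ := inferInstanceAs (Epi (cokernel.π f))
        haveI : IsIso φ.τ₂ := inferInstanceAs (IsIso (𝟙 c))
        haveI : Mono φ.τ₃ := inferInstanceAs (Mono (𝟙 d))
        haveI : Epi ψ.τ₁ := inferInstanceAs (Epi (𝟙 _))
        haveI : IsIso ψ.τ₂ := inferInstanceAs (IsIso (𝟙 c))
        haveI : Mono ψ.τ₃ := inferInstanceAs (Mono (kernel.ι k))
        exact (ShortComplex.exact_iff_of_epi_of_isIso_of_mono ψ).2
          ((ShortComplex.exact_iff_of_epi_of_isIso_of_mono φ).1 e₂)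
      mono_f := hu
      epi_g := hv }
  exact hQ.ext hS (hQ.coker f ha hb) (hQ.ker k hd he)

include hQ in
/-- The cokernel of a composite with a monomorphism. -/
theorem IsThick.coker_comp {a b c : B} (f : a ⟶ b) (g : b ⟶ c) [Mono g] (hf : Q (cokernel f))
    (hg : Q (cokernel g)) : Q (cokernel (f ≫ g)) := by
  let S := kernelCokernelCompSequence f g
  have hS := kernelCokernelCompSequence_exact f g
  have hz : IsZero (kernel g) := isZero_kernel_of_mono g
  refine hQ.five (a := kernel g) (e := (0 : B)) (S.map' 2 3) (S.map' 3 4) (S.map' 4 5) 0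
    (hS.exact 2) (hS.exact 3) ((ShortComplex.exact_iff_epi _ rfl).2 ?_) (hQ.zero hz) hf hg (hQ.zero (isZero_zero _))
    (w₃ := comp_zero)
  exact inferInstanceAs (Epi ((kernelCokernelCompSequence f g).map' 4 5))

variable {A : Type u} [Category.{v} A] [Abelian A] [EnoughInjectives A]
  (F : A ⥤ B) [F.Additive] [PreservesFiniteLimits F] (C : CochainComplex A ℕ)

/-- The map to the next cycles from the quotient by the cycles. -/
def nxt (n : ℕ) : cokernel (C.iCycles n) ⟶ C.cycles (n + 1) :=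
  cokernel.desc _ (C.toCycles n (n + 1)) (by
    rw [← cancel_mono (C.iCycles (n + 1)), Category.assoc, HomologicalComplex.toCycles_i, HomologicalComplex.iCycles_d, zero_comp])

theorem π_nxt (n : ℕ) : cokernel.π (C.iCycles n) ≫ nxt C n = C.toCycles n (n + 1) := cokernel.π_desc _ _ _

theorem ses₁ (n : ℕ) : (ShortComplex.mk (C.iCycles n) (cokernel.π _) (cokernel.condition _)).ShortExact :=
  { exact := ShortComplex.exact_cokernel _ }

instance mono_nxt (n : ℕ) : Mono (nxt C n) := by
  have he : (ShortComplex.mk (C.iCycles n) (C.d n (n + 1)) (HomologicalComplex.iCycles_d _ _ _)).Exact :=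
    ShortComplex.exact_of_f_is_kernel _ (C.cyclesIsKernel n (n + 1) (by simp))
  haveI : Mono (nxt C n ≫ C.iCycles (n + 1)) := by
    rw [show nxt C n ≫ C.iCycles (n + 1) =
      cokernel.desc (C.iCycles n) (C.d n (n + 1)) (HomologicalComplex.iCycles_d _ _ _) from
      (cancel_epi (cokernel.π (C.iCycles n))).1 (by simp [reassoc_of% π_nxt C n])]
    exact he.mono_cokernelDesc
  exact mono_of_mono (nxt C n) (C.iCycles (n + 1))

theorem nxt_homologyπ (n : ℕ) : nxt C n ≫ C.homologyπ (n + 1) = 0 := by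
  rw [← cancel_epi (cokernel.π (C.iCycles n)), reassoc_of% π_nxt C n, HomologicalComplex.toCycles_comp_homologyπ, comp_zero]

theorem ses₂ (n : ℕ) : (ShortComplex.mk (nxt C n) (C.homologyπ (n + 1)) (nxt_homologyπ C n)).ShortExact := by
  have he : (ShortComplex.mk (C.toCycles n (n + 1)) (C.homologyπ (n + 1))
      (HomologicalComplex.toCycles_comp_homologyπ _ _ _)).Exact :=
    ShortComplex.exact_of_g_is_cokernel _ (C.homologyIsCokernel n (n + 1) (by simp))
  let φ : ShortComplex.mk (C.toCycles n (n + 1)) (C.homologyπ (n + 1))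
      (HomologicalComplex.toCycles_comp_homologyπ _ _ _) ⟶
      ShortComplex.mk (nxt C n) (C.homologyπ (n + 1)) (nxt_homologyπ C n) :=
    { τ₁ := cokernel.π _, τ₂ := 𝟙 _, τ₃ := 𝟙 _, comm₁₂ := by simp [π_nxt], comm₂₃ := by simp }
  haveI : Epi φ.τ₁ := inferInstanceAs (Epi (cokernel.π _))
  haveI : IsIso φ.τ₂ := inferInstanceAs (IsIso (𝟙 _))
  haveI : Mono φ.τ₃ := inferInstanceAs (Mono (𝟙 _))
  exact { exact := (ShortComplex.exact_iff_of_epi_of_isIso_of_mono φ).1 he }

include hQ in
/-- The cohomology of `F(C)`. -/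
theorem homology (hC : ∀ n q, IsZero ((F.rightDerived (q + 1)).obj (C.X n)))
    (hH : ∀ n q, Q ((F.rightDerived q).obj (C.homology n))) (m : ℕ) :
    Q (((F.mapHomologicalComplex (ComplexShape.up ℕ)).obj C).homology m) := by
  obtain ⟨Δ⟩ := Groth.Agent.Lib.RDer.Connecting.nonempty_derivedLES F
  let z : F.rightDerived 0 ≅ F := F.rightDerivedZeroIsoSelf
  let e₀ : C.cycles 0 ≅ C.homology 0 := C.isoHomologyπ₀
  have hZ : ∀ n q, Q ((F.rightDerived (q + 1)).obj (C.cycles n)) := by
    intro n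
    induction n with
    | zero => exact fun q => hQ.iso ((F.rightDerived (q + 1)).mapIso e₀.symm) (hH 0 (q + 1))
    | succ n ih =>
      have hB : ∀ q, Q ((F.rightDerived (q + 1)).obj (cokernel (C.iCycles n))) := fun q => by
        obtain ⟨i⟩ := RAcyc.nonempty_shift_iso F (ses₁ C n) (hC n) q
        exact hQ.iso i.symm (ih (q + 1))
      intro q
      exact hQ.five _ _ _ _ (Δ.exact₁ _ (ses₂ C n) q (q + 1) rfl) (Δ.exact₂ _ (ses₂ C n) (q + 1))
        (Δ.exact₃ _ (ses₂ C n) (q + 1) (q + 1 + 1) rfl) (hH (n + 1) q) (hB q) (hH (n + 1) (q + 1)) (hB (q + 1))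
  let K := (F.mapHomologicalComplex (ComplexShape.up ℕ)).obj C
  have wi : ∀ i : ℕ, F.map (C.iCycles i) ≫ F.map (C.d i (i + 1)) = 0 := fun i => by
    rw [← F.map_comp, HomologicalComplex.iCycles_d, F.map_zero]
  have hi : ∀ i : ℕ, IsLimit (KernelFork.ofι _ (wi i)) := fun i =>
    isLimitForkMapOfIsLimit' F (HomologicalComplex.iCycles_d _ _ _) (C.cyclesIsKernel i (i + 1) (by simp))
  cases m with
  | zero =>
    have h0 : Q (F.obj (C.cycles 0)) := hQ.iso ((F.rightDerived 0).mapIso e₀.symm ≪≫ z.app _) (hH 0 0)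
    refine hQ.iso ?_ h0
    exact ((hi 0).conePointUniqueUpToIso (K.cyclesIsKernel 0 1 (by simp))) ≪≫ CochainComplex.isoHomologyπ₀ K
  | succ n =>
    let p := F.map (cokernel.π (C.iCycles n))
    let g := F.map (nxt C n)
    obtain ⟨i⟩ := RAcyc.nonempty_one_iso F (ses₁ C n) (hC n 0)
    have hf : Q (cokernel p) := hQ.iso i (hZ n 0)
    have hg : Q (cokernel g) := by
      let δ := Δ.δ _ (ses₂ C n) 0 1 rfl
      have hB : Q ((F.rightDerived 1).obj (cokernel (C.iCycles n))) := by
        obtain ⟨j⟩ := RAcyc.nonempty_shift_iso F (ses₁ C n) (hC n) 0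
        exact hQ.iso j.symm (hZ n 1)
      let g₀ := (F.rightDerived 0).map (nxt C n)
      let p₀ := (F.rightDerived 0).map (C.homologyπ (n + 1))
      have w₀ : g₀ ≫ p₀ = 0 := by rw [← Functor.map_comp, nxt_homologyπ, Functor.map_zero]
      let v : cokernel g₀ ⟶ kernel δ := cokernel.desc g₀ (kernel.lift δ p₀ (Δ.comp_δ _ (ses₂ C n) 0 1 rfl))
        (by rw [← cancel_mono (kernel.ι δ)]; simp [w₀])
      haveI : Mono v := by
        have hm : Mono (cokernel.desc g₀ p₀ w₀) := (Δ.exact₂ _ (ses₂ C n) 0).mono_cokernelDesc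
        haveI : Mono (v ≫ kernel.ι δ) := by
          rw [show v ≫ kernel.ι δ = cokernel.desc g₀ p₀ w₀ from
            (cancel_epi (cokernel.π g₀)).1 (by simp [v])]
          exact hm
        exact mono_of_mono v (kernel.ι δ)
      haveI : Epi v := by
        haveI : Epi (cokernel.π g₀ ≫ v) := by
          rw [cokernel.π_desc]; exact (Δ.exact₃ _ (ses₂ C n) 0 1 rfl).epi_kernelLift
        exact epi_of_epi (cokernel.π g₀) v
      haveI : IsIso v := isIso_of_mono_of_epi v
      exact hQ.iso (cokernel.mapIso _ _ (z.app _) (z.app _) (z.hom.naturality (nxt C n)))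
        (hQ.iso (asIso v).symm (hQ.ker δ (hH (n + 1) 0) hB))
    have hpg : Q (cokernel (p ≫ g)) := hQ.coker_comp p g hf hg
    let sc := K.sc' n (n + 1) (n + 1 + 1)
    have hlift : (hi (n + 1)).lift (KernelFork.ofι sc.f sc.zero) = p ≫ g := by
      apply Fork.IsLimit.hom_ext (hi (n + 1))
      refine (Fork.IsLimit.lift_ι (hi (n + 1))).trans ?_
      change F.map (C.d n (n + 1)) =
        (F.map (cokernel.π (C.iCycles n)) ≫ F.map (nxt C n)) ≫ F.map (C.iCycles (n + 1))
      rw [← F.map_comp, ← F.map_comp, π_nxt, C.toCycles_i]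
    let D : sc.LeftHomologyData :=
      { K := F.obj (C.cycles (n + 1))
        H := cokernel (p ≫ g)
        i := F.map (C.iCycles (n + 1))
        π := cokernel.π _
        wi := wi (n + 1)
        hi := hi (n + 1)
        wπ := by
          show (hi (n + 1)).lift (KernelFork.ofι sc.f sc.zero) ≫ _ = 0
          rw [hlift]
          exact cokernel.condition _
        hπ := CokernelCofork.IsColimit.ofπ _ _
          (fun {A} k hk ↦ cokernel.desc _ k (hlift ▸ hk))
          (fun {A} k hk ↦ cokernel.π_desc _ _ _)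
          (fun {A} k hk l hl ↦ (cancel_epi (cokernel.π (p ≫ g))).1
            (hl.trans (cokernel.π_desc _ _ _).symm)) }
    exact hQ.iso (K.homologyIsoSc' n (n + 1) (n + 1 + 1) (by simp) (by simp) ≪≫ D.homologyIso).symm hpg

end Groth.Agent.Lib.CohDelta.SerreAcyc
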