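import Groth.Agent.Lib.ZarCoh.SerreAff
import Mathlib.AlgebraicGeometry.Properties
import Mathlib.RingTheory.Ideal.Maximal

/-!
# Affineness from lifting of functions on reduced closed subschemes

A quasi-compact scheme is affine as soon as functions on every reduced closed subscheme lift to
global functions.
-/

set_option autoImplicit false
set_option linter.style.haveILetI false
universe u

open CategoryTheory AlgebraicGeometry Opposite TopologicalSpace

namespace Groth.Agent.Lib.CohDelta.SerreRad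

variable {X : Scheme.{u}}

/-- Functions on every closed subset, with some reduced structure, lift. -/
def LiftsFun (X : Scheme.{u}) : Prop :=
  ∀ Z : Closeds X, ∃ (T : Scheme.{u}) (ι : T ⟶ X),
    IsReduced T ∧ Set.range ⇑ι = (Z : Set X) ∧ Function.Surjective (ι.app ⊤)

theorem exists_basicOpen (h : LiftsFun X) {x : X} (hx : IsClosed ({x} : Set X)) :
    ∃ f : Γ(X, ⊤), x ∈ X.basicOpen f ∧ IsAffineOpen (X.basicOpen f) := by
  obtain ⟨U, hU, hxU, -⟩ :=
    exists_isAffineOpen_mem_and_subset (show x ∈ (⊤ : X.Opens) from trivial)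
  let Z : Closeds X := ⟨(U : Set X)ᶜ ∪ {x}, U.2.isClosed_compl.union hx⟩
  let V : X.Opens := ⟨({x} : Set X)ᶜ, hx.isOpen_compl⟩
  obtain ⟨T, ι, -, hr, hJ⟩ := h Z
  replace hr : Set.range ⇑ι = (U : Set X)ᶜ ∪ {x} := hr
  let A : Bool → T.Opens := fun b => cond b (ι ⁻¹ᵁ U) (ι ⁻¹ᵁ V)
  have hdisj : A true ⊓ A false = ⊥ := by
    ext z
    simp only [Opens.coe_bot, Set.mem_empty_iff_false, iff_false]
    rintro ⟨h1, h2⟩
    rcases (hr ▸ Set.mem_range_self z : ι z ∈ (U : Set X)ᶜ ∪ {x}) with h | h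
    exacts [h h1, h2 h]
  have hsub : Subsingleton Γ(T, A true ⊓ A false) := by rw [hdisj]; infer_instance
  have hsub' : Subsingleton Γ(T, A false ⊓ A true) := by rw [inf_comm, hdisj]; infer_instance
  have hcov : (⊤ : T.Opens) ≤ iSup A := fun z _ => by
    by_cases h : ι z = x
    · exact Opens.mem_iSup.mpr ⟨true, show ι z ∈ U from h ▸ hxU⟩
    · exact Opens.mem_iSup.mpr ⟨false, show ι z ∈ V from h⟩
  let sf : ∀ b, Γ(T, A b) := fun b =>
    match b with
    | true => 1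
    | false => 0
  obtain ⟨e, he, -⟩ := T.sheaf.existsUnique_gluing' A ⊤ (fun b => homOfLE le_top) hcov sf
    (fun b c => by
      cases b <;> cases c
      · rfl
      · exact @Subsingleton.elim _ hsub' _ _
      · exact @Subsingleton.elim _ hsub _ _
      · rfl)
  obtain ⟨f, hf⟩ := hJ e
  have key : ∀ (b : Bool) (z : T) (hz : z ∈ A b),
      (ι.stalkMap z) (X.presheaf.germ ⊤ (ι z) trivial f) = T.presheaf.germ (A b) z hz (sf b) := by
    intro b z hz
    rw [Scheme.Hom.germ_stalkMap_apply]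
    show T.presheaf.germ _ z _ (ι.app ⊤ f) = _
    rw [hf, ← he b]
    exact (TopCat.Presheaf.germ_res_apply T.presheaf (homOfLE (le_top : A b ≤ ⊤)) z hz e).symm
  have hle : X.basicOpen f ≤ U := by
    intro y hy
    by_contra hyU
    obtain ⟨z, rfl⟩ : y ∈ Set.range ⇑ι := hr ▸ Or.inl hyU
    have hzV : z ∈ A false := fun h => hyU (show ι z ∈ U from (show ι z = x from h) ▸ hxU)
    have h0 := ((X.mem_basicOpen f (ι z) trivial).mp hy).map (ι.stalkMap z).hom
    have e0 : T.presheaf.germ (A false) z hzV (sf false) = 0 := map_zero _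
    rw [key false z hzV, e0] at h0
    exact not_isUnit_zero h0
  refine ⟨f, ?_, ?_⟩
  · obtain ⟨z, hz⟩ : x ∈ Set.range ⇑ι := hr ▸ Or.inr rfl
    have hzU : z ∈ A true := show ι z ∈ U from hz ▸ hxU
    rw [← hz, X.mem_basicOpen f _ trivial]
    refine (isUnit_map_iff (ι.stalkMap z).hom _).mp ?_
    show IsUnit ((ι.stalkMap z) _)
    have e1 : T.presheaf.germ (A true) z hzU (sf true) = 1 := map_one _
    rw [key true z hzU, e1]
    exact isUnit_one
  · have e : X.basicOpen (X.presheaf.map (homOfLE (le_top : U ≤ ⊤)).op f) = X.basicOpen f :=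
      (Scheme.basicOpen_res X f _).trans (inf_eq_right.mpr hle)
    rw [← e]
    exact hU.basicOpen _

/-- The functions vanishing at a point. -/
noncomputable def pt (x : X) : Ideal Γ(X, ⊤) :=
  (IsLocalRing.maximalIdeal (X.presheaf.stalk x)).comap (X.presheaf.germ ⊤ x trivial).hom

theorem mem_pt {x : X} {a : Γ(X, ⊤)} : a ∈ pt x ↔ x ∉ X.basicOpen a := by
  rw [X.mem_basicOpen a x trivial]
  exact IsLocalRing.mem_maximalIdeal _

theorem exists_pt {f : Γ(X, ⊤)} (hf : IsAffineOpen (X.basicOpen f)) [CompactSpace X]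
    [QuasiSeparatedSpace X] (p : Ideal Γ(X, ⊤)) [p.IsPrime] (hp : f ∉ p) :
    ∃ x : X, pt x = p := by
  haveI : IsLocalization.Away f Γ(X, X.basicOpen f) :=
    isLocalization_basicOpen_of_qcqs isCompact_univ isQuasiSeparated_univ f
  have hd : Disjoint (Submonoid.powers f : Set Γ(X, ⊤)) (p : Set Γ(X, ⊤)) := by
    rw [Set.disjoint_left]
    rintro _ ⟨n, rfl⟩ h
    exact hp (‹p.IsPrime›.mem_of_pow_mem n h)
  let q : PrimeSpectrum Γ(X, X.basicOpen f) :=
    ⟨p.map (algebraMap Γ(X, ⊤) Γ(X, X.basicOpen f)),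
      IsLocalization.isPrime_of_isPrime_disjoint (Submonoid.powers f) _ p ‹_› hd⟩
  refine ⟨hf.fromSpec q, Ideal.ext fun a ↦ ?_⟩
  have hq : q ∈ hf.fromSpec ⁻¹ᵁ X.basicOpen (X.presheaf.map (homOfLE (le_top : X.basicOpen f ≤ ⊤)).op a) ↔
      algebraMap Γ(X, ⊤) Γ(X, X.basicOpen f) a ∉ q.asIdeal := by
    rw [hf.fromSpec_preimage_basicOpen]
    rfl
  have hmem : hf.fromSpec q ∈ X.basicOpen f := by
    rw [← SetLike.mem_coe, ← hf.range_fromSpec]
    exact ⟨q, rfl⟩
  have hb : hf.fromSpec q ∈ X.basicOpen (X.presheaf.map (homOfLE (le_top : X.basicOpen f ≤ ⊤)).op a) ↔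
      hf.fromSpec q ∈ X.basicOpen a := by
    rw [Scheme.basicOpen_res]
    exact and_iff_right hmem
  have hc : algebraMap Γ(X, ⊤) Γ(X, X.basicOpen f) a ∈ q.asIdeal ↔ a ∈ p := by
    rw [← Ideal.mem_comap]
    exact iff_of_eq (congrArg (a ∈ ·)
      (IsLocalization.under_map_of_isPrime_disjoint (Submonoid.powers f) _ ‹p.IsPrime› hd))
  rw [mem_pt, ← hb, ← hc]
  exact not_iff_comm.mp hq.symm

theorem eq_zero_of_pt {T : Scheme.{u}} [IsReduced T] (ι : T ⟶ X) (a : Γ(X, ⊤))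
    (h : ∀ z : T, a ∈ pt (ι z)) : ι.app ⊤ a = 0 := by
  refine (basicOpen_eq_bot_iff _).1 ?_
  rw [← Scheme.preimage_basicOpen ι a]
  ext z
  simp only [Opens.coe_bot, Set.mem_empty_iff_false, iff_false]
  exact mem_pt.1 (h z)

theorem span_eq_top (h : LiftsFun X) {n : ℕ} (f : Fin n → Γ(X, ⊤)) [CompactSpace X]
    [QuasiSeparatedSpace X] (haff : ∀ i, IsAffineOpen (X.basicOpen (f i)))
    (hcov : ∀ x : X, ∃ i, x ∈ X.basicOpen (f i)) : Ideal.span (Set.range f) = ⊤ := by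
  classical
  by_contra hne
  obtain ⟨P, hP, hfP⟩ := Ideal.exists_le_maximal _ hne
  have key : ∀ (M : Ideal Γ(X, ⊤)), (∀ q : Ideal Γ(X, ⊤), q.IsPrime → M ≤ q → q ≤ P →
      ∀ i, f i ∈ q) → ∀ i, ∃ (N : ℕ) (s : Γ(X, ⊤)), s ∉ P ∧ s * f i ^ N ∈ M := by
    intro M hM i
    by_contra hc
    push Not at hc
    obtain ⟨q, hq, hMq, hd⟩ := Ideal.exists_le_prime_disjoint M
      (P.primeCompl ⊔ Submonoid.powers (f i)) (by
        rw [Set.disjoint_left]
        intro m hm hm'
        obtain ⟨s, hs, t, ⟨N, rfl⟩, rfl⟩ := Submonoid.mem_sup.1 hm'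
        exact hc N s hs hm)
    refine Set.disjoint_left.1 hd (hM q hq hMq (fun m hm ↦ ?_) i)
      (Submonoid.mem_sup_right (Submonoid.mem_powers _))
    by_contra hm'
    exact Set.disjoint_left.1 hd hm (Submonoid.mem_sup_left hm')
  by_cases hS : ∃ q : Ideal Γ(X, ⊤), q.IsPrime ∧ q ≤ P ∧ ∃ i, f i ∉ q
  swap
  · push Not at hS
    choose N s hs hz using key ⊥ fun q hq _ hqP i ↦ hS q hq hqP i
    have : ∏ i, s i = 0 := by
      refine X.IsSheaf.section_ext fun x hx ↦ ?_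
      obtain ⟨i, hi⟩ := hcov x
      refine ⟨X.basicOpen (f i), le_top, hi, ?_⟩
      have hu : IsUnit (X.presheaf.map (homOfLE (le_top : X.basicOpen (f i) ≤ ⊤)).op (f i)) :=
        RingedSpace.isUnit_res_basicOpen (X := X.toLocallyRingedSpace.toRingedSpace) (f i)
      have h0 := congrArg (X.presheaf.map (homOfLE (le_top : X.basicOpen (f i) ≤ ⊤)).op).hom
        ((Ideal.mem_bot).1 (hz i))
      rw [map_mul, map_pow, map_zero] at h0
      have h1 := (hu.pow (N i)).mul_left_eq_zero.1 h0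
      show X.presheaf.map _ (∏ i, s i) = X.presheaf.map _ 0
      rw [map_prod, map_zero]
      exact Finset.prod_eq_zero (Finset.mem_univ i) h1
    exact (hP.isPrime.prod_mem_iff.not.2 (by simpa using hs)) (this ▸ P.zero_mem)
  obtain ⟨q₀, hq₀⟩ := hS
  obtain ⟨p, -, hp⟩ := zorn_le_nonempty₀ {q : Ideal Γ(X, ⊤) | q.IsPrime ∧ q ≤ P ∧ ∃ i, f i ∉ q}
    (fun c hc hchain y hy ↦ by
      refine ⟨sSup c, ⟨?_, sSup_le fun z hz ↦ (hc hz).2.1, ?_⟩, fun z hz ↦ le_sSup hz⟩
      · refine ⟨fun he ↦ hP.ne_top (top_le_iff.1 (he ▸ sSup_le fun z hz ↦ (hc hz).2.1)),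
          fun {a b} hab ↦ ?_⟩
        obtain ⟨z, hz, hzab⟩ := (Submodule.mem_sSup_of_directed ⟨y, hy⟩ hchain.directedOn).1 hab
        exact ((hc hz).1.mem_or_mem hzab).imp (fun h ↦ le_sSup hz h) (fun h ↦ le_sSup hz h)
      · by_contra hall
        push Not at hall
        choose z hz hmem using fun i ↦ (Submodule.mem_sSup_of_directed ⟨y, hy⟩ hchain.directedOn).1
          (hall i)
        obtain ⟨w, hwc, hw⟩ : ∃ w ∈ c, ∀ i, z i ≤ w := by
          suffices ∀ t : Finset (Fin n), ∃ w ∈ c, ∀ i ∈ t, z i ≤ w by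
            obtain ⟨w, hwc, hw⟩ := this Finset.univ
            exact ⟨w, hwc, fun i ↦ hw i (Finset.mem_univ i)⟩
          intro t
          induction t using Finset.induction with
          | empty => exact ⟨y, hy, by simp⟩
          | insert i t _ ih =>
            obtain ⟨w, hwc, hw⟩ := ih
            obtain ⟨w', hw'c, h1, h2⟩ := hchain.directedOn w hwc (z i) (hz i)
            refine ⟨w', hw'c, fun j hj ↦ ?_⟩
            rcases Finset.mem_insert.1 hj with rfl | hj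
            exacts [h2, (hw j hj).trans h1]
        obtain ⟨i, hi⟩ := (hc hwc).2.2
        exact hi (hw i (hmem i))) q₀ hq₀
  obtain ⟨⟨hpp, hpP, i, hi⟩, hmax⟩ := hp
  haveI := hpp
  have hM : ∀ q : Ideal Γ(X, ⊤), q.IsPrime → p ⊔ Ideal.span {f i} ≤ q → q ≤ P → ∀ j, f j ∈ q := by
    intro q hq hle hqP j
    by_contra hj
    exact hi (hmax ⟨hq, hqP, j, hj⟩ (le_sup_left.trans hle)
      (hle (Ideal.mem_sup_right (Ideal.mem_span_singleton_self _))))
  choose N s hs hmem using key (p ⊔ Ideal.span {f i}) hM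
  let K : ℕ := Finset.univ.sup N
  let σ : Γ(X, ⊤) := ∏ j, s j
  have hσ : σ ∉ P := hP.isPrime.prod_mem_iff.not.2 (by simpa using hs)
  have hb : ∀ j, ∃ b, σ * f j ^ K - f i * b ∈ p := by
    intro j
    have h1 : σ * f j ^ K ∈ p ⊔ Ideal.span {f i} := by
      obtain ⟨c, hc⟩ := Finset.dvd_prod_of_mem s (Finset.mem_univ j)
      have hK : N j + (K - N j) = K := Nat.add_sub_cancel' (Finset.le_sup (Finset.mem_univ j))
      have e : σ * f j ^ K = (c * f j ^ (K - N j)) * (s j * f j ^ N j) := by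
        rw [show σ = s j * c from hc, ← hK, pow_add, Nat.add_sub_cancel_left]
        ring
      exact e ▸ Ideal.mul_mem_left _ _ (hmem j)
    obtain ⟨a, ha, c, hc, he⟩ := Submodule.mem_sup.1 h1
    obtain ⟨b, rfl⟩ := Ideal.mem_span_singleton'.1 hc
    exact ⟨b, by rw [← he, mul_comm b, add_sub_cancel_right]; exact ha⟩
  choose b hb using hb
  obtain ⟨T, ι, hT, hr, hsurj⟩ := h ⟨X.zeroLocus (p : Set Γ(X, ⊤)), X.zeroLocus_isClosed _⟩
  haveI := hT
  have hvan : ∀ a ∈ p, ι.app ⊤ a = 0 := fun a ha ↦ eq_zero_of_pt ι a fun z ↦ mem_pt.2 <| by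
    have : ι z ∈ X.zeroLocus (p : Set Γ(X, ⊤)) := hr.subset (Set.mem_range_self z)
    exact (X.mem_zeroLocus_iff _ _).1 this a ha
  let φ : Γ(X, ⊤) →+* Γ(T, ⊤) := (ι.app ⊤).hom
  let A : Fin n → T.Opens := fun j ↦ T.basicOpen (φ (f j))
  let r : ∀ j, Γ(T, ⊤) →+* Γ(T, A j) := fun j ↦ (T.presheaf.map (homOfLE le_top).op).hom
  have hu : ∀ j, IsUnit (r j (φ (f j)) ^ K) := fun j ↦
    (RingedSpace.isUnit_res_basicOpen (X := T.toLocallyRingedSpace.toRingedSpace) (φ (f j))).pow K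
  let t : ∀ j, Γ(T, A j) := fun j ↦ r j (φ (b j)) * ((hu j).unit⁻¹ : _ˣ)
  have ht : ∀ j, r j (φ (f i)) * t j = r j (φ σ) := by
    intro j
    have h0 : r j (φ (σ * f j ^ K - f i * b j)) = 0 :=
      (congrArg (r j) (show φ (σ * f j ^ K - f i * b j) = 0 from hvan _ (hb j))).trans (map_zero _)
    rw [map_sub, map_sub, map_mul, map_mul, map_pow, map_mul, map_mul, map_pow, sub_eq_zero] at h0
    show r j (φ (f i)) * (r j (φ (b j)) * _) = _
    rw [← mul_assoc, ← h0, mul_assoc, IsUnit.mul_val_inv, mul_one]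
  have hcompat : TopCat.Presheaf.IsCompatible T.presheaf A t := by
    intro j k
    let a₁ := (T.presheaf.map (Opens.infLELeft (A j) (A k)).op).hom
    let a₂ := (T.presheaf.map (Opens.infLERight (A j) (A k)).op).hom
    show a₁ (t j) = a₂ (t k)
    let ψ : Γ(X, ⊤) →+* Γ(T, A j ⊓ A k) := a₁.comp ((r j).comp φ)
    have e₂ : ∀ a, a₂ (r k (φ a)) = ψ a := fun a ↦ by
      show (T.presheaf.map _ ≫ T.presheaf.map _) (φ a) = (T.presheaf.map _ ≫ T.presheaf.map _) (φ a)
      rw [← Functor.map_comp, ← Functor.map_comp]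
      rfl
    have hp' : ψ (b j * f k ^ K - b k * f j ^ K) = 0 := by
      have hmem' : b j * f k ^ K - b k * f j ^ K ∈ p := by
        refine (hpp.mem_or_mem ?_).resolve_left hi
        have e : f i * (b j * f k ^ K - b k * f j ^ K) =
            (σ * f k ^ K - f i * b k) * f j ^ K - (σ * f j ^ K - f i * b j) * f k ^ K := by ring
        rw [e]
        exact p.sub_mem (p.mul_mem_right _ (hb k)) (p.mul_mem_right _ (hb j))
      show a₁ (r j (φ _)) = 0
      rw [show φ (b j * f k ^ K - b k * f j ^ K) = 0 from hvan _ hmem', map_zero, map_zero]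
    have hj : IsUnit (ψ (f j) ^ K) := by
      show IsUnit (a₁ (r j (φ (f j))) ^ K)
      rw [← map_pow]; exact (hu j).map a₁
    have hk : IsUnit (ψ (f k) ^ K) := by
      rw [← e₂, ← map_pow]; exact (hu k).map a₂
    have tj : a₁ (t j) * ψ (f j) ^ K = ψ (b j) := by
      show a₁ (r j (φ (b j)) * _) * (a₁ (r j (φ (f j)))) ^ K = a₁ (r j (φ (b j)))
      refine (congrArg (_ * ·) (map_pow a₁ _ K).symm).trans ((map_mul a₁ _ _).symm.trans ?_)
      rw [mul_assoc, IsUnit.val_inv_mul, mul_one]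
    have tk : a₂ (t k) * ψ (f k) ^ K = ψ (b k) := by
      rw [← e₂, ← e₂]
      show a₂ (r k (φ (b k)) * _) * _ = _
      refine (congrArg (_ * ·) (map_pow a₂ _ K).symm).trans ((map_mul a₂ _ _).symm.trans ?_)
      rw [mul_assoc, IsUnit.val_inv_mul, mul_one]
    refine (hj.mul hk).mul_right_cancel ?_
    rw [map_sub, map_mul, map_mul, map_pow, map_pow, sub_eq_zero] at hp'
    calc a₁ (t j) * (ψ (f j) ^ K * ψ (f k) ^ K) = ψ (b k) * ψ (f j) ^ K := by
          rw [← mul_assoc, tj, hp']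
      _ = a₂ (t k) * (ψ (f j) ^ K * ψ (f k) ^ K) := by rw [← tk]; ring
  have hAcov : (⊤ : T.Opens) ≤ iSup A := fun z _ ↦ by
    obtain ⟨j, hj⟩ := hcov (ι z)
    refine Opens.mem_iSup.2 ⟨j, ?_⟩
    show z ∈ T.basicOpen (ι.app ⊤ (f j))
    rw [← Scheme.preimage_basicOpen ι (f j)]
    exact hj
  obtain ⟨e, he, -⟩ := T.sheaf.existsUnique_gluing' A ⊤ (fun j ↦ homOfLE le_top) hAcov t hcompat
  obtain ⟨a, ha⟩ := hsurj e
  have hzero : φ (f i * a - σ) = 0 := by
    refine T.sheaf.eq_of_locally_eq' A ⊤ (fun j ↦ homOfLE le_top) hAcov _ _ fun j ↦ ?_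
    show r j (φ (f i * a - σ)) = r j 0
    rw [map_sub, map_mul, map_sub, map_mul, map_zero, show φ a = e from ha,
      show r j e = t j from he j, ht, sub_self]
  obtain ⟨x, hx⟩ := exists_pt (haff i) p hi
  have hxZ : x ∈ Set.range ⇑ι := by
    rw [hr]
    exact (X.mem_zeroLocus_iff _ _).2 fun c hc ↦ mem_pt.1 (hx.symm ▸ hc)
  obtain ⟨z, rfl⟩ := hxZ
  have hnp : f i * a - σ ∈ p := by
    rw [← hx, mem_pt]
    intro hz
    have hz' : z ∈ T.basicOpen (φ (f i * a - σ)) := by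
      show z ∈ T.basicOpen (ι.app ⊤ _)
      rw [← Scheme.preimage_basicOpen ι]
      exact hz
    rw [hzero, Scheme.basicOpen_zero] at hz'
    exact hz'
  refine hσ ?_
  have h2 := P.sub_mem (P.mul_mem_right a (hfP (Ideal.subset_span ⟨i, rfl⟩))) (hpP hnp)
  rwa [sub_sub_cancel] at h2

/-- Affineness from lifting of functions. -/
theorem isAffine [CompactSpace X] [QuasiSeparatedSpace X] (h : LiftsFun X) : IsAffine X := by
  let ι := {f : Γ(X, ⊤) // IsAffineOpen (X.basicOpen f)}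
  have hcov : ∀ x : X, ∃ f : ι, x ∈ X.basicOpen f.1 := by
    by_contra hn
    push Not at hn
    obtain ⟨x, hx⟩ := hn
    let S : Set X := (⋃ f : ι, (X.basicOpen f.1 : Set X))ᶜ
    have hS : IsClosed S := (isOpen_iUnion fun f : ι => (X.basicOpen f.1).2).isClosed_compl
    obtain ⟨y, hyS, hy⟩ := hS.exists_closed_singleton ⟨x, by simpa [S] using hx⟩
    obtain ⟨f, hyf, hf⟩ := exists_basicOpen h hy
    exact hyS (Set.mem_iUnion.mpr ⟨⟨f, hf⟩, hyf⟩)
  obtain ⟨s, hs⟩ := (isCompact_univ (X := X)).elim_finite_subcover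
    (fun f : ι => (X.basicOpen f.1 : Set X)) (fun f => (X.basicOpen f.1).2)
    (fun x _ => Set.mem_iUnion.mpr (hcov x))
  let f : Fin s.card → Γ(X, ⊤) := fun i => (s.equivFin.symm i).1.1
  refine isAffine_of_isAffineOpen_basicOpen (Set.range f) ?_ ?_
  · refine span_eq_top h f (fun i => (s.equivFin.symm i).1.2) fun x => ?_
    obtain ⟨g, hg, hxg⟩ := Set.mem_iUnion₂.mp (hs (Set.mem_univ x))
    exact ⟨s.equivFin ⟨g, hg⟩, by simpa [f] using hxg⟩
  · rintro _ ⟨i, rfl⟩
    exact (s.equivFin.symm i).1.2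

end Groth.Agent.Lib.CohDelta.SerreRad
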