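import Groth.Agent.Lib.CohDelta.Flasque
import Groth.Agent.Lib.CohDelta.Basic
import Mathlib.CategoryTheory.Abelian.RightDerived

/-!
# Cohomology through an injective resolution

For the syzygies `Z n` of an injective resolution of an O-module, every class in
`Hᵖ(U, Z 0)` is `s` composed with the iterated extension class, `s ∈ Γ(U, Z p)`, uniquely up to the
image of `Γ(U, I^(p-1))`; and `Rᵖ⁺¹ f_* = coker(f_* I^p → f_* Z (p+1))`.
-/

set_option linter.style.haveILetI false
set_option maxHeartbeats 1000000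

universe u

open CategoryTheory CategoryTheory.Limits AlgebraicGeometry TopologicalSpace Opposite
open CategoryTheory.Abelian
open Groth.Agent.Lib.ZarCoh.Basic Groth.Agent.Lib.CohDelta.Basic

namespace Groth.Agent.Lib.CohDelta.Syzygy

variable {X S : Scheme.{u}} {M : X.Modules} (I : InjectiveResolution M)

/-- The syzygies. -/
noncomputable abbrev Z (n : ℕ) : X.Modules := kernel (I.cocomplex.d n (n + 1))

/-- `Iⁿ ⟶ Zⁿ⁺¹`. -/
noncomputable def t (n : ℕ) : I.cocomplex.X n ⟶ Z I (n + 1) :=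
  kernel.lift _ (I.cocomplex.d n (n + 1)) (I.cocomplex.d_comp_d _ _ _)

@[reassoc]
theorem t_ι (n : ℕ) : t I n ≫ kernel.ι _ = I.cocomplex.d n (n + 1) := kernel.lift_ι _ _ _

/-- `0 → Zⁿ → Iⁿ → Zⁿ⁺¹ → 0`. -/
noncomputable def seq (n : ℕ) : ShortComplex X.Modules :=
  ShortComplex.mk (kernel.ι (I.cocomplex.d n (n + 1)) : Z I n ⟶ I.cocomplex.X n) (t I n) (by
    apply (cancel_mono (kernel.ι (I.cocomplex.d (n + 1) (n + 1 + 1)))).1
    rw [Category.assoc, t_ι, kernel.condition, zero_comp])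

theorem seq_shortExact (n : ℕ) : (seq I n).ShortExact := by
  have he : (I.cocomplex.sc' n (n + 1) (n + 1 + 1)).Exact :=
    (I.cocomplex.exactAt_iff' n (n + 1) (n + 1 + 1) (by simp) (by simp)).1
      (I.cocomplex_exactAt_succ n)
  haveI hepi : Epi (t I n) := (ShortComplex.exact_iff_epi_kernel_lift _).1 he
  haveI : Mono (seq I n).f := equalizer.ι_mono
  haveI : Epi (seq I n).g := hepi
  refine { exact := ShortComplex.exact_of_f_is_kernel _ ?_ }
  refine KernelFork.IsLimit.ofι' _ _ fun {A} k hk ↦ ⟨kernel.lift _ k ?_, kernel.lift_ι _ _ _⟩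
  exact (congrArg (fun a ↦ (show A ⟶ I.cocomplex.X n from k) ≫ a) (t_ι I n).symm).trans
    ((Category.assoc _ _ _).symm.trans ((congrArg (fun a ↦ a ≫ kernel.ι _) hk).trans zero_comp))

/-- `M ≅ Z⁰`. -/
noncomputable def augIso : M ≅ Z I 0 :=
  (I.isLimitKernelFork.conePointUniqueUpToIso (limit.isLimit _))

/-- The extension class of `seq n`. -/
noncomputable def cls (n : ℕ) : Ext.{u} (Coh.toAb (Z I (n + 1))) (Coh.toAb (Z I n)) 1 :=
  (abS_shortExact (seq_shortExact I n)).extClass

/-- The iterated extension class. -/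
noncomputable def iter : (p : ℕ) → Ext.{u} (Coh.toAb (Z I p)) (Coh.toAb (Z I 0)) p
  | 0 => Ext.mk₀ (𝟙 _)
  | p + 1 => (cls I p).comp (iter p) (by omega)

theorem iter_succ (p : ℕ) : iter I (p + 1) = (cls I p).comp (iter I p) (by omega) := rfl

theorem comp_cls_surjective (U : X.Opens) (n q : ℕ)
    (y : Ext.{u} (Zs.obj U) (Coh.toAb (Z I n)) (q + 1)) :
    ∃ z : Ext.{u} (Zs.obj U) (Coh.toAb (Z I (n + 1))) q, z.comp (cls I n) rfl = y :=
  haveI : Injective (seq I n).X₂ := I.injective n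
  Ext.covariant_sequence_exact₁.{u} (Zs.obj U) (abS_shortExact (seq_shortExact I n)) y
    ((Flasque.subsingleton_HU (seq I n).X₂ U q).elim _ _) rfl

theorem comp_cls_injective (U : X.Opens) (n q : ℕ)
    (z : Ext.{u} (Zs.obj U) (Coh.toAb (Z I (n + 1))) (q + 1))
    (hz : z.comp (cls I n) rfl = 0) : z = 0 := by
  haveI : Injective (seq I n).X₂ := I.injective n
  obtain ⟨i, hi⟩ := Ext.covariant_sequence_exact₃.{u} (Zs.obj U)
    (abS_shortExact (seq_shortExact I n)) z rfl hz
  refine hi.symm.trans ?_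
  rw [show i = 0 from (Flasque.subsingleton_HU (seq I n).X₂ U q).elim _ _]
  exact Ext.zero_comp _ _ _ _ _

theorem comp_iter_succ (U : X.Opens) (p q r : ℕ) (h : q + (p + 1) = r)
    (z : Ext.{u} (Zs.obj U) (Coh.toAb (Z I (p + 1))) q) :
    z.comp (iter I (p + 1)) h =
      (z.comp (cls I p) (rfl : q + 1 = q + 1)).comp (iter I p) (by omega) :=
  (Ext.comp_assoc z (cls I p) (iter I p) rfl (by omega) (by omega)).symm

theorem comp_iter_surjective (U : X.Opens) :
    ∀ (p q r : ℕ) (h : q + p = r) (y : Ext.{u} (Zs.obj U) (Coh.toAb (Z I 0)) r),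
      ∃ z : Ext.{u} (Zs.obj U) (Coh.toAb (Z I p)) q, z.comp (iter I p) h = y
  | 0, q, r, h, y => by
    obtain rfl : q = r := h
    exact ⟨y, Ext.comp_mk₀_id y⟩
  | p + 1, q, r, h, y => by
    obtain ⟨z, hz⟩ := comp_iter_surjective U p (q + 1) r (by omega) y
    obtain ⟨w, hw⟩ := comp_cls_surjective I U p q z
    exact ⟨w, (comp_iter_succ I U p q r h w).trans (hw.symm ▸ hz)⟩

theorem comp_iter_injective (U : X.Opens) :
    ∀ (p q r : ℕ) (h : q + 1 + p = r) (z : Ext.{u} (Zs.obj U) (Coh.toAb (Z I p)) (q + 1)),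
      z.comp (iter I p) h = 0 → z = 0
  | 0, q, r, h, z, hz => by
    obtain rfl : q + 1 = r := h
    exact (Ext.comp_mk₀_id z).symm.trans hz
  | p + 1, q, r, h, z, hz => by
    rw [comp_iter_succ] at hz
    exact comp_cls_injective I U p q z (comp_iter_injective U p (q + 1) r _ _ hz)

theorem symm_add {T : TopCat.{u}} (U : Opens T) (G : CohTop.Ab T) (a b : G.obj.obj (op U)) :
    (homEquiv U G).symm (a + b) = (homEquiv U G).symm a + (homEquiv U G).symm b := by
  apply (homEquiv U G).injective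
  rw [homEquiv_add, Equiv.apply_symm_apply, Equiv.apply_symm_apply, Equiv.apply_symm_apply]

/-- The class of a section of `Zᵖ`. -/
noncomputable def c (U : X.Opens) (p : ℕ) :
    Γ(Z I p, U) →+ Ext.{u} (Zs.obj U) (Coh.toAb (Z I 0)) p where
  toFun s := (Ext.mk₀ ((homEquiv U (Coh.toAb (Z I p))).symm s)).comp (iter I p) (zero_add p)
  map_zero' := by
    have h := symm_add U (Coh.toAb (Z I p)) 0 0
    rw [add_zero, left_eq_add] at h
    exact (congrArg (fun k ↦ (Ext.mk₀ k).comp (iter I p) (zero_add p)) h).trans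
      (by rw [Ext.mk₀_zero, Ext.zero_comp])
  map_add' a b := (congrArg (fun k ↦ (Ext.mk₀ k).comp (iter I p) (zero_add p))
      (symm_add U (Coh.toAb (Z I p)) a b)).trans (by rw [Ext.mk₀_add, Ext.add_comp])

theorem c_surjective (U : X.Opens) (p : ℕ) : Function.Surjective (c I U p) := by
  intro y
  obtain ⟨z, hz⟩ := comp_iter_surjective I U p 0 p (zero_add p) y
  obtain ⟨g, rfl⟩ := (Ext.mk₀_bijective _ _).2 z
  refine ⟨homEquiv U (Coh.toAb (Z I p)) g, ?_⟩
  exact (congrArg (fun k ↦ (Ext.mk₀ k).comp (iter I p) (zero_add p))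
    ((homEquiv U (Coh.toAb (Z I p))).symm_apply_apply g)).trans hz

theorem c_eq_zero_iff (U : X.Opens) (p : ℕ) (s : Γ(Z I (p + 1), U)) :
    c I U (p + 1) s = 0 ↔ ∃ i : Γ(I.cocomplex.X p, U), (t I p).app U i = s := by
  let g := (homEquiv U (Coh.toAb (Z I (p + 1)))).symm s
  have hg : homEquiv U (Coh.toAb (Z I (p + 1))) g = s := Equiv.apply_symm_apply _ _
  have e : c I U (p + 1) s = ((Ext.mk₀ g).comp (cls I p) (rfl : 0 + 1 = 0 + 1)).comp (iter I p)
      (by omega) := comp_iter_succ I U p 0 (p + 1) (zero_add _) (Ext.mk₀ g)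
  constructor
  · intro h
    obtain ⟨i, hi⟩ := Ext.covariant_sequence_exact₃.{u} (Zs.obj U)
      (abS_shortExact (seq_shortExact I p)) (Ext.mk₀ g) (n₁ := 1) rfl
      (comp_iter_injective I U p 0 (p + 1) _ _ (e.symm.trans h))
    obtain ⟨i, rfl⟩ := (Ext.mk₀_bijective _ _).2 i
    rw [Ext.mk₀_comp_mk₀] at hi
    refine ⟨homEquiv U (Coh.toAb (I.cocomplex.X p)) i, ?_⟩
    exact (homEquiv_comp i (abMap (t I p))).symm.trans
      ((congrArg (homEquiv U (Coh.toAb (Z I (p + 1)))) ((Ext.mk₀_bijective _ _).1 hi)).trans hg)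
  · rintro ⟨i, rfl⟩
    have hgi : g = (homEquiv U (Coh.toAb (I.cocomplex.X p))).symm i ≫ abMap (t I p) := by
      apply (homEquiv U (Coh.toAb (Z I (p + 1)))).injective
      rw [homEquiv_comp, hg]
      exact (congrArg (fun a ↦ (abMap (t I p)).hom.app (op U) a)
        ((homEquiv U (Coh.toAb (I.cocomplex.X p))).apply_symm_apply i)).symm
    refine e.trans ?_
    rw [hgi]
    exact (congrArg (fun k ↦ Ext.comp k (iter I p) (by omega))
      (mk₀_comp_g_comp_extClass (abS_shortExact (seq_shortExact I p)) _)).trans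
      (Ext.zero_comp _ _ _ _ _)

theorem c_rs {U V : X.Opens} (h : V ≤ U) (p : ℕ) (s : Γ(Z I p, U)) :
    rs (Coh.toAb (Z I 0)) p h (c I U p s) =
      c I V p ((Z I p).presheaf.map (homOfLE h).op s) := by
  refine (rs_comp 0 (zero_add p) h _ (iter I p)).trans ?_
  refine congrArg (fun k ↦ Ext.comp k (iter I p) (zero_add p)) ?_
  refine (rs_mk₀ _ h _).trans (congrArg Ext.mk₀ ?_)
  apply (homEquiv V (Coh.toAb (Z I p))).injective
  rw [homEquiv_res]
  exact (congrArg (fun a ↦ (Coh.toAb (Z I p)).obj.map (homOfLE h).op a)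
    ((homEquiv U (Coh.toAb (Z I p))).apply_symm_apply s)).trans
      ((homEquiv V (Coh.toAb (Z I p))).apply_symm_apply _).symm

/-! ### Higher direct images -/

variable (f : X ⟶ S)

/-- `coker(f_* I^p → f_* Z^(p+1))`. -/
noncomputable def R (p : ℕ) : S.Modules :=
  cokernel ((Scheme.Modules.pushforward f).map (t I p))

/-- `Rᵖ⁺¹ f_* M = coker(f_* I^p → f_* Z^(p+1))`. -/
theorem nonempty_rightDerived_iso [HasInjectiveResolutions X.Modules] (p : ℕ) :
    Nonempty (((Scheme.Modules.pushforward f).rightDerived (p + 1)).obj M ≅ R I f p) := by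
  haveI : PreservesLimitsOfSize.{0, 0} (Scheme.Modules.pushforward f) :=
    (Scheme.Modules.pullbackPushforwardAdjunction f).rightAdjoint_preservesLimits
  let P := Scheme.Modules.pushforward f
  let K := (P.mapHomologicalComplex (ComplexShape.up ℕ)).obj I.cocomplex
  let sc := K.sc' p (p + 1) (p + 1 + 1)
  have wi : P.map (kernel.ι (I.cocomplex.d (p + 1) (p + 1 + 1))) ≫ sc.g = 0 :=
    ((P.map_comp _ _).symm.trans (congrArg P.map (kernel.condition _))).trans (P.map_zero _ _)
  let hi : IsLimit (KernelFork.ofι _ wi) :=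
    isLimitForkMapOfIsLimit' P (kernel.condition _) (kernelIsKernel (I.cocomplex.d (p + 1) (p + 1 + 1)))
  have hlift : hi.lift (KernelFork.ofι sc.f sc.zero) = P.map (t I p) := by
    apply Fork.IsLimit.hom_ext hi
    refine (Fork.IsLimit.lift_ι hi).trans ?_
    exact (congrArg P.map (t_ι I p)).symm.trans (P.map_comp _ _)
  haveI : Epi (cokernel.π ((Scheme.Modules.pushforward f).map (t I p))) := coequalizer.π_epi
  let D : sc.LeftHomologyData :=
    { K := P.obj (Z I (p + 1))
      H := R I f p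
      i := P.map (kernel.ι _)
      π := cokernel.π _
      wi := wi
      hi := hi
      wπ := by
        show hi.lift (KernelFork.ofι sc.f sc.zero) ≫ _ = 0
        rw [hlift]
        exact cokernel.condition _
      hπ := CokernelCofork.IsColimit.ofπ _ _
        (fun {A} k hk ↦ cokernel.desc _ k (hlift ▸ hk))
        (fun {A} k hk ↦ cokernel.π_desc _ _ _)
        (fun {A} k hk m hm ↦ (cancel_epi (cokernel.π ((Scheme.Modules.pushforward f).map (t I p)))).1
          (hm.trans (cokernel.π_desc _ _ _).symm)) }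
  exact ⟨I.isoRightDerivedObj P (p + 1) ≪≫ K.homologyIsoSc' p (p + 1) (p + 1 + 1) (by simp) (by simp)
    ≪≫ D.homologyIso⟩

end Groth.Agent.Lib.CohDelta.Syzygy
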